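import Cfsg.Agent.U6R.Uq
import Cfsg.Agent.Invol.ZS
import Cfsg.Agent.LES.Core
import Cfsg.Agent.S0822
import Cfsg.Agent.S0814

/-! Assembly of the recognition of `U₆(2)` from `2^{1+8}.U₄(2)` (helper24): `NF.gd`, `exists_NF`, `recog`. -/

set_option autoImplicit false
set_option linter.unusedSectionVars false

namespace Cfsg.Agent.U6R

open Cfsg.Agent.Fischer Cfsg.Agent.FI Cfsg.Agent.Classical Subgroup Cfsg.Agent.BG Cfsg.Agent.LES Cfsg.Agent.PGrp Module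

universe u
variable {F : Type*} [Field F] [Fintype F] [hF : Fact (Fintype.card F = 2 ^ 2)]
variable {G : Type u} [Group G] [Finite G] {z t g : G} {Q H K : Subgroup G} {p : G → Fin 4 → F}
  {φ : (Fin 4 → F) → ZMod 2} {β : (Fin 4 → F) →+ (Fin 4 → F) →+ ZMod 2} {ν : G → (Fin 4 → F) →+ (Fin 4 → F)}

theorem card_two (h1 : H ≤ K) (h2 : ∀ a ∈ K, ∀ b ∈ K, a ∉ H → b ∉ H → a * b ∈ H) : K = H ∨ #K = 2 * #H := by
  refine or_iff_not_imp_left.2 fun n => ?_
  obtain ⟨x, hx, k⟩ := SetLike.not_le_iff_exists.1 fun e => n (le_antisymm e h1)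
  have := half h2
  rw [inf_eq_right.2 h1] at this
  exact le_antisymm this (dbl h1 hx k)

theorem NF.gd (N : NF z Q H p φ β ν) (ne : t ∈ Dd (conjugatesOf z) z) (su : ∀ h ∈ H, ∃ g : SU 4 F 2, ∀ v, ν h v = g • v)
    (hc : #H = 2 ^ 15 * 405) : GD F (conjugatesOf z) := by
  have key : ∀ d ∈ conjugatesOf z, ∃ Q H p ν, NF d Q H p φ β ν ∧ conjugatesOf z = conjugatesOf d ∧
      (∃ t, t ∈ Dd (conjugatesOf d) d) ∧ (∀ h ∈ H, ∃ g : SU 4 F 2, ∀ v, ν h v = g • v) ∧ #H = 2 ^ 15 * 405 := fun d hd => by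
    obtain ⟨g, rfl⟩ := isConj_iff.1 hd
    have e := IsConj.conjugatesOf_eq hd
    exact ⟨_, _, _, _, N.conj g, e, ⟨g * t * g⁻¹, e ▸ CM.conj_mem g ne.1, mt (conj_inj g).1 ne.2.1,
      (commute_conj_iff g).2 ne.2.2⟩, fun h hh => su _ (mem_cj.1 hh), (card_map_of_injective (MulEquiv.injective _)).trans hc⟩
  refine ⟨fun _ => N.sqD, fun g _ => CM.conj_mem g, fun d hd => ?_, fun d hd c h => ?_, fun d hd => ?_, fun d hd K h => ?_⟩ <;>
    obtain ⟨Q, H, p, ν, N, e, ⟨t, ne⟩, su, hc⟩ := key d hd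
  · exact ⟨_, e ▸ N.lg ne su⟩
  · exact e ▸ N.gen ne su ((em (c ∈ H)).elim (fun k => mul_mem k k) fun k => N.two h h k k)
  · exact ⟨Q, N.es.pg, e ▸ N.genQ ne, fun y k => N.le.cQ y fun q hq => (k q hq).symm⟩
  rw [← inf_subgroupOf_right, Nat.card_congr (subgroupOfEquivOfLe inf_le_right).toEquiv]
  rcases card_two (K := C1[d] ⊓ K) (le_inf (fun _ h => mem_cent1.2 (N.Hz h)) ((N.gen ne su).trans (e ▸ h)))
    fun a ha b hb => N.two (mem_cent1.1 ha.1) (mem_cent1.1 hb.1) with k | k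
  · exact ⟨15, .inl rfl, by rw [k, hc]⟩
  · exact ⟨16, .inr rfl, by rw [k, hc]; rfl⟩

theorem ex_hom {X : Type*} [Group X] (f : X → (Fin 4 → F) →+ (Fin 4 → F)) (mul : ∀ a b v, f (a * b) v = f a (f b v))
    (hβ : ∀ u v, hn u v + hn v u = c2 F (β u v)) (lin : ∀ a (c : F) v, f a (c • v) = c • f a v)
    (iso : ∀ a u v, β (f a u) (f a v) = β u v) : ∃ ψ : X →* GU 4 F 2, ∀ a v, ψ a • v = f a v := by
  have : ∀ a, ∃ g : GU 4 F 2, ∀ v, g • v = f a v := fun g => by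
    refine ⟨guMk (LinearMap.toMatrix' ⟨(f g).toAddHom, lin g⟩) fun u v => ?_, LinearMap.toMatrix'_mulVec _⟩
    rw [LinearMap.toMatrix'_mulVec, LinearMap.toMatrix'_mulVec]
    show hn (f g u) (f g v) = hn u v
    have a := (hβ (f g u) (f g v)).trans ((congrArg _ (iso g u v)).trans (hβ u v).symm)
    have b := (hβ (f g (om F • u)) (f g v)).trans ((congrArg _ (iso g _ v)).trans (hβ _ v).symm)
    rw [lin, ← hC (om F • f g u), ← hC (om F • u), hSl, hSl] at b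
    rw [← hC (f g u), ← hC u] at a
    refine eq_of_add f4_add_self (tr_zero ?_ ?_)
    · linear_combination a + (hn u v + hn u v ^ 2 + hn (f g u) (f g v) * hn u v) * f4_two (F := F)
    · linear_combination b + (om F * hn u v + (om F * hn u v) ^ 2 + om F ^ 2 * hn (f g u) (f g v) * hn u v) * f4_two (F := F)
  choose ψ e using this
  exact ⟨.mk' ψ fun a b => gu_ext fun v => by rw [mul_smul, e, e, e, mul], e⟩

theorem scal (T : (Fin 4 → F) →+ (Fin 4 → F)) (h : ∀ y, Ison y → ∀ v, T (tvn y v) = tvn y (T v))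
    (h2 : ∀ v, T (T v) = T v + v) : (∀ v, T v = om F • v) ∨ ∀ v, T v = om F ^ 2 • v := by
  have k : ∀ y, Ison y → ∃ e : F, (e = om F ∨ e = om F ^ 2) ∧ T y = e • y ∧ ∀ v, hn (T v) y = e * hn v y := fun y i => by
    have a : ∀ v, T (hn v y • y) = hn (T v) y • y := fun v => by simpa [tvn] using h y i v
    obtain ⟨u, -, uy⟩ := exists_iso_partner i.1 i.2
    have b := a u
    rw [show hn u y = 1 from uy, one_smul] at b
    have c := h2 y
    obtain ⟨e, he⟩ : ∃ e, e = hn (T u) y := ⟨_, rfl⟩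
    rw [← he] at b
    have o := om_sq (F := F)
    have f : (e = om F ∨ e = om F ^ 2) ∧ T (om F • y) = (e * om F) • y := by
      rcases f4_cases e with rfl | rfl | rfl | rfl <;> rw [b] at c
      · exact absurd (by simpa using c.symm) i.1
      · rw [one_smul] at b c; rw [b, left_eq_add] at c; exact absurd c i.1
      · exact ⟨.inl rfl, by rw [c, ← pow_two, o, add_smul, one_smul]⟩
      · refine ⟨.inr o.symm, ?_⟩
        rw [add_smul, one_smul, map_add, b, add_assoc, vn_add_self, add_zero] at c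
        rw [← add_left_inj ((om F + 1) • y), c, ← add_smul]; congr 1
        linear_combination -o - (om F + 1) * f4_two (F := F)
    refine ⟨e, f.1, b, fun v => smul_left_injective F i.1 ?_⟩
    simp only [← a]
    rcases f4_cases (hn v y) with k | k | k | k <;> simp [k, b, f.2, add_smul, mul_add]
  obtain ⟨y, i⟩ := exists_isotropic (F := F) (q := 2) (n := 4) (by omega)
  obtain ⟨e, e1, -, e3⟩ := k y i
  have : ∀ v, T v = e • v := fun v => eq_of_add vn_add_self (by_contra fun n => by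
    obtain ⟨w, iw, n⟩ := ex_iso n
    obtain ⟨x, x1, x2, x3⟩ := exists_iso_both i.1 iw.1 i.2 iw.2
    obtain ⟨e', -, a, -⟩ := k x ⟨fun h => x2 (by simp [h]), x1⟩
    obtain ⟨e'', -, -, b⟩ := k w iw
    have c1 := e3 x
    have c2 := b x
    rw [a, hSl, mul_left_inj' (by assumption)] at c1 c2
    exact n (by rw [hAl, hSl, b, ← c1, c2, f4_add_self]))
  rcases e1 with rfl | rfl
  exacts [.inl this, .inr this]

theorem card_gu : Nat.card (GU 4 F 2) = 77760 := by rw [card_GU]; decide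
theorem card_su : Nat.card (SU 4 F 2) = 25920 := by
  have := card_SU_mul (F := F) (n := 4) (q := 2) (by decide)
  rw [card_gu] at this; omega

variable (π : H →* SU 4 F 2) (sπ : Function.Surjective π) (kπ : ∀ a, π a = 1 ↔ a.1 ∈ Q)
include sπ kπ

theorem cardH (QH : Q ≤ H) (hQ : #Q = 2 ^ 9) : #H = 2 ^ 9 * 25920 := by
  rw [← π.ker.card_mul_index, index_ker, MonoidHom.range_eq_top.2 sπ, card_top, card_su,
    show π.ker = Q.subgroupOf H from ext fun a => kπ a, Nat.card_congr (subgroupOfEquivOfLe QH).toEquiv, hQ]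

theorem exists_NF {V : Type u} [AddCommGroup V] [Finite V] [Module (ZMod 2) V] {p : G → V} {φ : V → ZMod 2}
    {β : V →+ V →+ ZMod 2} {ν : G → V →+ V} (E : Fm z Q H p φ β ν) :
    (∃ (p : G → Fin 4 → F) (φ : _) (β : _) (ν : _), NF z Q H p φ β ν ∧ ∀ h ∈ H, ∃ g : SU 4 F 2, ∀ v, ν h v = g • v) ∨
      ∃ u u', β u u' = 1 ∧ ∀ h ∈ H, ν h u = u ∧ ν h u' = u' := by
  obtain ⟨σ, hσ⟩ := sπ.hasRightInverse
  have eq : ∀ {a b : H}, π a = π b → ∀ v, ν a v = ν b v := fun {a b} e v => by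
    rw [← E.nu_inv' (E.Hz b.2) (ν a v), ← E.nu_mul (E.Hz b.2).inv_left (E.Hz a.2),
      E.nu_Q (a := b.1⁻¹ * a.1) ((kπ (b⁻¹ * a)).1 (by rw [map_mul, map_inv, e, inv_mul_cancel]))]
  have mul : ∀ a b v, ν (σ (a * b)) v = ν (σ a) (ν (σ b) v) := fun a b v =>
    (eq (b := σ a * σ b) (by rw [map_mul, hσ, hσ, hσ]) v).trans (E.nu_mul (E.Hz (σ a).2) (E.Hz (σ b).2) v)
  letI : DistribMulAction (SU 4 F 2) V :=
    { smul s v := ν (σ s) v
      one_smul := E.nu_Q ((kπ _).1 (hσ 1))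
      mul_smul := mul
      smul_zero s := map_zero (ν (σ s))
      smul_add s := map_add (ν (σ s)) }
  have fa : ∀ s : SU 4 F 2, (∀ v, ν (σ s) v = v) → s = 1 := fun s h => (hσ s).symm.trans ((kπ _).2 (E.ker (E.Hz (σ s).2) h))
  have eq' : ∀ h (hh : h ∈ H) v, ν h v = ν (σ (π ⟨h, hh⟩)) v := fun h hh => eq (a := ⟨h, hh⟩) (hσ _).symm
  obtain ⟨J, J2, Jφ, Jg⟩ | ⟨u, u', h1, h2⟩ := dich (F := F) E.h2 E.card φ β E.pol E.nd (fun s => E.nu_phi (E.Hz (σ s).2)) fa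
  swap
  · exact .inr ⟨u, u', h1, fun h hh => by rw [eq' h hh, eq' h hh]; exact h2 _⟩
  obtain ⟨m, ι, i1, i2, i3⟩ := exists_herm_iso (F := F) φ β E.pol E.nd J J2 Jφ
  obtain rfl : m = 4 := by
    have := (Nat.card_congr ι.toEquiv).symm.trans E.card
    rw [Nat.card_fun, Nat.card_eq_fintype_card, hF.out, Nat.card_fin] at this
    exact Nat.pow_right_injective (by decide : 2 ≤ 2 ^ 2) this
  have E' := E.map ι
  obtain ⟨ν', hν⟩ : ∃ ν' : G → (Fin 4 → F) →+ (Fin 4 → F),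
    ν' = fun g => ι.toAddMonoidHom.comp ((ν g).comp ι.symm.toAddMonoidHom) := ⟨_, rfl⟩
  obtain ⟨β', hβ⟩ : ∃ β' : (Fin 4 → F) →+ (Fin 4 → F) →+ ZMod 2,
    β' = (β.comp ι.symm.toAddMonoidHom).compl₂ ι.symm.toAddMonoidHom := ⟨_, rfl⟩
  rw [← hν, ← hβ] at E'
  have b : ∀ u v, hn u v + hn v u = c2 F (β' u v) := fun u v => by simpa [hβ] using i3 (ι.symm u) (ι.symm v)
  have sc : ∀ (g : G) (e : F), (∀ v, ν' g (om F • v) = e • ν' g v) → ∀ (c : F) v,
      (e = om F → ν' g (c • v) = c • ν' g v) ∧ (e = om F ^ 2 → ν' g (c • v) = c ^ 2 • ν' g v) := fun g e h c v => by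
    refine ⟨?_, ?_⟩ <;> rintro rfl <;> rcases f4_cases c with rfl | rfl | rfl | rfl <;> simp [h, add_smul]
    rw [← om_sq, f4_pow4, om_sq, add_smul, one_smul, add_assoc, vn_add_self, add_zero]
  have lin : ∀ {h}, h ∈ H → ∀ (c : F) v, ν' h (c • v) = c • ν' h v := fun {h} hh c v => (sc h _ (fun v => by
    obtain ⟨v, rfl⟩ := ι.surjective v
    have : J (ν h v) = ν h (J v) := by rw [eq' h hh, eq' h hh]; exact Jg _ v
    simp [hν, ← i1, this]) c v).1 rfl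
  obtain ⟨ψ, hψ⟩ := ex_hom (fun s => ν' (σ s)) (fun a b v => by simp [hν, mul]) b (fun s => lin (σ s).2)
    fun s => E'.nu_beta (E.Hz (σ s).2)
  have : ∀ s, ∃ s' : SU 4 F 2, ∀ v, ν' (σ s) v = s' • v := fun s => by
    obtain ⟨s', e⟩ := range_suToGU.ge (Abelianization.commutator_subset_ker ((guDet 4 F 2).comp ψ)
      ((commutator_SU_eq_top (by decide) (by decide)).ge (mem_top s)))
    exact ⟨s', fun v => by rw [← hψ, ← e, suToGU_smul]⟩
  choose τ hτ using this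
  have sτ : τ.Surjective := Finite.injective_iff_surjective.1 fun a b e => inv_mul_eq_one.1 (fa _ fun v => by
    have := (hτ a (ι v)).trans (e ▸ (hτ b (ι v)).symm)
    simp only [hν, AddMonoidHom.comp_apply, AddEquiv.coe_toAddMonoidHom, ι.symm_apply_apply, ι.apply_eq_iff_eq] at this
    rw [mul, ← this, ← mul, inv_mul_cancel, E.nu_Q ((kπ _).1 (hσ 1))])
  have tv : ∀ y, Ison y → ∃ h ∈ H, ∀ v, ν' h v = tvn y v := fun y i =>
    let ⟨s, e⟩ := sτ (sTn y); ⟨_, (σ s).2, fun v => by rw [hτ, e, sTn_smul i.2]⟩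
  refine .inl ⟨_, _, β', ν', ⟨E', fun v => by simpa using i2 (ι.symm v), b, lin, fun {g} hg n c v => ?_, tv⟩,
    fun h hh => ⟨τ (π ⟨h, hh⟩), fun v => by rw [← hτ]; simp [hν, eq' h hh]⟩⟩
  have := scal ((ν' g).comp ((DistribSMul.toAddMonoidHom _ (om F)).comp (ν' g⁻¹))) (fun y i v => by
    obtain ⟨h, hh, e⟩ := tv y i
    have m := E'.nrm hg.inv_left hh
    have k : ∀ v, ν' g⁻¹ (ν' h v) = ν' (g⁻¹ * h * g⁻¹⁻¹) (ν' g⁻¹ v) := fun v => by
      rw [← E'.nu_mul (E.Hz m) hg.inv_left, inv_mul_cancel_right,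
        E'.nu_mul hg.inv_left (E.Hz hh)]
    simp only [← e, AddMonoidHom.comp_apply, DistribSMul.toAddMonoidHom_apply]
    rw [k, ← lin m, ← E'.nu_mul hg (E.Hz m), ← E'.nu_mul (E.Hz hh) hg]; congr 2; group) fun v => by
      simp only [AddMonoidHom.comp_apply, DistribSMul.toAddMonoidHom_apply]
      rw [E'.nu_inv hg, smul_smul, ← pow_two, om_sq, add_smul, one_smul, map_add, E'.nu_inv' hg]
  simp only [AddMonoidHom.comp_apply, DistribSMul.toAddMonoidHom_apply] at this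
  have := this.resolve_left fun k => ?_
  · exact (sc g _ (fun v => by simpa only [E'.nu_inv hg] using this (ν' g v)) c v).2 rfl
  have lg := fun c v => (sc g _ (fun v => by simpa only [E'.nu_inv hg] using k (ν' g v)) c v).1 rfl
  obtain ⟨ψ, hψ⟩ := ex_hom (fun a : C1[z] => ν' a) (fun a b => E'.nu_mul (mem_cent1.1 a.2) (mem_cent1.1 b.2)) b
    (fun a c v => by
      by_cases k : a.1 ∈ H
      · exact lin k c v
      have m := E.two (mem_cent1.1 a.2) hg.inv_left k (by rwa [inv_mem_iff])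
      rw [← inv_mul_cancel_right a.1 g, E'.nu_mul (E.Hz m) hg, E'.nu_mul (E.Hz m) hg, lg, lin m])
    fun a => E'.nu_beta (mem_cent1.1 a.2)
  have QC : Q ≤ C1[z] := fun _ h => mem_cent1.2 (E.Qz h)
  have c1 := ψ.ker.card_mul_index
  have c2 := card_subgroup_dvd_card ψ.range
  rw [index_ker, show ψ.ker = Q.subgroupOf C1[z] from ext fun a => ⟨fun h => E'.ker (mem_cent1.1 a.2) fun v =>
    (hψ a v).symm.trans (by rw [h, one_smul]), fun h => gu_ext fun v => (hψ a v).trans (E'.nu_Q h v) |>.trans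
      (one_smul _ v).symm⟩,
    Nat.card_congr (subgroupOfEquivOfLe QC).toEquiv, E.cardQ, (card_two (fun _ h => mem_cent1.2 (E.Hz h))
      fun a ha b hb => E.two (mem_cent1.1 ha) (mem_cent1.1 hb)).resolve_left fun e => n (e.le (mem_cent1.2 hg)),
    cardH π sπ kπ E.QH E.cardQ] at c1
  rw [card_gu, show Nat.card ψ.range = 51840 by omega] at c2
  exact absurd c2 (by decide)

theorem recog (h : LE Q z) (hQ : #Q = 2 ^ 9) (QH : Q ≤ H) (Hz : ∀ {h}, h ∈ H → Commute h z)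
    (two : ∀ {a b}, Commute a z → Commute b z → a ∉ H → b ∉ H → a * b ∈ H)
    (non : ∀ (V : Type u) [AddCommGroup V] [Finite V] (p : G → V) (φ : V → ZMod 2) (β : V →+ V →+ ZMod 2) (ν : G → V →+ V),
      Fm z Q H p φ β ν → ∀ u u', β u u' = 1 → (∀ h ∈ H, ν h u = u ∧ ν h u' = u') → ∀ t, IsConj z t → Commute t z → t = z) :
    (∃ K : Subgroup G, Nonempty (K ≃* PSU 6 F 2) ∧ H ≤ K ∧ #(C1[z].subgroupOf K) = #H ∧
      (∀ g, ∃ k ∈ K, Commute (k * g) z) ∧ C[K] = ⊥) ∨ C1[z] ⊔ oddCore G = ⊤ := by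
  by_cases i : ∀ t, IsConj z t → Commute t z → t = z
  · refine .inr (eq_top_iff.2 fun g _ => ?_)
    obtain ⟨o, ho, c, hc, rfl⟩ := Invol.Isolated.factor ⟨orderOf_of_sq h.toES.zz h.toES.z1, fun g c => i _ (isConj_iff.2 ⟨g, rfl⟩) c.symm⟩ g
    exact mul_mem (mem_sup_right ho) (mem_sup_left (mem_cent1.2 hc))
  obtain ⟨V, _, _, _, p, φ, β, ν, E⟩ := exists_Fm h hQ QH Hz two
  obtain ⟨p, φ, β, ν, N, su⟩ | ⟨u, u', h1, h2⟩ := exists_NF π sπ kπ E
  swap; · exact absurd (non V p φ β ν E u u' h1 h2) i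
  push Not at i
  obtain ⟨t, t1, t2, t3⟩ := i
  have ne : t ∈ Dd (conjugatesOf z) z := ⟨t1, t3, t2.symm⟩
  have c := cardH π sπ kπ QH hQ
  obtain ⟨a1, a2, a3, a4⟩ := (N.gd ne su c).main mem_conjugatesOf_self
  exact .inl ⟨_, a1, (N.gen ne su).trans (closure_mono fun _ h => h.1), a2.trans c.symm, a3,
    eq_bot_iff.2 fun g hg => a4 g fun y hy => (hg y (subset_closure hy)).symm⟩

omit π sπ kπ

theorem le_of (hz : orderOf z = 2) (hJ : IsExtraspecial 2 (pCore 2 C1[z])) (hJc : #(pCore 2 C1[z]) = 2 ^ 9)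
    (hCJ : C[pCore 2 C1[z]] ≤ pCore 2 C1[z]) : LES.LE (Sig.pcIn 2 C1[z]) z ∧ #(Sig.pcIn 2 C1[z]) = 2 ^ 9 := by
  have E : ES (pCore 2 C1[z]) ⟨z, mem_cent1.2 rfl⟩ := ES.of_mem hJ (hCJ fun y _ => Subtype.ext (mem_cent1.1 y.2))
    (fun e => by rw [show z = 1 from congrArg Subtype.val e, orderOf_one] at hz; omega)
    fun y _ => mem_cent1.2 (Subtype.ext (mem_cent1.1 y.2))
  have zQ : z ∈ Sig.pcIn 2 C1[z] := ⟨_, E.zQ, rfl⟩
  refine ⟨LE.of_core hz (ES.isExtraspecial (z := z) ⟨hz, zQ, ?_, ?_, ?_, ?_, ?_⟩) fun c hc =>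
    ⟨⟨c, mem_cent1.2 (hc z zQ).symm⟩, hCJ fun y hy => Subtype.ext (hc _ ⟨y, hy, rfl⟩), rfl⟩,
    (card_map_of_injective (subtype_injective _)).trans hJc⟩
  · rintro _ ⟨y, -, rfl⟩; exact mem_cent1.1 y.2
  · rintro _ ⟨x, hx, rfl⟩ h
    exact (E.cen x hx fun y hy => Subtype.ext (h _ ⟨y, hy, rfl⟩)).imp (congrArg Subtype.val) (congrArg Subtype.val)
  · rintro _ ⟨x, hx, rfl⟩ _ ⟨y, hy, rfl⟩
    exact (E.comm x hx y hy).imp (congrArg Subtype.val) (congrArg Subtype.val)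
  · rintro _ ⟨x, hx, rfl⟩; exact (E.sq x hx).imp (congrArg Subtype.val) (congrArg Subtype.val)
  · obtain ⟨x, hx, y, hy, n⟩ := E.nab
    exact ⟨_, ⟨x, hx, rfl⟩, _, ⟨y, hy, rfl⟩, fun c => n (Subtype.ext c)⟩

theorem su_psp {K : Type*} [Field K] [Fintype K] (hK : Fintype.card K = 3) : Nonempty (PSp 2 K ≃* SU 4 F 2) :=
  let ⟨e⟩ := S0822.result (F := F) hF.out hK
  ⟨e.symm.trans ((QuotientGroup.quotientMulEquivOfEq (card_eq_one.1 (by rw [card_center_SU (by decide)]; decide))).trans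
    QuotientGroup.quotientBot)⟩

/-- The statement about the non-natural module. -/
def Non (z : G) (Q H : Subgroup G) : Prop :=
  ∀ (V : Type u) [AddCommGroup V] [Finite V] (p : G → V) (φ : V → ZMod 2) (β : V →+ V →+ ZMod 2) (ν : G → V →+ V),
    Fm z Q H p φ β ν → ∀ u u', β u u' = 1 → (∀ h ∈ H, ν h u = u ∧ ν h u' = u') → ∀ t, IsConj z t → Commute t z → t = z

theorem rec1 (h : LES.LE Q z) (hQ : #Q = 2 ^ 9) (π : C1[z] →* SU 4 F 2) (sπ : Function.Surjective π)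
    (kπ : ∀ a, π a = 1 ↔ a.1 ∈ Q) (non : #C1[z] = 2 ^ 9 * 25920 → Non z Q C1[z]) :
    Nonempty (G ≃* PSU 6 F 2) ∨ C1[z] ⊔ oddCore G = ⊤ := by
  have QH : Q ≤ C1[z] := fun y hy => mem_cent1.2 (h.zc y hy)
  refine (recog π sπ kπ h hQ QH mem_cent1.1 (fun a _ n => absurd (mem_cent1.2 a) n) (non (cardH π sπ kπ QH hQ))).imp_left ?_
  rintro ⟨K, ⟨e⟩, h1, -, h2, -⟩
  obtain rfl : K = ⊤ := eq_top_iff.2 fun g _ => let ⟨k, hk, c⟩ := h2 g; (mul_mem_cancel_left hk).1 (h1 (mem_cent1.2 c))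
  exact ⟨topEquiv.symm.trans e⟩

theorem rec2 (h : LES.LE Q z) (hQ : #Q = 2 ^ 9) {X : Type*} [Group X] (e : X ≃* SU 4 F 2) (ρ : C1[z] →* MulAut X)
    (sρ : Function.Surjective ρ) (kρ : ∀ a, ρ a = 1 ↔ a.1 ∈ Q) (hA : Nat.card (MulAut X) = 2 * Nat.card X)
    (non : ∀ H : Subgroup G, #H = 2 ^ 9 * 25920 → (∀ g, Commute g z → (∀ h ∈ H, g * h * g⁻¹ * h⁻¹ ∈ Q) → g ∈ Q) → Non z Q H) :
    (∃ K : Subgroup G, K.index = 2 ∧ Nonempty (K ≃* PSU 6 F 2) ∧ C[K] = ⊥) ∨ C1[z] ⊔ oddCore G = ⊤ := by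
  haveI : Finite X := .of_equiv _ e.symm.toEquiv
  have Z : ∀ x : X, MulAut.conj x = 1 → x = 1 := fun x hx => e.injective ((map_one e).symm ▸
    (card_eq_one.1 (by rw [card_center_SU (F := F) (by decide)]; decide)).le (mem_center_iff.2 fun y => by
      obtain ⟨y, rfl⟩ := e.surjective y
      rw [← map_mul, ← map_mul, show x * y = y * x from mul_inv_eq_iff_eq_mul.1 (DFunLike.congr_fun hx y)]))
  have i : Function.Injective (MulAut.conj (G := X)) := (injective_iff_map_eq_one _).2 Z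
  have i2 : (MulAut.conj (G := X)).range.index = 2 := by
    have := (MulAut.conj (G := X)).range.card_mul_index
    rw [hA, ← Nat.card_congr (MonoidHom.ofInjective i).toEquiv, mul_comm] at this
    exact Nat.eq_of_mul_eq_mul_right Nat.card_pos this
  obtain ⟨H, hH⟩ : ∃ H, H = ((MulAut.conj (G := X)).range.comap ρ).map C1[z].subtype := ⟨_, rfl⟩
  have m : ∀ a : C1[z], a.1 ∈ H ↔ ρ a ∈ (MulAut.conj (G := X)).range := fun a => hH ▸ mem_map_iff_mem (subtype_injective _)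
  have Hz : H ≤ C1[z] := hH ▸ map_subtype_le _
  have QH : Q ≤ H := fun y hy => (m ⟨y, mem_cent1.2 (h.zc y hy)⟩).2 (by rw [(kρ _).2 hy]; exact one_mem _)
  have two : ∀ {a b}, Commute a z → Commute b z → a ∉ H → b ∉ H → a * b ∈ H := fun {a b} ha hb h1 h2 =>
    (m (⟨a, mem_cent1.2 ha⟩ * ⟨b, mem_cent1.2 hb⟩)).2 (by
      rw [map_mul, mul_mem_iff_of_index_two i2, ← m, ← m]; exact iff_of_false h1 h2)
  let π : H →* SU 4 F 2 := (e.toMonoidHom.comp (MonoidHom.ofInjective i).symm.toMonoidHom).comp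
    ((ρ.comp (inclusion Hz)).codRestrict _ fun a => (m (inclusion Hz a)).1 a.2)
  have sπ : Function.Surjective π := fun s => by
    obtain ⟨a, ha⟩ := sρ (MulAut.conj (e.symm s))
    refine ⟨⟨a, (m a).2 ⟨_, ha.symm⟩⟩, e.symm.injective ((MonoidHom.ofInjective i).injective (Subtype.ext ?_))⟩
    simp only [π]; simp; exact ha
  have kπ : ∀ a, π a = 1 ↔ a.1 ∈ Q := fun a => by
    simpa [π, Subtype.ext_iff] using kρ (inclusion Hz a)
  have c := cardH π sπ kπ QH hQ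
  refine (recog π sπ kπ h hQ QH (fun h => mem_cent1.1 (Hz h)) two (non H c fun g hg k => ?_)).imp_left ?_
  · refine (kρ ⟨g, mem_cent1.2 hg⟩).1 (MulEquiv.ext fun x => i ?_)
    obtain ⟨a, ha⟩ := sρ (MulAut.conj x)
    have := (kρ (⟨g, mem_cent1.2 hg⟩ * a * ⟨g, mem_cent1.2 hg⟩⁻¹ * a⁻¹)).2 (k a ((m a).2 ⟨_, ha.symm⟩))
    rw [map_mul, map_mul, map_mul, map_inv, map_inv, ha, mul_inv_eq_one] at this
    exact Eq.trans (MulEquiv.ext fun y => by simp) this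
  rintro ⟨K, e', h1, h2, h3, h4⟩
  refine ⟨K, ?_, e', h4⟩
  obtain ⟨x, hx⟩ := not_forall.1 fun k => absurd (((MulAut.conj (G := X)).range.eq_top_iff').2 k ▸ i2) (by simp)
  obtain ⟨a, rfl⟩ := sρ x
  rw [← m] at hx
  have ca : Commute a.1 z := mem_cent1.1 a.2
  have aK : a.1 ∉ K := fun k => by
    rw [← inf_subgroupOf_right, Nat.card_congr (subgroupOfEquivOfLe inf_le_right).toEquiv] at h2
    have := dbl (le_inf Hz h1) ⟨a.2, k⟩ hx
    have := Nat.card_pos (α := H)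
    omega
  refine index_eq_two_iff.2 ⟨a, fun b => ?_⟩
  obtain ⟨k, hk, c⟩ := h3 b
  rw [← K.mul_mem_cancel_left hk, ← K.mul_mem_cancel_left (y := b) hk, ← mul_assoc]
  by_cases n : k * b ∈ H
  · exact .inr ⟨h1 n, by rwa [K.mul_mem_cancel_left (h1 n)]⟩
  · exact .inl ⟨h1 (two c ca n hx), fun k => aK ((K.mul_mem_cancel_left k).1 (h1 (two c ca n hx)))⟩

end Cfsg.Agent.U6R
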