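import Cfsg.Agent.U6R.Fm

/-! Counting in frames (helper24): `half`, `dbl`, preimages `Fm.pre`, abelian subgroups have order at most 32
(`Fm.ab32`, `Fm.ab32'`), lower bounds for `C_Q(t)` (`Fm.cardA`, `Fm.card16`, `Fm.card64`). -/

set_option autoImplicit false
set_option linter.unusedSectionVars false

namespace Cfsg.Agent.U6R

open Cfsg.Agent.Fischer Cfsg.Agent.FI Subgroup Cfsg.Agent.BG Cfsg.Agent.LES Cfsg.Agent.PGrp

variable {G : Type*} [Group G] [Finite G] {V : Type*} [AddCommGroup V] [Finite V] {z t x y a b g : G}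
  {Q H P K A B S : Subgroup G} {p : G → V} {φ : V → ZMod 2} {β : V →+ V →+ ZMod 2} {ν : G → V →+ V} {u v w : V}

theorem half (h : ∀ a ∈ B, ∀ b ∈ B, a ∉ S → b ∉ S → a * b ∈ S) : #B ≤ 2 * #(B ⊓ S : Subgroup G) := by
  classical
  by_cases e : B ≤ S
  · rw [inf_eq_left.2 e]; omega
  obtain ⟨c, hc, nc⟩ := SetLike.not_le_iff_exists.1 e
  have := Nat.card_le_card_of_injective (fun x : B => (if k : x.1 ∈ S then .inl ⟨x, x.2, k⟩ else
    .inr ⟨c * x, mul_mem hc x.2, h c hc x x.2 nc k⟩ : (B ⊓ S : Subgroup G) ⊕ (B ⊓ S : Subgroup G))) fun x y e => by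
      dsimp only at e
      split_ifs at e
      exacts [Subtype.ext (congrArg Subtype.val (Sum.inl.inj e) :),
        Subtype.ext (mul_left_cancel (congrArg Subtype.val (Sum.inr.inj e) :))]
  rwa [Nat.card_sum, ← two_mul] at this

theorem dbl (h : A ≤ B) (hx : x ∈ B) (n : x ∉ A) : 2 * #A ≤ #B := by
  rw [← (A.subgroupOf B).card_mul_index, Nat.card_congr (subgroupOfEquivOfLe h).toEquiv, mul_comm]
  exact Nat.mul_le_mul_left _ (one_lt_index_of_ne_top fun e => n (mem_subgroupOf.1 (e.ge (mem_top ⟨x, hx⟩))))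

namespace Fm
variable (F : Fm z Q H p φ β ν)
include F

/-- The preimage of a subgroup of `V`. -/
def pre (U : AddSubgroup V) : Subgroup G where
  carrier := {x | x ∈ Q ∧ p x ∈ U}
  mul_mem' hx hy := ⟨mul_mem hx.1 hy.1, F.add hx.1 hy.1 ▸ add_mem hx.2 hy.2⟩
  one_mem' := ⟨one_mem _, F.p1 ▸ zero_mem _⟩
  inv_mem' hx := ⟨inv_mem hx.1, F.inv hx.1 ▸ hx.2⟩

theorem card_le {X : Type*} [Finite X] (f : X → V) (hf : Function.Injective f) (hz : z ∈ A)
    (h : ∀ i, ∃ x ∈ A, x ∈ Q ∧ p x = f i) : 2 * Nat.card X ≤ #A := by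
  choose s s1 s2 s3 using h
  have k : ∀ i, p (s i * z) = f i := fun i => by rw [F.add (s2 i) F.es.zQ, F.pz, add_zero, s3]
  have := Nat.card_le_card_of_injective (Sum.elim (fun i => (⟨s i, s1 i⟩ : A)) fun i => ⟨s i * z, mul_mem (s1 i) hz⟩) (by
    rintro (i | i) (j | j) e <;> have e := congrArg Subtype.val e <;> have e' := congrArg p e <;>
      simp only [Sum.elim_inl, Sum.elim_inr, s3, k] at e e' <;> obtain rfl := hf e'
    exacts [rfl, absurd (left_eq_mul.1 e) F.es.z1, absurd (left_eq_mul.1 e.symm) F.es.z1, rfl])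
  rwa [Nat.card_sum, ← two_mul] at this

theorem cardQ : #Q = 512 := by
  classical
  refine le_antisymm ?_ (by simpa [F.card] using F.card_le id Function.injective_id F.es.zQ fun v =>
    let ⟨x, hx, e⟩ := F.surj v; ⟨x, hx, hx, e⟩)
  choose s s1 s2 using F.surj
  have := Nat.card_le_card_of_injective (fun x : Q => (p x, decide (x.1 = s (p x)))) fun x y e => by
    obtain ⟨e1, e2⟩ := Prod.ext_iff.1 e
    dsimp only at e1 e2
    rw [decide_eq_decide, ← e1] at e2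
    rcases (F.eq_iff (s1 _) x.2).1 (s2 (p x)) with a | a <;> rcases (F.eq_iff (s1 _) y.2).1 ((s2 (p x)).trans e1) with b | b
    exacts [Subtype.ext (a.trans b.symm), Subtype.ext (a.trans (e2.1 a).symm), Subtype.ext ((e2.2 b).trans b.symm),
      Subtype.ext (a.trans b.symm)]
  simpa [F.card] using this

theorem ab32 (hA : A ≤ Q) (hz : z ∈ A) (h : ∀ a ∈ A, ∀ b ∈ A, Commute a b) : #A ≤ 32 := by
  have := F.es.card_cent hA hz
  have k : #A ≤ #(Q ⊓ C[A] : Subgroup G) := card_le_of_le fun a ha => ⟨hA ha, fun b hb => h b hb a ha⟩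
  rw [F.cardQ] at this
  nlinarith

theorem ab32' (hA : A ≤ Q) (hz : z ∈ A) (h : ∀ a ∈ A, ∀ b ∈ A, Commute a b) (c : 32 ≤ #A) (hx : x ∈ Q)
    (k : ∀ a ∈ A, Commute a x) : x ∈ A := by
  have := F.es.card_cent hA hz
  rw [F.cardQ, le_antisymm (F.ab32 hA hz h) c] at this
  have e : A = Q ⊓ C[A] := eq_of_le_of_card_ge (fun a ha => ⟨hA ha, fun b hb => h b hb a ha⟩) (by omega)
  exact e.ge ⟨hx, k⟩

theorem cardB (hx : x ∈ Q) : 256 ≤ #(Q ⊓ C1[x] : Subgroup G) := by
  have := half (B := Q) (S := C1[x]) fun a ha b hb h1 h2 =>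
    mem_cent1.2 (F.es.mul_comm_of ha hb hx (mt mem_cent1.2 h1) (mt mem_cent1.2 h2))
  rw [F.cardQ] at this; omega

variable (ht : Commute t z) (tt : t * t = 1)
include ht tt

theorem cardA : Nat.card (ν t + AddMonoidHom.id V).ker ≤ #(Q ⊓ C1[t] : Subgroup G) ∧
    ((∀ x ∈ Q, ν t (p x) = p x → Commute t x) → 2 * Nat.card (ν t + AddMonoidHom.id V).ker ≤ #(Q ⊓ C1[t] : Subgroup G)) := by
  have c := F.card_le (X := (ν t + AddMonoidHom.id V).ker) (A := F.pre (ν t + AddMonoidHom.id V).ker) Subtype.val Subtype.val_injective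
    ⟨F.es.zQ, F.pz ▸ zero_mem _⟩ fun v => let ⟨x, hx, e⟩ := F.surj v.1; ⟨x, ⟨hx, e ▸ v.2⟩, hx, e⟩
  refine ⟨?_, fun h => c.trans (card_le_of_le fun x hx => ⟨hx.1, mem_cent1.2 (h x hx.1 (eq_of_add F.h2 hx.2)).symm⟩)⟩
  have := half (B := F.pre (ν t + AddMonoidHom.id V).ker) (S := C1[t]) fun a ha b hb h1 h2 => cj_eq_iff_comm.1 (by
    rw [show a * b * t * (a * b)⁻¹ = a * (b * t * b⁻¹) * a⁻¹ by group,
      F.tz_of ht tt hb.1 (eq_of_add F.h2 hb.2) fun c => h2 (mem_cent1.2 c.symm), ← conj_mul,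
      F.tz_of ht tt ha.1 (eq_of_add F.h2 ha.2) fun c => h1 (mem_cent1.2 c.symm), cj_eq_iff_comm.2 (F.Qz ha.1), mul_assoc,
      F.zz, mul_one]) |> mem_cent1.2
  have k := card_le_of_le (inf_le_inf_right C1[t] (show F.pre (ν t + AddMonoidHom.id V).ker ≤ Q from fun _ h => h.1))
  omega

omit ht tt in
theorem card_ker : Nat.card (ν t + AddMonoidHom.id V).ker * Nat.card (ν t + AddMonoidHom.id V).range = 256 := by
  rw [← AddSubgroup.index_ker, AddSubgroup.card_mul_index, F.card]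

theorem ker16 : 16 ≤ Nat.card (ν t + AddMonoidHom.id V).ker := by
  have := F.card_ker (t := t)
  have k : Nat.card (ν t + AddMonoidHom.id V).range ≤ Nat.card (ν t + AddMonoidHom.id V).ker :=
    AddSubgroup.card_le_of_le (by
      rintro _ ⟨v, rfl⟩
      exact (congrArg (· + _) (F.fixN ht tt v)).trans (F.h2 _))
  nlinarith

theorem card16 : 16 ≤ #(Q ⊓ C1[t] : Subgroup G) := (F.ker16 ht tt).trans (F.cardA ht tt).1

theorem card64 {X : Type*} [Finite X] (c : Nat.card X ≤ 4) (f : X → V) (h : ∀ v, ∃ i, ν t v + v = f i) :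
    64 ≤ #(Q ⊓ C1[t] : Subgroup G) := by
  refine le_trans ?_ (F.cardA ht tt).1
  have := F.card_ker (t := t)
  choose s hs using h
  have k := Nat.card_le_card_of_injective (fun v : (ν t + AddMonoidHom.id V).range => s v.2.choose) fun a b e =>
    Subtype.ext (by rw [← a.2.choose_spec, ← b.2.choose_spec]; exact (hs _).trans ((congrArg f e).trans (hs _).symm))
  nlinarith

theorem nab64 (h : 64 ≤ #(Q ⊓ C1[t] : Subgroup G)) :
    ∃ a ∈ Q, ∃ b ∈ Q, Commute a t ∧ Commute b t ∧ ¬ Commute a b := by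
  by_contra n
  push Not at n
  have := F.ab32 (A := Q ⊓ C1[t]) inf_le_left ⟨F.es.zQ, mem_cent1.2 ht.symm⟩
    fun a ha b hb => n a ha.1 b hb.1 (mem_cent1.1 ha.2) (mem_cent1.1 hb.2)
  omega

end Fm

end Cfsg.Agent.U6R
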