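import Cfsg.Agent.U6R.Del

/-! Classes of involutions with the local geometry of `U₆(2)` (`GD`, helper24): lines, components of the commuting graph
and their recognition (`GD.comp`) (after `Fischer.Cmp`). -/

set_option autoImplicit false
set_option linter.unusedSectionVars false

namespace Cfsg.Agent.U6R

open Cfsg.Agent.Fischer Cfsg.Agent.FI Cfsg.Agent.Classical Subgroup Cfsg.Agent.BG Cfsg.Agent.LES Cfsg.Agent.PGrp Module

variable {F : Type*} [Field F] [Fintype F] [hF : Fact (Fintype.card F = 2 ^ 2)]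
variable {G : Type*} [Group G] [Finite G] {x y a b g p p' v : G} {Q K : Subgroup G}
  {u u' w n n' m : Fin 4 → F} {c : F} {D S : Set G} {R : G → (Fin 4 → F) → Prop}

theorem dim4 (i : Ison n) (i' : Ison m) (h : hn n m = 0) (k : ∀ c : F, m ≠ c • n) (hu : hn u u = 0) (hu' : hn u' u' = 0)
    (a1 : hn n u = 0) (a2 : hn n u' = 0) (a3 : hn m u = 0) (a4 : hn m u' = 0) : hn u u' = 0 := by
  by_contra e
  have : Function.Injective (Fintype.linearCombination F ![n, m, u, u']) := (injective_iff_map_eq_zero _).2 fun f hf => by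
    simp only [Fintype.linearCombination_apply, Fin.sum_univ_four] at hf
    have h2 : f 2 = 0 := by simpa [a2, a4, hu', e] using congrArg (hn · u') hf
    have h3 : f 3 = 0 := by simpa [a1, a3, hu, hnC e] using congrArg (hn · u) hf
    have h0 : f 0 • n + f 1 • m = 0 := by simpa [h2, h3] using hf
    have h1 : f 1 = 0 := by_contra fun h1 => k ((f 1)⁻¹ * f 0) (by
      rw [mul_smul, eq_of_add vn_add_self h0, inv_smul_smul₀ h1])
    ext j; fin_cases j <;> simp_all [i.1]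
  refine i.1 (eq_zero_of_herm_eq_zero (q := 2) fun v => ?_)
  obtain ⟨f, rfl⟩ := LinearMap.injective_iff_surjective.1 this v
  simp [Fintype.linearCombination_apply, Fin.sum_univ_four, i.2, h, a1, a2]

/-- The conjugation action on an invariant set. -/
@[reducible] def cact (h : K ≤ cstab S) : MulAction K S where
  smul q y := ⟨q * y * q⁻¹, (mem_cstab.1 (h q.2) y).2 y.2⟩
  one_smul y := Subtype.ext (show (1 : G) * y * 1⁻¹ = y by simp)
  mul_smul a b y := Subtype.ext (show (a.1 * b.1) * y.1 * (a.1 * b.1)⁻¹ = a.1 * (b.1 * y.1 * b.1⁻¹) * a.1⁻¹ by group)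

theorem odd_of (hQ : IsPGroup 2 Q) (h : Q ≤ cstab S) (hx : x ∈ S) (c : ∀ q ∈ Q, Commute q x)
    (u : ∀ y ∈ S, (∀ q ∈ Q, Commute q y) → y = x) : Odd S.ncard := by
  letI := cact h
  have := hQ.card_modEq_card_fixedPoints S
  rw [show MulAction.fixedPoints Q S = {⟨x, hx⟩} from Set.ext fun y => ⟨fun k => Subtype.ext (u y y.2 fun q hq =>
    cj_eq_iff_comm.1 (congrArg Subtype.val (k ⟨q, hq⟩))), by
      rintro rfl q; exact Subtype.ext (cj_eq_iff_comm.2 (c q q.2))⟩] at this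
  rw [Nat.card_unique (α := ({⟨x, hx⟩} : Set S))] at this
  exact Nat.odd_iff.2 this

theorem card_of (h : K ≤ cstab S) (hx : x ∈ S) (t : ∀ a ∈ S, ∀ b ∈ S, ∃ g ∈ K, g * a * g⁻¹ = b) :
    #(C1[x].subgroupOf K) * S.ncard = #K := by
  letI := cact h
  haveI : MulAction.IsPretransitive K S := ⟨fun a b => let ⟨g, hg, e⟩ := t a a.2 b b.2; ⟨⟨g, hg⟩, Subtype.ext e⟩⟩
  rw [← (MulAction.stabilizer K (⟨x, hx⟩ : S)).card_mul_index, MulAction.index_stabilizer_of_transitive]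
  congr 3
  ext g
  exact (mem_cent1.trans cj_eq_iff_comm.symm).trans (Subtype.ext_iff (a1 := g • (⟨x, hx⟩ : S)) (a2 := ⟨x, hx⟩)).symm

theorem pow_odd {a b s t : ℕ} (hs : Odd s) (ht : Odd t) (h : 2 ^ a * s = 2 ^ b * t) : a = b :=
  le_antisymm ((Nat.pow_dvd_pow_iff_le_right one_lt_two).1
    ((Nat.Coprime.pow_left a ht.coprime_two_left).dvd_of_dvd_mul_right ⟨s, h.symm⟩))
    ((Nat.pow_dvd_pow_iff_le_right one_lt_two).1 ((Nat.Coprime.pow_left b hs.coprime_two_left).dvd_of_dvd_mul_right ⟨t, h⟩))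

theorem six {n k s : ℕ} (hn : 4 ≤ n) (hs : Odd s) (hk : k = 15 ∨ k = 16) (h : 2 ^ k * s = Nat.card (PSU n F 2)) : n = 6 ∧ k = 15 := by
  have := card_PSU_mul (F := F) (q := 2) (n := n) (by omega)
  rw [card_GU, ← h] at this
  have := pow_odd (a := k) (((Odd.of_dvd_nat (n := 3) (by decide) (Nat.gcd_dvd_right n 3)).mul (by decide : Odd 3)).mul hs)
    (Finset.prod_induction _ Odd (fun _ _ => Odd.mul) odd_one fun i _ => by
      split_ifs
      · exact (Even.pow_of_ne_zero even_two (by omega)).add_one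
      · exact Nat.Even.sub_odd Nat.one_le_two_pow (Even.pow_of_ne_zero even_two (by omega)) odd_one)
    (Eq.trans (by ring) this)
  rcases le_or_gt n 6 with e | e
  · interval_cases n <;> omega
  · have : 7 * 6 ≤ n * (n - 1) := Nat.mul_le_mul e (by omega)
    omega

variable (F) in
/-- A class of involutions with the local geometry of `U₆(2)`. -/
structure GD (D : Set G) : Prop where
  sq : ∀ x ∈ D, x * x = 1
  conj : ∀ g, ∀ x ∈ D, g * x * g⁻¹ ∈ D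
  lg : ∀ d ∈ D, ∃ R : G → (Fin 4 → F) → Prop, LG D d R
  sqc : ∀ d ∈ D, ∀ c, Commute c d → c * c ∈ closure (Dd D d)
  two : ∀ d ∈ D, ∃ Q : Subgroup G, IsPGroup 2 Q ∧ Q ≤ closure (Dd D d) ∧ ∀ y, (∀ q ∈ Q, Commute q y) → y = 1 ∨ y = d
  ord : ∀ d ∈ D, ∀ K, closure (Dd D d) ≤ K → ∃ k, (k = 15 ∨ k = 16) ∧ #(C1[d].subgroupOf K) = 2 ^ k * 405

theorem LG.nc2 (L : LG D x R) (a : R y n) : ∃ s t w w', R s w ∧ R t w' ∧ hn w n = 0 ∧ hn w' n = 0 ∧ hn w w' = 1 :=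
  let ⟨w, w', a1, a2, k⟩ := hyp (L.iso a); let ⟨s, b1⟩ := L.sur a1; let ⟨t, b2⟩ := L.sur a2; ⟨s, t, w, w', b1, b2, k⟩

theorem LG.nc (L : LG D x R) {s t : G} (a : R s u) (b : R t w) (h : hn u w = 1) : ¬ Commute s t :=
  mt (L.cm a b).1 (h.trans_ne one_ne_zero)

theorem LG.noc (L : LG D x R) : NoC (Dd D x) := fun _ hy => by
  obtain ⟨n, a⟩ := L.ex hy
  obtain ⟨u, u1, u2⟩ := exists_iso_partner (L.iso a).1 (L.iso a).2
  obtain ⟨e, b⟩ := L.sur ⟨fun e => by simp [e] at u2, u1⟩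
  exact ⟨e, L.mem b, L.nc b a u2⟩

theorem LG.ne (L : LG D x R) : ∃ a b, CL (Dd D x) [a, b] := by
  obtain ⟨n, i⟩ := exists_isotropic (F := F) (q := 2) (n := 4) (by omega)
  obtain ⟨y, a⟩ := L.sur i
  obtain ⟨s, t, w, w', b1, b2, c1, c2, c3⟩ := L.nc2 a
  exact ⟨s, y, cl_two (L.mem b1) (L.mem a) (fun e => L.nc b1 b2 c3 (e ▸ ((L.cm b2 a).2 c2).symm)) ((L.cm b1 a).2 c1)⟩

theorem LG.prod (L : LG D x R) (a : R y n) (h : ∀ s, R s n → s ∈ K) : x ∈ K := by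
  obtain ⟨f, -, k, -, e⟩ := L.four a
  exact e ▸ mul_mem (mul_mem (h _ (k _)) (h _ (k _))) (mul_mem (h _ (k _)) (h _ (k _)))

namespace GD
variable (h : GD F D)
include h

theorem ll (hy : y ∈ D) (L : LG D y R) (a : R p n) (a' : R p' n') (ne : p ≠ p') (e : ∀ k, hn n k = 0 → hn n' k = 0)
    (hx : x ∈ D) (c : Commute p x) (c' : Commute p' x) : Commute y x := by
  obtain ⟨R', L'⟩ := h.lg p (L.mem a).1
  by_cases k : x = p
  · exact k ▸ (L.mem a).2.2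
  obtain ⟨b, hb⟩ := L'.ex (Dd_symm hy (L.mem a))
  obtain ⟨b', hb'⟩ := L'.ex ⟨(L.mem a').1, ne.symm, (L.cm a a').2 (hn_comm.1 (e n (L.iso a).2))⟩
  obtain ⟨m, hm⟩ := L'.ex ⟨hx, k, c⟩
  have bb := (L'.cm hb hb').1 (L.mem a').2.2
  by_contra nc
  obtain ⟨k, i, k1, -, k2⟩ := exists_ison_sep (L'.iso hb').2 bb bb fun s t e => nc ((L'.cm hb hm).2 (by
    have := (L'.cm hb' hm).1 c'
    rw [← add_smul] at e
    rw [e, hSl] at this
    exact (mul_eq_zero.1 this).resolve_left fun k => (L'.iso hb').1 (by rw [e, k, zero_smul])))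
  obtain ⟨g, hg⟩ := L'.sur i
  have n' := mt (L'.cm hb' hg).1 k2
  obtain ⟨r, hr⟩ := L.ex ⟨(L'.mem hg).1, fun e => n' (e ▸ (L.mem a').2.2.symm), (L'.cm hb hg).2 k1⟩
  exact n' ((L.cm a' hr).2 (e r ((L.cm a hr).1 (L'.mem hg).2.2)))

theorem d2 {w : G} (hx : x ∈ D) (hy : y ∈ D) (hw : w ∈ Dd D y) (hv : v ∈ Dd D y) (n1 : ¬ Commute x y) (c1 : Commute w x) :
    ∃ p ∈ D, Commute p x ∧ Commute p v := by
  by_cases c : Commute w v
  · exact ⟨w, hw.1, c1, c⟩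
  obtain ⟨R, L⟩ := h.lg y hy
  obtain ⟨m, hm⟩ := L.ex hw
  obtain ⟨n, hn'⟩ := L.ex hv
  have mn := mt (L.cm hm hn').2 c
  obtain ⟨w1, w2, i1, -, e1, e2, e3⟩ := hyp (L.iso hm)
  obtain ⟨u, hu⟩ := L.sur (n := w1 + (hn w1 n / hn m n) • m) ⟨fun e => by
    simpa [e3, hn_comm.1 e2] using congrArg (hn · w2) e, by simp [i1.2, e1, hn_comm.1 e1, (L.iso hm).2]⟩
  obtain ⟨f, f1, f2, -⟩ := L.four hu
  have cv : ∀ c, Commute (f c) v := fun c => (L.cm (f2 c) hn').2 (by rw [hAl, hSl, div_mul_cancel₀ _ mn, f4_add_self])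
  obtain ⟨R', L'⟩ := h.lg w hw.1
  obtain ⟨b, hb⟩ := L'.ex (Dd_symm hy hw)
  obtain ⟨a, ha⟩ := L'.ex ⟨hx, fun e => n1 (e ▸ hw.2.2.symm), c1⟩
  choose k hk using fun c => L'.ex ⟨(L.mem (f2 c)).1, fun e => ‹¬ Commute w v› (e ▸ cv c),
    ((L.cm (f2 c) hm).2 (by simp [e1, (L.iso hm).2])).symm⟩
  have : ∀ c, ∃ s t : F, k c = s • (k 0 + t • b) := fun c => by
    by_cases e : ∀ s t : F, k c ≠ s • k 0 + t • b
    · obtain ⟨r, i, r1, r2, r3⟩ := exists_ison_sep (L'.iso (hk c)).2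
        ((L'.cm (hk 0) (hk c)).1 ((L.cm (f2 0) (f2 c)).2 (L.iso hu).2)) ((L'.cm hb (hk c)).1 (L.mem (f2 c)).2.2) e
      obtain ⟨g, hg⟩ := L'.sur i
      have n' := mt (L'.cm (hk c) hg).1 r3
      obtain ⟨r', hr⟩ := L.ex ⟨(L'.mem hg).1, fun e => n' (e ▸ (L.mem (f2 c)).2.2.symm), (L'.cm hb hg).2 r2⟩
      exact absurd ((L.cm (f2 c) hr).2 ((L.cm (f2 0) hr).1 ((L'.cm (hk 0) hg).2 r1))) n'
    push Not at e
    obtain ⟨s, t, e⟩ := e
    have s0 : s ≠ 0 := fun s0 => ‹¬ Commute w v› (h.ll hw.1 L' hb (hk c) (L.mem (f2 c)).2.1.symm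
      (fun r hr => by simp [e, s0, hr]) hv.1 hv.2.2 (cv c))
    exact ⟨s, t / s, by rw [e, smul_add, smul_smul, mul_div_cancel₀ _ s0]⟩
  choose s t e using this
  obtain ⟨c', e'⟩ := Finite.injective_iff_surjective.1 (show t.Injective from fun c c' e' => f1 (by_contra fun ne =>
    ‹¬ Commute w v› (h.ll hw.1 L' (hk c) (hk c') ne (fun r hr => by
      rw [e, hSl] at hr ⊢
      rw [← e', (mul_eq_zero.1 hr).resolve_left fun s0 => (L'.iso (hk c)).1 (by rw [e, s0, zero_smul]), mul_zero])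
      hv.1 (cv c) (cv c')))) (hn (k 0) a / hn b a)
  exact ⟨f c', (L.mem (f2 c')).1, (L'.cm (hk c') ha).2 (by
    rw [e, hSl, hAl, hSl, e', div_mul_cancel₀ _ (mt (L'.cm hb ha).2 fun c => n1 c.symm), f4_add_self, mul_zero]), cv c'⟩

theorem step (hx : x ∈ D) (k : y ∈ Cp D x) (hv : v ∈ D) (c : Commute y v) : v ∈ Cp D x := by
  obtain ⟨hy, w, hw, a, b⟩ := k
  by_cases c1 : Commute x y
  · exact ⟨hv, y, hy, c1.symm, c⟩
  by_cases c2 : v = y
  · exact ⟨hv, w, hw, a, c2 ▸ b⟩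
  exact ⟨hv, h.d2 hx hy ⟨hw, fun e => c1 (e ▸ a).symm, b.symm⟩ ⟨hv, c2, c⟩ c1 a⟩

theorem trans (hx : x ∈ D) (k : y ∈ Cp D x) (k' : v ∈ Cp D y) : v ∈ Cp D x :=
  let ⟨hv, _, hw, a, b⟩ := k'; h.step hx (h.step hx k hw a.symm) hv b

theorem dd_cp (hx : x ∈ D) (k : y ∈ Cp D x) : Dd (Cp D x) y = Dd D y :=
  Set.ext fun _ => ⟨fun m => ⟨m.1.1, m.2⟩, fun m => ⟨h.step hx k m.1 m.2.2, m.2⟩⟩

theorem near (hx : x ∈ D) (ha : a ∈ Cp D x) (hb : b ∈ Cp D x) : ∃ p ∈ Cp D x, Commute p a ∧ Commute p b :=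
  let ⟨_, w, hw, c1, c2⟩ := h.trans ha.1 (LD.symm hx ha) hb; ⟨w, h.step hx ha hw c1.symm, c1, c2⟩

theorem near' (hx : x ∈ D) (ha : a ∈ Cp D x) (hb : b ∈ Cp D x) :
    a = b ∨ ∃ p ∈ Cp D x, a ∈ Dd D p ∧ b ∈ Dd D p := by
  obtain ⟨p, hp, c1, c2⟩ := h.near hx ha hb
  have key : ∀ {a b}, a ∈ Cp D x → b ∈ Dd D a → ∃ p ∈ Cp D x, a ∈ Dd D p ∧ b ∈ Dd D p := fun {a b} ha hb => by
    obtain ⟨R, L⟩ := h.lg a ha.1
    obtain ⟨n, k⟩ := L.ex hb
    obtain ⟨s, t, w, w', b1, b2, c1, c2, c3⟩ := L.nc2 k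
    have m := L.mem b1
    exact ⟨_, h.step hx ha m.1 m.2.2, Dd_symm ha.1 m, hb.1, fun e => L.nc b1 b2 c3 (e ▸ ((L.cm b2 k).2 c2).symm),
      (L.cm b1 k).2 c1⟩
  refine or_iff_not_imp_left.2 fun n => ?_
  by_cases e1 : a = p
  · exact key ha ⟨hb.1, Ne.symm n, e1 ▸ c2⟩
  by_cases e2 : b = p
  · exact (key hb ⟨ha.1, n, e2 ▸ c1⟩).imp fun _ k => ⟨k.1, k.2.2, k.2.1⟩
  exact ⟨p, hp, ⟨ha.1, e1, c1⟩, hb.1, e2, c2⟩

theorem wt (hx : x ∈ D) : WT (Dd D x) := let ⟨_, L⟩ := h.lg x hx; L.wt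

theorem cp_wt (hx : x ∈ D) : WT (Cp D x) := by
  refine ⟨fun a ha => h.sq a ha.1, fun a ha b hb => ?_, fun a ha b hb => ?_⟩ <;>
    obtain rfl | ⟨p, hp, m1, m2⟩ := h.near' hx ha hb
  exacts [.inl (.refl a), (h.wt hp.1).br a m1 b m2, by rwa [h.sq a ha.1, one_mul],
    have := (h.wt hp.1).conj a m1 b m2; h.step hx hp this.1 this.2.2]

theorem le_cp (hx : x ∈ D) (k : y ∈ Cp D x) : closure (Dd D y) ≤ closure (Cp D x) :=
  closure_mono (h.dd_cp hx k ▸ fun _ m => m.1)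

theorem cp_tr1 (hx : x ∈ D) : Tr1 (Cp D x) := fun a ha b hb => by
  obtain rfl | ⟨p, hp, m1, m2⟩ := h.near' hx ha hb
  · exact ⟨1, one_mem _, by simp⟩
  obtain ⟨_, L⟩ := h.lg p hp.1
  obtain ⟨g, hg, e⟩ := L.tr1 a m1 b m2
  exact ⟨g, h.le_cp hx hp hg, e⟩

theorem cp_noC (hx : x ∈ D) : NoC (Cp D x) := fun a ha => by
  obtain ⟨_, L⟩ := h.lg a ha.1
  obtain ⟨u, v, k⟩ := L.ne
  have m := k.2.1 u (by simp)
  obtain ⟨_, L'⟩ := h.lg u m.1
  obtain ⟨e, he, n⟩ := L'.noc a (Dd_symm ha.1 m)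
  exact ⟨e, h.step hx (h.step hx ha m.1 m.2.2) he.1 he.2.2, n⟩

theorem cp_conj (g : G) (k : y ∈ Cp D x) : g * y * g⁻¹ ∈ Cp D (g * x * g⁻¹) :=
  let ⟨hy, w, hw, a, b⟩ := k
  ⟨h.conj g y hy, _, h.conj g w hw, (commute_conj_iff g).2 a, (commute_conj_iff g).2 b⟩

theorem nm (hx : x ∈ D) (k : y ∈ Cp D x) (k' : g * y * g⁻¹ ∈ Cp D x) : g ∈ cstab (Cp D x) :=
  mem_cstab_of_finite fun _ hv => h.trans hx k' (h.cp_conj g (h.trans k.1 (LD.symm hx k) hv))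

theorem nm' (hx : x ∈ D) (k : y ∈ Cp D x) (c : Commute g y) : g ∈ cstab (Cp D x) :=
  h.nm hx k (by rwa [conj_eq_of_commute c])

theorem le_nm (hx : x ∈ D) : closure (Cp D x) ≤ cstab (Cp D x) := fun _ hg =>
  h.nm hx (LD.self hx) ((h.cp_wt hx).conj_mem hg (LD.self hx))

theorem odd (hx : x ∈ D) : Odd (Cp D x).ncard := by
  obtain ⟨Q, h1, h2, h3⟩ := h.two x hx
  exact odd_of h1 (h2.trans ((h.le_cp hx (LD.self hx)).trans (h.le_nm hx))) (LD.self hx)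
    (fun q hq => cj_eq_iff_comm.1 (closure_dd_comm (h2 hq))) fun y hy c =>
      (h3 y c).resolve_left fun e => (h.cp_noC hx).one_not_mem (e ▸ hy)

theorem zen (hx : x ∈ D) (c : ∀ y ∈ Cp D x, Commute g y) : g = 1 := by
  obtain ⟨Q, -, h2, h3⟩ := h.two x hx
  obtain ⟨e, he, n⟩ := h.cp_noC hx x (LD.self hx)
  exact (h3 g fun q hq => mem_cent1.1 ((closure_le C1[g]).2 (fun y hy => mem_cent1.2 (c y hy).symm)
    (h.le_cp hx (LD.self hx) (h2 hq)))).resolve_right fun k => n (k ▸ c e he).symm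

theorem sep (hx : x ∈ D) : Sep (Cp D x) := by
  obtain ⟨R, L⟩ := h.lg x hx
  obtain ⟨e, he, n⟩ := h.cp_noC hx x (LD.self hx)
  have d := (h.dd_cp hx (LD.self hx)).ge
  refine ⟨x, LD.self hx, ⟨e, he, fun c => n c.symm⟩, fun v hv ne => ?_⟩
  by_cases c : Commute x v
  · obtain ⟨e, he, n⟩ := L.noc v ⟨hv.1, ne, c⟩
    exact ⟨e, (d he).1, he.2.1, fun k => n (k ▸ .refl _), fun k => n (k.1 he.2.2).symm⟩
  obtain ⟨a, b, k⟩ := L.ne
  obtain ⟨n, k⟩ := L.ex (k.2.1 a (by simp))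
  by_contra k'
  push Not at k'
  exact c (mem_cent1.1 (L.prod k fun s hs => mem_cent1.2
    ((k' s (d (L.mem hs)).1 (L.mem hs).2.1 fun e => c (e ▸ (L.mem hs).2.2)).1 (L.mem hs).2.2).symm))

theorem comp (hx : x ∈ D) : InvP (Cp D x) 3 ∧ Nonempty (closure (Cp D x) ≃* PSU 6 F 2) ∧
    #(C1[x].subgroupOf (closure (Cp D x))) = 2 ^ 15 * 405 := by
  have k : KMap (closure (Cp D x)).subtype {y | y.1 ∈ Cp D x} (Cp D x) := by
    convert KMap.of_hom ((h.cp_wt hx).subtype _) (closure (Cp D x)).subtype (subtype_injective _).injOn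
    exact Set.ext fun y => ⟨fun m => ⟨⟨y, Subgroup.subset_closure m⟩, m, rfl⟩, by rintro ⟨y, m, rfl⟩; exact m⟩
  obtain ⟨f, k1, -⟩ := k.symm
  obtain ⟨R, L⟩ := h.lg x hx
  have d := h.dd_cp hx (LD.self hx)
  let a : closure (Cp D x) := ⟨x, Subgroup.subset_closure (LD.self hx)⟩
  have tg := k.wt'.group (k.noC (h.cp_noC hx)).one_not_mem (closure_subtype_eq_top _)
  have cls := TC.mk' tg ⟨a, LD.self hx⟩ fun x hx y hy => let ⟨g, _, e⟩ := k1.tr1 (h.cp_tr1 ‹_›) x hx y hy; ⟨g, e⟩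
  obtain ⟨y, _, c⟩ := L.ne
  have hy := c.2.1 y (by simp)
  have hw : ∃ a ∈ {y : closure (Cp D x) | y.1 ∈ Cp D x}, ∃ b ∈ {y : closure (Cp D x) | y.1 ∈ Cp D x}, a ≠ b ∧ Commute a b :=
    ⟨a, LD.self hx, ⟨y, Subgroup.subset_closure (d.ge hy).1⟩, (d.ge hy).1, fun e => hy.2.1 (congrArg Subtype.val e).symm,
      Subtype.ext hy.2.2⟩
  have := Sep.cores cls (by
    obtain ⟨y, hy, ⟨y', hy', n⟩, k⟩ := h.sep hx
    refine ⟨⟨y, Subgroup.subset_closure hy⟩, hy, ⟨⟨y', Subgroup.subset_closure hy'⟩, hy', fun c => n (congrArg Subtype.val c)⟩,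
      fun v hv ne => ?_⟩
    obtain ⟨e, he, a, b, c⟩ := k v hv fun e => ne (Subtype.ext e)
    exact ⟨⟨e, Subgroup.subset_closure he⟩, he, fun e => a (congrArg Subtype.val e), fun e => b (congrArg Subtype.val e),
      fun k => c ⟨fun c => congrArg Subtype.val (k.1 (Subtype.ext c)), fun c => congrArg Subtype.val (k.2 (Subtype.ext c))⟩⟩)
  have P : PR {y : closure (Cp D x) | y.1 ∈ Cp D x} := ⟨tg, TC.primitive_of_connected cls
    (let ⟨a, ha, b, hb, c⟩ := hw; ⟨a, ha, b, hb, c.1⟩) this.1 this.2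
    (connected_of_induction ⟨a, LD.self hx⟩ fun X u hu hX st v hv => by
      obtain ⟨p, hp, c1, c2⟩ := h.near hx hu hv
      exact st ⟨p, Subgroup.subset_closure hp⟩ hp v hv (st u hu _ hp hX (Subtype.ext c1.symm)) (Subtype.ext c2)), hw,
    eq_bot_iff.2 fun g hg => Subtype.ext (h.zen hx fun y hy =>
      congrArg Subtype.val (mem_center_iff.1 hg ⟨y, Subgroup.subset_closure hy⟩).symm)⟩
  obtain s | ⟨n, n4, U⟩ := P.caseB (F := F) (d := a) (LD.self hx) fun vt => by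
    have vt := vt.kmap (k.dd (a := a) (LD.self hx))
    rw [show (closure (Cp D x)).subtype a = x from rfl, d] at vt
    obtain ⟨m, hm⟩ := L.ex hy
    obtain ⟨f, f1, f2, f3, -⟩ := L.four hm
    exact one_ne_zero (f1 ((vt y hy _ ⟨L.mem (f2 1), fun e he => by
      obtain ⟨r, hr⟩ := L.ex he
      rw [L.cm (f2 1) hr, L.cm hm hr]⟩).trans f3.symm))
  · have o := om_add_one_ne_zero (F := F)
    have o' := om_ne_zero (F := F)
    obtain ⟨p, hp⟩ := L.sur (n := ![1, om F, 0, 0]) ⟨fun h => one_ne_zero (congrFun h 0), by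
      simp [hermForm, Fin.sum_univ_four, f4_add_self, f4_cube om_ne_zero]⟩
    obtain ⟨u, hu⟩ := L.sur (n := ![1, 1, 0, 0]) ⟨fun h => one_ne_zero (congrFun h 0), by
      simp [hermForm, Fin.sum_univ_four, f4_add_self]⟩
    obtain ⟨v, hv⟩ := L.sur (n := ![1, 0, 1, 0]) ⟨fun h => one_ne_zero (congrFun h 0), by
      simp [hermForm, Fin.sum_univ_four, f4_add_self]⟩
    have := s.kmap k u (d.ge (L.mem hu)).1 v (d.ge (L.mem hv)).1 (L.nc hu hv (by simp [hermForm, Fin.sum_univ_four])) p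
      (d.ge (L.mem hp)).1
    rw [L.cm hp hu, L.cm hp hv, L.cm hp (L.tri hu hv)] at this
    simp [tvn, hermForm, Fin.sum_univ_four, f4_add_self, add_comm (1 : F), o, o'] at this
  obtain ⟨e, -⟩ := out_u tg P.z n4 U
  obtain ⟨j, hj, e1⟩ := h.ord x hx _ (h.le_cp hx (LD.self hx))
  have e2 := card_of (h.le_nm hx) (LD.self hx) (h.cp_tr1 hx)
  rw [e1, Nat.card_congr e.toEquiv, mul_assoc] at e2
  obtain ⟨rfl, rfl⟩ := six n4 (Odd.mul (by decide) (h.odd hx)) hj e2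
  obtain ⟨lam, U⟩ := U
  exact ⟨k.invP U.uk.invP, ⟨e⟩, e1⟩

end GD

end Cfsg.Agent.U6R
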