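import Cfsg.Agent.U6R.Out
import Cfsg.Agent.Fischer.Cmp

/-! The conjugates of `z` commuting with `z` in a natural frame (helper24): their vectors `RV`, the local geometry `LG`
(`NF.lg`) and generation of the linear part (`NF.gen`). -/

set_option autoImplicit false
set_option linter.unusedSectionVars false

namespace Cfsg.Agent.U6R

open Cfsg.Agent.Fischer Cfsg.Agent.FI Cfsg.Agent.Classical Subgroup Cfsg.Agent.BG Cfsg.Agent.LES Cfsg.Agent.PGrp Module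

variable {F : Type*} [Field F] [Fintype F] [hF : Fact (Fintype.card F = 2 ^ 2)]
variable {G : Type*} [Group G] [Finite G] {z t s x y a b g d : G} {Q H P K : Subgroup G} {p p' : G → Fin 4 → F}
  {φ : (Fin 4 → F) → ZMod 2} {β : (Fin 4 → F) →+ (Fin 4 → F) →+ ZMod 2} {ν ν' : G → (Fin 4 → F) →+ (Fin 4 → F)}
  {u v w n m : Fin 4 → F} {c : F} {D : Set G}

theorem tvn_smul (hc : c ≠ 0) (n v : Fin 4 → F) : tvn (c • n) v = tvn n v := by
  rw [tvn, tvn, hSr, smul_smul, mul_right_comm, mul_comm (c ^ 2), f4_cube hc, one_mul]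

theorem ex_iso (h : v ≠ 0) : ∃ u, Ison u ∧ hn v u ≠ 0 := by
  by_cases k : hn v v = 0
  · obtain ⟨u, a, b⟩ := exists_iso_partner h k
    exact ⟨u, ⟨fun e => by simp [e] at b, a⟩, hnC (b.trans_ne one_ne_zero)⟩
  obtain ⟨u, u0, uu⟩ := exists_isotropic (F := F) (q := 2) (n := 4) (by omega)
  obtain ⟨u', a, b⟩ := exists_iso_partner u0 uu
  by_contra e
  push Not at e
  have e1 := e u ⟨u0, uu⟩
  have e2 := e u' ⟨fun e => by simp [e] at b, a⟩
  have k1 := (f4_01 (hC v v)).resolve_left k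
  have e3 : hn v (u + om F • u' + v) = 1 := by simp [e1, e2, k1]
  refine one_ne_zero (e3.symm.trans (e _ ⟨fun e => by simp [e] at e3, ?_⟩))
  simp only [hAl, hAr, hSl, hSr, e1, e2, hn_comm.1 e1, hn_comm.1 e2, k1, h1C b, show hn u u = 0 from uu,
    show hn u' u' = 0 from a, show hn u' u = 1 from b]
  linear_combination om_tr (F := F) + f4_two (F := F)

/-- The vector of a member of `Δ`. -/
def RV (ν : G → (Fin 4 → F) →+ (Fin 4 → F)) (z x : G) (n : Fin 4 → F) : Prop :=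
  x ∈ Dd (conjugatesOf z) z ∧ Ison n ∧ ∀ v, ν x v = tvn n v

/-- The local geometry. -/
structure LG (D : Set G) (d : G) (R : G → (Fin 4 → F) → Prop) : Prop where
  ex : ∀ {x}, x ∈ Dd D d → ∃ n, R x n
  mem : ∀ {x n}, R x n → x ∈ Dd D d
  iso : ∀ {x n}, R x n → Ison n
  sur : ∀ {n}, Ison n → ∃ x, R x n
  cm : ∀ {x y n m}, R x n → R y m → (Commute x y ↔ hn n m = 0)
  tri : ∀ {x y n m}, R x n → R y m → R (x * y * x) (tvn n m)
  four : ∀ {x n}, R x n → ∃ f : F → G, f.Injective ∧ (∀ c, R (f c) n) ∧ f 0 = x ∧ f 0 * f 1 * (f (om F) * f (1 + om F)) = d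
  wt : WT (Dd D d)
  tr1 : Tr1 (Dd D d)

namespace NF
variable (N : NF z Q H p φ β ν)
include N

theorem wq (hs : s ∈ conjugatesOf z) (h : s ∈ Q) : s = z := by
  obtain ⟨g, rfl⟩ := isConj_iff.1 hs
  by_contra n
  exact N.wc (N.toFm.conj g) h (N.le.sym (by rw [N.cardQ]; decide) h) n

theorem sqD (hs : s ∈ conjugatesOf z) : s * s = 1 := by
  obtain ⟨g, rfl⟩ := isConj_iff.1 hs
  rw [conj_mul, N.zz]; simp

theorem loc (ht : t ∈ Dd (conjugatesOf z) z) : t ∈ H ∧ t * z ∉ conjugatesOf z ∧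
    ∃ n, RV ν z t n ∧ ∀ x ∈ Q, hn (p x) n = 0 → Commute t x := by
  obtain ⟨g, rfl⟩ := isConj_iff.1 ht.1
  have M : PD (conjugatesOf z) z _ Q (cj g Q) := ⟨fun g _ => CM.conj_mem g, mem_conjugatesOf_self, ht.1, N.le,
    N.le.conj g, ht.2.2.symm, fun _ => N.wq, fun d h => (N.conj g).wq (IsConj.trans (IsConj.symm ht.1) h), ht.2.1⟩
  have h1 := M.out N (N.toFm.conj g)
  obtain ⟨a, n, b, c, e⟩ := M.loc N (N.conj g) h1 (M.symm.out (N.conj g) N.toFm)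
  exact ⟨h1, a, n, ⟨ht, b, c⟩, e⟩

theorem eN (h : RV ν z x n) (v : Fin 4 → F) : ν x v + v = hn v n • n := by
  rw [h.2.2, tvn, add_right_comm, N.h2, zero_add]

theorem fx (h : RV ν z x n) : ν x v = v ↔ hn v n = 0 :=
  ⟨fun e => (smul_eq_zero.1 (by rw [← N.eN h, e, N.h2])).resolve_right h.2.1.1, fun e => by rw [h.2.2, tvn_of_orth e]⟩

theorem cenR (h : RV ν z x n) (hy : y ∈ Q) (e : hn (p y) n = 0) : Commute x y :=
  let ⟨_, _, _, k, c⟩ := N.loc h.1; c y hy ((N.fx k).1 ((N.fx h).2 e))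

theorem cjR (h : RV ν z x n) (hg : g ∈ H) : RV ν z (g * x * g⁻¹) (ν g n) := by
  have c := N.Hz hg
  have cx := h.1.2.2.symm
  refine ⟨⟨CM.conj_mem g h.1.1, fun e => h.1.2.1 (by rw [← cj_eq_iff_comm.2 c, conj_inj] at e; exact e),
    ((c.mul_left cx).mul_left c.inv_left).symm⟩, ⟨fun e => h.2.1.1 (by rw [← N.nu_inv c n, e, map_zero]),
    (N.hn_lin hg n n).trans h.2.1.2⟩, fun v => ?_⟩
  rw [N.nu_mul (c.mul_left cx) c.inv_left, N.nu_mul c cx, h.2.2, tvn, tvn, map_add, N.lin hg, N.nu_inv' c,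
    ← N.hn_lin hg, N.nu_inv' c]

theorem mulQ (h : RV ν z x n) (hy : y ∈ Q) (k : x * y ∈ conjugatesOf z) :
    RV ν z (x * y) n ∧ Commute x y ∧ y * y = 1 ∧ (∃ c : F, p y = c • n) ∧ (p y = 0 → y = 1) := by
  have cx := h.1.2.2.symm
  have xx := N.sqD h.1.1
  have k' : RV ν z (x * y) n := ⟨⟨k, fun e => h.1.2.1 (N.wq h.1.1 (by
    rw [← Q.mul_mem_cancel_right hy, e]; exact N.es.zQ)), (cx.mul_left (N.Qz hy)).symm⟩, h.2.1,
    fun v => by rw [N.nu_mul cx (N.Qz hy), N.nu_Q hy, h.2.2]⟩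
  have s := N.sqD k
  have c : Commute x y := N.cenR h hy ((N.fx h).1 (by
    rw [← N.act cx hy, show x * y * x⁻¹ = y⁻¹ by rw [inv_eq_of_sq xx, eq_inv_iff_mul_eq_one, ← s]; group, N.inv hy]))
  refine ⟨k', c, by rwa [c.symm.mul_mul_mul_comm, xx, one_mul] at s, N.in_line fun v hv => ?_, fun e =>
    ((N.p0 hy).1 e).resolve_right fun e => (N.loc h.1).2.1 (e ▸ k)⟩
  obtain ⟨q, hq, rfl⟩ := N.surj v
  simpa [N.comm hy hq] using (N.cenR h hq hv).inv_left.mul_left (N.cenR k' hq hv)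

theorem same (h : RV ν z x n) (h' : RV ν z y m) (e : ∀ v, tvn n v = tvn m v) : ∃ w ∈ Q, y = x * w :=
  ⟨x⁻¹ * y, N.ker (h.1.2.2.symm.inv_left.mul_left h'.1.2.2.symm) fun v => by
    rw [N.nu_mul h.1.2.2.symm.inv_left h'.1.2.2.symm, h'.2.2, ← e, ← h.2.2, N.nu_inv h.1.2.2.symm], by group⟩

theorem tri (h : RV ν z x n) (h' : RV ν z y m) : RV ν z (x * y * x) (tvn n m) := by
  simpa only [inv_eq_of_sq (N.sqD h.1.1), h.2.2] using N.cjR h' (N.loc h.1).1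

theorem cm (h : RV ν z x n) (h' : RV ν z y m) : Commute x y ↔ hn n m = 0 := by
  have xx := N.sqD h.1.1
  have yy := N.sqD h'.1.1
  refine ⟨fun c => by_contra fun k => h.2.1.1 ?_, fun e => ?_⟩
  · have := N.nu_mul h.1.2.2.symm h'.1.2.2.symm n
    rw [c.eq, N.nu_mul h'.1.2.2.symm h.1.2.2.symm, (N.fx h).2 h.2.1.2, h'.2.2, tvn, map_add, N.lin (N.loc h.1).1,
      (N.fx h).2 h.2.1.2, h.2.2, tvn, smul_add, smul_smul, ← hC n m, f4_cube k, one_smul, add_right_inj] at this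
    exact left_eq_add.1 this
  by_cases k : ∃ c : F, n = c • m
  · obtain ⟨c, rfl⟩ := k
    obtain ⟨w, hw, rfl⟩ := N.same h h' (tvn_smul (fun e => h.2.1.1 (by simp [e])) m)
    exact (Commute.refl x).mul_right (N.mulQ h hw h'.1.1).2.1
  obtain ⟨w, hw, e1⟩ := N.same h (N.tri h' h) (by rw [tvn_of_orth e]; exact fun _ => rfl)
  obtain ⟨-, -, -, ⟨c, e2⟩, e3⟩ := N.mulQ h hw (e1 ▸ (N.tri h' h).1.1)
  have e4 : y * w⁻¹ = x * y * x := by
    rw [show w = x⁻¹ * (y * x * y) by rw [e1]; group, inv_eq_of_sq xx]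
    simp only [mul_inv_rev, inv_eq_of_sq xx, inv_eq_of_sq yy, ← mul_assoc, yy, one_mul]
  obtain ⟨-, -, -, ⟨c', e5⟩, -⟩ := N.mulQ h' (inv_mem hw) (e4 ▸ (N.tri h h').1.1)
  rw [N.inv hw, e2] at e5
  rw [e3 (by_contra fun k' => k ⟨c⁻¹ * c', by
    rw [mul_smul, ← e5, inv_smul_smul₀ fun e => k' (by simp [e2, e])]⟩), mul_one] at e1
  exact (commute_of_tri yy e1).symm

theorem br (h : RV ν z x n) (h' : RV ν z y m) (k : hn n m ≠ 0) : Br x y := by
  have xx := N.sqD h.1.1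
  have yy := N.sqD h'.1.1
  have a := N.tri h h'
  obtain ⟨w, hw, e1⟩ := N.same a (N.tri h' h) (by
    rw [show tvn m n = hn n m • tvn n m by
      rw [tvn, tvn, smul_add, smul_smul, ← hC n m, f4_cube k, one_smul, add_comm]]
    exact fun v => (tvn_smul k _ v).symm)
  obtain ⟨-, -, s, ⟨c, e2⟩, e3⟩ := N.mulQ a hw (e1 ▸ (N.tri h' h).1.1)
  have e4 : w = x * y * x * (y * x * y) := by rw [e1, ← mul_assoc, N.sqD a.1.1, one_mul]
  have c1 : x * w * x⁻¹ = w := by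
    nth_rw 2 [← inv_eq_of_sq s]; rw [e4]
    simp only [mul_inv_rev, inv_eq_of_sq xx, inv_eq_of_sq yy, ← mul_assoc, xx, one_mul]
  have := N.act h.1.2.2.symm hw
  rw [c1, eq_comm, N.fx h, e2, hSl, tvn, hAl, hSl, h.2.1.2, mul_zero, add_zero] at this
  rw [e3 (by rw [e2, (mul_eq_zero.1 this).resolve_right (hnC k), zero_smul]), mul_one] at e1
  exact e1.symm

theorem move (h : RV ν z x n) (i : Ison m) : ∃ g ∈ H, RV ν z (g * x * g⁻¹) m := by
  have f : ∀ {x n m}, RV ν z x n → Ison m → hn n m ≠ 0 → ∃ g ∈ H, RV ν z (g * x * g⁻¹) m := fun {x n m} h i k => by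
    have e : hn n (n + hn n m • m) = 1 := by rw [hAr, hSr, h.2.1.2, zero_add, mul_comm, f4_cube k]
    obtain ⟨g, hg, eg⟩ := N.tv (n + hn n m • m) ⟨fun h => by simp [h] at e, by
      rw [hAl, e, hSl, hAr, hSr, i.2, mul_zero, add_zero, ← hC n m, f4_cube k, f4_add_self]⟩
    have := N.cjR h hg
    rw [eg, tvn, e, one_smul, c2' N.h2] at this
    exact ⟨g, hg, this.1, i, fun v => (this.2.2 v).trans (tvn_smul k m v)⟩
  obtain ⟨w, hw, h1, h2⟩ := exists_iso_both h.2.1.1 i.1 h.2.1.2 i.2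
  obtain ⟨g, hg, k⟩ := f h ⟨fun h => h1 (by simp [h]), hw⟩ (hnC h1)
  obtain ⟨g', hg', k'⟩ := f k i h2
  exact ⟨_, mul_mem hg' hg, by simpa [mul_assoc] using k'⟩

theorem cjQ (h : RV ν z x n) (h' : RV ν z y n) : ∃ q ∈ Q, q * x * q⁻¹ = y := by
  obtain ⟨w, hw, rfl⟩ := N.same h h' fun _ => rfl
  obtain ⟨-, -, -, ⟨c, e⟩, -⟩ := N.mulQ h hw h'.1.1
  obtain ⟨u, -, un⟩ := exists_iso_partner h.2.1.1 h.2.1.2
  obtain ⟨q, hq, -, k | k⟩ := N.cj_or h.1.2.2.symm (N.sqD h.1.1) hw (v := c • u) (by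
    rw [N.eN h, hSl, show hn u n = 1 from un, mul_one, e])
  · exact ⟨q, hq, k⟩
  exact absurd (k ▸ CM.conj_mem q h.1.1) (N.loc h'.1).2.1

theorem four (h : RV ν z x n) : ∃ f : F → G, f.Injective ∧ (∀ c, RV ν z (f c) n) ∧ f 0 = x ∧
    f 0 * f 1 * (f (om F) * f (1 + om F)) = z := by
  have xx := N.sqD h.1.1
  obtain ⟨u, -, un⟩ := exists_iso_partner h.2.1.1 h.2.1.2
  have un : hn u n = 1 := un
  have : ∀ c : F, ∃ w ∈ Q, p w = c • n ∧ ∃ q ∈ Q, p q = c • u ∧ q * x * q⁻¹ = x * w := fun c => by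
    obtain ⟨q, hq, e⟩ := N.surj (c • u)
    obtain ⟨w, hw, e1, e2⟩ := N.cjt h.1.2.2.symm xx hq
    exact ⟨w, hw, by rw [e2, N.eN h, e, hSl, un, mul_one], q, hq, e, e1⟩
  choose w w1 w2 q q1 q2 q3 using this
  have m := fun c => N.mulQ h (w1 c) (q3 c ▸ CM.conj_mem _ h.1.1)
  refine ⟨fun c => x * w c, fun c c' e => smul_left_injective F h.2.1.1 (by
    simp only [← w2, mul_left_cancel e]), fun c => (m c).1, by simp [(m 0).2.2.2.2 (by simp [w2])], ?_⟩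
  have e1 : q 1 * w (om F) * (q 1)⁻¹ = w (om F) * z := N.es.conj_of_not (q1 _) (w1 _) fun c => by
    have := N.b0.1 ((N.comm (q1 _) (w1 _)).2 c)
    rw [q2, w2, one_smul, hSr, un, mul_one, f4_pow4, add_comm, om_tr] at this
    exact one_ne_zero this
  have e2 : x * (w 1 * (w (om F) * z)) ∈ conjugatesOf z := by
    have := CM.conj_mem (q 1) (CM.conj_mem (q (om F)) h.1.1)
    rwa [q3, ← conj_mul, q3, e1, mul_assoc] at this
  have mQ := mul_mem (w1 1) (mul_mem (w1 (om F)) N.es.zQ)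
  have e3 : w 1 * (w (om F) * z) = w (1 + om F) := by
    refine ((N.eq_iff (w1 _) mQ).1 (by
      rw [N.add (w1 _) (mul_mem (w1 _) N.es.zQ), N.add (w1 _) N.es.zQ, N.pz, w2, w2, w2, add_zero, add_smul])).resolve_right
      fun e => (N.loc (m (1 + om F)).1.1).2.1 ?_
    rwa [e, ← mul_assoc] at e2
  have c : Commute (w (om F)) (w 1) := (N.comm (w1 _) (w1 _)).1 (N.b_of (by simp [w2, h.2.1.2]))
  simp only [(m 0).2.2.2.2 (by simp [w2]), mul_one]
  rw [← mul_assoc x, xx, one_mul, (m _).2.1.symm.mul_mul_mul_comm, xx, one_mul, ← e3, c.left_comm, ← mul_assoc,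
    (m 1).2.2.1, one_mul, ← mul_assoc, (m _).2.2.1, one_mul]

variable (ne : t ∈ Dd (conjugatesOf z) z)
include ne

theorem sur (i : Ison n) : ∃ x, RV ν z x n :=
  let ⟨_, _, _, h, _⟩ := N.loc ne; let ⟨_, _, k⟩ := N.move h i; ⟨_, k⟩

theorem genQ : Q ≤ closure (Dd (conjugatesOf z) z) := by
  have f : ∀ n, Ison n → ∃ w ∈ Q, w ∈ closure (Dd (conjugatesOf z) z) ∧ p w = n := fun n i => by
    obtain ⟨x, h⟩ := N.sur ne i
    obtain ⟨u, -, un⟩ := exists_iso_partner i.1 i.2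
    obtain ⟨q, hq, e⟩ := N.surj u
    obtain ⟨w, hw, e1, e2⟩ := N.cjt h.1.2.2.symm (N.sqD h.1.1) hq
    exact ⟨w, hw, (mul_mem_cancel_left (subset_closure h.1)).1 (e1 ▸ subset_closure (N.cjR h (N.QH hq)).1),
      by rw [e2, N.eN h, e, show hn u n = 1 from un, one_smul]⟩
  have hz : z ∈ closure (Dd (conjugatesOf z) z) := by
    obtain ⟨-, -, n, h, -⟩ := N.loc ne
    obtain ⟨f, -, k, -, e⟩ := N.four h
    have m := fun c => Subgroup.subset_closure (k c).1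
    exact (mul_mem (mul_mem (m _) (m _)) (mul_mem (m _) (m _)) |> (congrArg (· ∈ _) e).mp :)
  have g : ∀ x ∈ Q, hn (p x) (p x) = 0 → x ∈ closure (Dd (conjugatesOf z) z) := fun x hx e => by
    by_cases k : p x = 0
    · rcases (N.p0 hx).1 k with rfl | rfl
      exacts [one_mem _, hz]
    obtain ⟨w, hw, a, b⟩ := f _ ⟨k, e⟩
    rcases (N.eq_iff hw hx).1 b with rfl | rfl
    exacts [a, mul_mem a hz]
  intro x hx
  by_cases k : p x = 0
  · exact g x hx (by simp [k])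
  obtain ⟨u, i, e⟩ := ex_iso k
  obtain ⟨c, hc⟩ := exists_iso_add i.2 e
  obtain ⟨y, hy, e'⟩ := N.surj (c • u)
  exact (mul_mem_cancel_right (g y hy (by simp [e', i.2]))).1 (g _ (mul_mem hx hy) (by rwa [N.add hx hy, e']))

theorem gen (su : ∀ h ∈ H, ∃ g : SU 4 F 2, ∀ v, ν h v = g • v) : H ≤ closure (Dd (conjugatesOf z) z) := fun h hh => by
  obtain ⟨g, e⟩ := su h hh
  obtain ⟨k, k1, k2, k3⟩ : ∃ k ∈ closure (Dd (conjugatesOf z) z), Commute k z ∧ ∀ v, ν k v = g • v := by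
    clear e
    induction (closure_suSet (F := F) (n := 4) le_rfl).ge (mem_top g) using closure_induction with
    | mem g hg =>
      obtain ⟨n, i, rfl⟩ := (mem_suSet g).1 hg
      obtain ⟨x, h⟩ := N.sur ne i
      exact ⟨x, subset_closure h.1, h.1.2.2.symm, fun v => by rw [h.2.2, sTn_smul i.2]⟩
    | one => exact ⟨1, one_mem _, .one_left _, fun v => by rw [N.nu_Q (one_mem _), one_smul]⟩
    | mul a b _ _ ha hb =>
      obtain ⟨x, x1, x2, x3⟩ := ha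
      obtain ⟨y, y1, y2, y3⟩ := hb
      exact ⟨_, mul_mem x1 y1, x2.mul_left y2, fun v => by rw [N.nu_mul x2 y2, y3, x3, mul_smul]⟩
    | inv a _ ha =>
      obtain ⟨x, x1, x2, x3⟩ := ha
      exact ⟨_, inv_mem x1, x2.inv_left, fun v => by rw [eq_inv_smul_iff, ← x3, N.nu_inv' x2]⟩
  exact (mul_mem_cancel_left (inv_mem k1)).1 (N.genQ ne (N.ker (k2.inv_left.mul_left (N.Hz hh)) fun v => by
    rw [N.nu_mul k2.inv_left (N.Hz hh), e, ← k3, N.nu_inv k2]))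

theorem lg (su : ∀ h ∈ H, ∃ g : SU 4 F 2, ∀ v, ν h v = g • v) : LG (conjugatesOf z) z (RV ν z) := by
  have ex : ∀ {x}, x ∈ Dd (conjugatesOf z) z → ∃ n, RV ν z x n := fun h => let ⟨_, _, n, k, _⟩ := N.loc h; ⟨n, k⟩
  refine ⟨ex, fun h => h.1, fun h => h.2.1, N.sur ne, N.cm, N.tri, N.four, ⟨fun x h => N.sqD h.1, fun x hx y hy => ?_,
    fun x hx y hy => let ⟨_, a⟩ := ex hx; let ⟨_, b⟩ := ex hy; (N.tri a b).1⟩, fun x hx y hy => ?_⟩ <;>
    obtain ⟨n, a⟩ := ex hx <;> obtain ⟨m, b⟩ := ex hy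
  · exact (em _).imp (N.cm a b).2 (N.br a b)
  obtain ⟨g, hg, k⟩ := N.move a b.2.1
  obtain ⟨q, hq, e⟩ := N.cjQ k b
  exact ⟨_, N.gen ne su (mul_mem (N.QH hq) hg), by simpa [mul_assoc] using e⟩

end NF

end Cfsg.Agent.U6R
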