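import Cfsg.Agent.U6R.Mod
import Cfsg.Agent.Co1T.A1

/-! Frames `Fm` for a large extraspecial group of order `2^9` (helper24): coordinates `p : Q → V`, the forms and the
action `ν` of `C(z)`; pairs `PD` of commuting conjugates `z`, `t` with `t ∉ Q_z`, `z ∉ Q_t` and their calculus. -/

set_option autoImplicit false
set_option linter.unusedSectionVars false

namespace Cfsg.Agent.U6R

open Cfsg.Agent.Fischer Cfsg.Agent.FI Subgroup Cfsg.Agent.BG Cfsg.Agent.LES Cfsg.Agent.PGrp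
open Co1A (inner cQ cQ_val)

universe u
variable {G : Type u} [Group G] [Finite G] {V : Type*} [AddCommGroup V] [Finite V] {z t x y a b g : G}
  {Q H P K : Subgroup G} {p p' : G → V} {φ : V → ZMod 2} {β : V →+ V →+ ZMod 2} {ν ν' : G → V →+ V} {u v w : V}

/-- A frame; `H` is a subgroup of index at most two of `C(z)`. -/
structure Fm (z : G) (Q H : Subgroup G) (p : G → V) (φ : V → ZMod 2) (β : V →+ V →+ ZMod 2) (ν : G → V →+ V) :
    Prop where
  le : LE Q z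
  add : ∀ {x y}, x ∈ Q → y ∈ Q → p (x * y) = p x + p y
  surj : ∀ v, ∃ x ∈ Q, p x = v
  p0 : ∀ {x}, x ∈ Q → (p x = 0 ↔ x = 1 ∨ x = z)
  sq : ∀ {x}, x ∈ Q → (φ (p x) = 0 ↔ x * x = 1)
  comm : ∀ {x y}, x ∈ Q → y ∈ Q → (β (p x) (p y) = 0 ↔ Commute x y)
  pol : ∀ u v, φ (u + v) = φ u + φ v + β u v
  act : ∀ {h x}, Commute h z → x ∈ Q → p (h * x * h⁻¹) = ν h (p x)
  ker : ∀ {h}, Commute h z → (∀ v, ν h v = v) → h ∈ Q
  card : Nat.card V = 256
  QH : Q ≤ H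
  Hz : ∀ {h}, h ∈ H → Commute h z
  two : ∀ {a b}, Commute a z → Commute b z → a ∉ H → b ∉ H → a * b ∈ H

theorem z2_add (x : ZMod 2) : x + x = 0 := by revert x; decide
theorem z2_ne {x : ZMod 2} (h : x ≠ 0) : x = 1 := (z2_cases x).resolve_left h

theorem exists_Fm (h : LE Q z) (hQ : #Q = 2 ^ 9) (QH : Q ≤ H) (Hz : ∀ {h}, h ∈ H → Commute h z)
    (two : ∀ {a b}, Commute a z → Commute b z → a ∉ H → b ∉ H → a * b ∈ H) :
    ∃ (V : Type u) (_ : AddCommGroup V) (_ : Finite V) (_ : Module (ZMod 2) V) (p : G → V) (φ : V → ZMod 2)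
      (β : V →+ V →+ ZMod 2) (ν : G → V →+ V), Fm z Q H p φ β ν := by
  classical
  have E := h.toES.isES
  have hz : ∀ g, cQ h g ⟨z, h.zQ⟩ = ⟨z, h.zQ⟩ := fun g => Subtype.ext (mul_inv_eq_iff_eq_mul.2 (mem_cent1.1 g.2))
  have w : ∀ g x, E.π (cQ h g (E.out (E.π x))) = E.π (cQ h g x) := fun g x => by
    obtain ⟨u, hu, e⟩ := E.exists_out x
    rw [e, map_mul, E.mk_mul, (E.mk_eq_zero (x := cQ h g u)).2, add_zero]
    rw [← hz g]; exact mem_map_of_mem (cQ h g).toMonoidHom hu |> (MonoidHom.map_zpowers _ _).le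
  let f : C1[z] → E.V →+ E.V := fun g => AddMonoidHom.mk' (fun v => E.π (cQ h g (E.out v))) fun a b => by
    obtain ⟨a, rfl⟩ := E.mk_surjective a
    obtain ⟨b, rfl⟩ := E.mk_surjective b
    rw [← E.mk_mul, w, w, w, map_mul, E.mk_mul]
  have c : Nat.card E.V = 256 := by have := E.card_eq_mul; rw [hQ] at this; omega
  refine ⟨E.V, inferInstance, Nat.finite_of_card_ne_zero (by omega), inferInstance,
    fun x => if hx : x ∈ Q then E.π ⟨x, hx⟩ else 0, E.Q, .mk' (fun v => (E.B v).toAddMonoidHom) fun a b => by rw [map_add]; rfl,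
    fun g => if hg : g ∈ C1[z] then f ⟨g, hg⟩ else 0, h, fun hx hy => ?_, fun v => ?_, fun hx => ?_, fun hx => ?_,
    fun hx hy => ?_, fun u v => ?_, fun {g x} hg hx => ?_, fun {g} hg e => ?_, c, QH, Hz, two⟩
  · rw [dif_pos hx, dif_pos hy, dif_pos (Q.mul_mem hx hy)]; rfl
  · obtain ⟨x, rfl⟩ := E.mk_surjective v
    exact ⟨x, x.2, dif_pos x.2⟩
  · rw [dif_pos hx, E.mk_eq_zero, h.toES.mem_zp']
  · rw [dif_pos hx, E.Q_eq_zero, pow_two, Subtype.ext_iff]; rfl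
  · rw [dif_pos hx, dif_pos hy]
    exact E.B_eq_zero.trans ⟨fun h => congrArg Subtype.val h, fun h => Subtype.ext h⟩
  · show _ = _ + E.B u v
    rw [← E.polar_Q, QuadraticMap.polar]; ring
  · rw [dif_pos hx, dif_pos (h.conj_mem hg hx), dif_pos (mem_cent1.2 hg)]
    exact (w ⟨g, mem_cent1.2 hg⟩ ⟨x, hx⟩).symm
  · obtain ⟨q, hq, k⟩ := inner h.toES (cQ h ⟨g, mem_cent1.2 hg⟩) fun x => by
      have := e (E.π x)
      rw [dif_pos (mem_cent1.2 hg)] at this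
      exact (w _ x).symm.trans this
    have := h.cQ (q⁻¹ * g) fun y hy => by
      have : g * y * g⁻¹ = q * y * q⁻¹ := k ⟨y, hy⟩
      refine cj_eq_iff_comm.1 ?_
      rw [show q⁻¹ * g * y * (q⁻¹ * g)⁻¹ = q⁻¹ * (g * y * g⁻¹) * q by group, this]; group
    rw [← Q.mul_mem_cancel_left (Q.inv_mem hq)]
    rcases this with e | e <;> rw [e]
    exacts [Q.one_mem, h.zQ]

namespace Fm
variable (F : Fm z Q H p φ β ν)
include F

theorem es : ES Q z := F.le.toES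
theorem zz : z * z = 1 := F.es.zz
theorem Qz (hx : x ∈ Q) : Commute x z := F.es.zc x hx
theorem cjm (hg : Commute g z) (hx : x ∈ Q) : g * x * g⁻¹ ∈ Q := F.le.conj_mem hg hx
theorem p1 : p 1 = 0 := (F.p0 Q.one_mem).2 (.inl rfl)
theorem pz : p z = 0 := (F.p0 F.es.zQ).2 (.inr rfl)
theorem h2 (v : V) : v + v = 0 := by
  obtain ⟨x, hx, rfl⟩ := F.surj v
  rw [← F.add hx hx, F.p0 (Q.mul_mem hx hx)]; exact F.es.sq x hx
theorem inv (hx : x ∈ Q) : p x⁻¹ = p x :=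
  eq_of_add F.h2 (by rw [← F.add (Q.inv_mem hx) hx, inv_mul_cancel, F.p1])
theorem eq_iff (hx : x ∈ Q) (hy : y ∈ Q) : p x = p y ↔ y = x ∨ y = x * z := by
  rw [← inv_mul_eq_iff_eq_mul, ← inv_mul_eq_one (a := x) |>.symm.trans Iff.rfl |>.symm.trans eq_comm,
    ← F.p0 (Q.mul_mem (Q.inv_mem hx) hy), F.add (Q.inv_mem hx) hy, F.inv hx]
  exact ⟨fun h => h ▸ F.h2 _, eq_of_add F.h2⟩
theorem phi0 : φ 0 = 0 := F.p1 ▸ (F.sq Q.one_mem).2 (one_mul 1)
theorem alt (v : V) : β v v = 0 := by obtain ⟨x, hx, rfl⟩ := F.surj v; exact (F.comm hx hx).2 (.refl x)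
theorem symm (u v : V) : β u v = β v u := by
  have := F.pol u v
  rw [add_comm u, F.pol, add_comm (φ v)] at this
  exact (add_left_cancel this).symm
theorem nd (u : V) (h : ∀ v, β u v = 0) : u = 0 := by
  obtain ⟨x, hx, rfl⟩ := F.surj u
  exact (F.p0 hx).2 (F.es.cen x hx fun y hy => (F.comm hx hy).1 (h _))
theorem nu_mul (ha : Commute a z) (hb : Commute b z) (v : V) : ν (a * b) v = ν a (ν b v) := by
  obtain ⟨x, hx, rfl⟩ := F.surj v
  rw [← F.act (ha.mul_left hb) hx, ← F.act hb hx, ← F.act ha (F.cjm hb hx)]; congr 1; group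
theorem nu_Q (ha : a ∈ Q) (v : V) : ν a v = v := by
  obtain ⟨x, hx, rfl⟩ := F.surj v
  rw [← F.act (F.Qz ha) hx, F.add (Q.mul_mem ha hx) (Q.inv_mem ha), F.add ha hx, F.inv ha, add_right_comm, F.h2, zero_add]
theorem nu_inv (ha : Commute a z) (v : V) : ν a⁻¹ (ν a v) = v := by
  rw [← F.nu_mul ha.inv_left ha, inv_mul_cancel, F.nu_Q Q.one_mem]
theorem nu_inv' (ha : Commute a z) (v : V) : ν a (ν a⁻¹ v) = v := by simpa using F.nu_inv ha.inv_left v
theorem nu_phi (ha : Commute a z) (v : V) : φ (ν a v) = φ v := by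
  obtain ⟨x, hx, rfl⟩ := F.surj v
  have : φ (ν a (p x)) = 0 ↔ φ (p x) = 0 := by
    rw [← F.act ha hx, F.sq hx, F.sq (F.cjm ha hx), conj_mul, mul_inv_eq_one, mul_eq_left]
  revert this; generalize φ (ν a (p x)) = s; generalize φ (p x) = t; revert s t; decide
theorem nu_beta (ha : Commute a z) (u v : V) : β (ν a u) (ν a v) = β u v := by
  have := F.pol (ν a u) (ν a v)
  rw [← map_add, F.nu_phi ha, F.nu_phi ha, F.nu_phi ha, F.pol] at this
  exact (add_left_cancel this).symm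
theorem nu_fix (ha : Commute a z) (hx : x ∈ Q) (c : Commute a x) : ν a (p x) = p x := by
  rw [← F.act ha hx, cj_eq_iff_comm.2 c]
theorem nu_comm (ha : Commute a z) (hx : x ∈ Q) : p (a * x * a⁻¹ * x⁻¹) = ν a (p x) + p x := by
  rw [F.add (F.cjm ha hx) (Q.inv_mem hx), F.act ha hx, F.inv hx]
theorem nu_sq (ha : Commute a z) (h : a * a ∈ Q) (v : V) : ν a (ν a v) = v := by rw [← F.nu_mul ha ha, F.nu_Q h]

theorem mem_of (ha : Commute a z) (hb : Commute b z) (h : ∀ v, ν a (ν b v) = ν b (ν a v)) : a * b * a⁻¹ * b⁻¹ ∈ Q := by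
  refine F.ker (((ha.mul_left hb).mul_left ha.inv_left).mul_left hb.inv_left) fun v => ?_
  rw [F.nu_mul ((ha.mul_left hb).mul_left ha.inv_left) hb.inv_left, F.nu_mul (ha.mul_left hb) ha.inv_left,
    F.nu_mul ha hb, h, F.nu_inv' ha, F.nu_inv' hb]

/-- Elements centralising a co-isotropic set commute modulo `Q`. -/
theorem co (U : V → Prop) (hU : ∀ w, (∀ u, U u → β w u = 0) → U w) (ha : Commute a z) (hb : Commute b z)
    (h1 : ∀ u, U u → ν a u = u) (h2 : ∀ u, U u → ν b u = u) : a * b * a⁻¹ * b⁻¹ ∈ Q := by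
  have k : ∀ {a}, Commute a z → (∀ u, U u → ν a u = u) → ∀ v, U (ν a v + v) := fun {a} ha h v => hU _ fun u hu => by
    rw [map_add, AddMonoidHom.add_apply]; nth_rw 1 [← h u hu]; rw [F.nu_beta ha, z2_add]
  refine F.mem_of ha hb fun v => ?_
  have e1 := h1 _ (k hb h2 v)
  have e2 := h2 _ (k ha h1 v)
  rw [map_add] at e1 e2
  rw [← add_left_inj (ν a v), e1, ← add_left_inj (ν b v), add_right_comm _ (ν a v), e2]; abel_nf
  rw [two_zsmul, two_zsmul, F.h2, F.h2, add_comm]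

theorem nrm (hg : Commute g z) (ha : a ∈ H) : g * a * g⁻¹ ∈ H := by
  by_cases h : g ∈ H
  · exact mul_mem (mul_mem h ha) (inv_mem h)
  · exact F.two (hg.mul_left (F.Hz ha)) hg.inv_left (by rwa [H.mul_mem_cancel_right ha]) (by rwa [inv_mem_iff])

theorem comm_H (ha : Commute a z) (hb : Commute b z) : a * b * a⁻¹ * b⁻¹ ∈ H := by
  by_cases h : b ∈ H
  · exact mul_mem (F.nrm ha h) (inv_mem h)
  refine F.two ((ha.mul_left hb).mul_left ha.inv_left) hb.inv_left (fun k => h ?_) (by rwa [inv_mem_iff])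
  simpa [mul_assoc] using F.nrm ha.inv_left k

theorem conj (g : G) : Fm (g * z * g⁻¹) (cj g Q) (cj g H) (fun x => p (g⁻¹ * x * g)) φ β fun x => ν (g⁻¹ * x * g) := by
  have c : ∀ {x y}, Commute x (g * y * g⁻¹) ↔ Commute (g⁻¹ * x * g) y := fun {x y} => by
    rw [← commute_conj_iff g⁻¹]; simp [mul_assoc]
  have m : ∀ x y, g⁻¹ * (x * y) * g = g⁻¹ * x * g * (g⁻¹ * y * g) := fun _ _ => by group
  refine ⟨F.le.conj g, fun hx hy => by rw [m, F.add (mem_cj.1 hx) (mem_cj.1 hy)], fun v => ?_, fun {x} hx => ?_,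
    fun {x} hx => ?_, fun {x y} hx hy => ?_, F.pol, fun {h x} hh hx => ?_, fun hh e => mem_cj.2 (F.ker (c.1 hh) e),
    F.card, map_mono F.QH, fun hh => c.2 (F.Hz (mem_cj.1 hh)), fun ha hb h1 h2 => ?_⟩
  · obtain ⟨x, hx, rfl⟩ := F.surj v
    exact ⟨_, conj_mem_cj g hx, by simp [mul_assoc]⟩
  · rw [F.p0 (mem_cj.1 hx), ← conj_inj g, ← conj_inj (y := z) g]; simp [mul_assoc]
  · rw [F.sq (mem_cj.1 hx), ← m, ← conj_inj g]; simp [mul_assoc]
  · rw [F.comm (mem_cj.1 hx) (mem_cj.1 hy), ← c]; simp [mul_assoc]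
  · rw [← F.act (c.1 hh) (mem_cj.1 hx)]; congr 1; group
  · rw [mem_cj] at *; rw [m]; exact F.two (c.1 ha) (c.1 hb) h1 h2

theorem map {V' : Type*} [AddCommGroup V'] [Finite V'] (ι : V ≃+ V') : Fm z Q H (fun x => ι (p x)) (fun v => φ (ι.symm v))
    ((β.comp ι.symm.toAddMonoidHom).compl₂ ι.symm.toAddMonoidHom)
    fun g => ι.toAddMonoidHom.comp ((ν g).comp ι.symm.toAddMonoidHom) :=
  ⟨F.le, fun hx hy => by rw [F.add hx hy, map_add], fun v => let ⟨x, hx, e⟩ := F.surj (ι.symm v); ⟨x, hx, by simp [e]⟩,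
    fun hx => by rw [map_eq_zero_iff _ ι.injective, F.p0 hx], fun hx => by simpa using F.sq hx,
    fun hx hy => by simpa using F.comm hx hy, fun u v => by simp [F.pol], fun hh hx => by simp [F.act hh hx],
    fun hh e => F.ker hh fun v => by simpa using e (ι v), (Nat.card_congr ι.toEquiv).symm.trans F.card, F.QH, F.Hz, F.two⟩

/-- a lift fixing a given element of `Q`. -/
theorem lift (hg : Commute g z) (hx : x ∈ Q) (n : p x ≠ 0) (e : ν g (p x) = p x) :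
    ∃ q ∈ Q, Commute (q * g) x := by
  rcases (F.eq_iff hx (F.cjm hg hx)).1 (by rw [F.act hg hx, e]) with h | h
  · exact ⟨1, Q.one_mem, by rw [one_mul]; exact cj_eq_iff_comm.1 h⟩
  obtain ⟨q, hq, k⟩ := F.es.exists_conj hx (fun h => n (h ▸ F.p1)) fun h => n (h ▸ F.pz)
  refine ⟨q, hq, cj_eq_iff_comm.1 ?_⟩
  rw [show q * g * x * (q * g)⁻¹ = q * (g * x * g⁻¹) * q⁻¹ by group, h, ← conj_mul, k, cj_eq_iff_comm.2 (F.Qz hq),
    mul_assoc, F.zz, mul_one]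

variable (ht : Commute t z) (tt : t * t = 1)
include ht tt

theorem nu_nu (v : V) : ν t (ν t v) = v := F.nu_sq ht (tt ▸ Q.one_mem) v
theorem adj (u v : V) : β (ν t u + u) v = β u (ν t v + v) := by
  rw [map_add, map_add, AddMonoidHom.add_apply, ← F.nu_beta ht (ν t u), F.nu_nu ht tt]
theorem phiN (v : V) : φ (ν t v + v) = β v (ν t v + v) := by
  rw [F.pol, F.nu_phi ht, z2_add, zero_add, map_add, F.alt, add_zero, F.symm]
theorem fixN (v : V) : ν t (ν t v + v) = ν t v + v := by rw [map_add, F.nu_nu ht tt, add_comm]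
theorem of_perp (h : ∀ v, β w (ν t v + v) = 0) : ν t w = w :=
  eq_of_add F.h2 (F.nd _ fun v => by rw [F.adj ht tt, h])

theorem cjt (hx : x ∈ Q) : ∃ w ∈ Q, x * t * x⁻¹ = t * w ∧ p w = ν t (p x) + p x :=
  ⟨t * x * t⁻¹ * x⁻¹, mul_mem (F.cjm ht hx) (inv_mem hx), by
    rw [inv_eq_of_sq tt]; simp only [← mul_assoc, tt, one_mul], F.nu_comm ht hx⟩

/-- `t` centralises the singular elements of `[Q, t]`. -/
theorem cen_N (hy : y ∈ Q) (e : p y = ν t v + v) (h : φ (p y) = 0) : Commute t y := by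
  obtain ⟨x, hx, rfl⟩ := F.surj v
  obtain ⟨w, hw, e1, e2⟩ := F.cjt ht tt hx
  have c : Commute t w := by
    have : t * w * (t * w) = 1 := by rw [← e1, conj_mul, tt]; simp
    have ww := (F.sq hw).1 (by rw [e2, ← e, h])
    rw [Commute, SemiconjBy, ← inv_eq_of_sq this, mul_inv_rev, inv_eq_of_sq ww, inv_eq_of_sq tt]
  rcases (F.eq_iff hw hy).1 (e2.trans e.symm) with rfl | rfl
  exacts [c, c.mul_right ht]

theorem cj_or (hy : y ∈ Q) (e : p y = ν t v + v) : ∃ x ∈ Q, p x = v ∧ (x * t * x⁻¹ = t * y ∨ x * t * x⁻¹ = t * y * z) := by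
  obtain ⟨x, hx, rfl⟩ := F.surj v
  obtain ⟨w, hw, e1, e2⟩ := F.cjt ht tt hx
  exact ⟨x, hx, rfl, ((F.eq_iff hy hw).1 (e.trans e2.symm)).imp (fun h => by rw [e1, h])
    fun h => by rw [e1, h, mul_assoc]⟩

theorem tz_of (hx : x ∈ Q) (e : ν t (p x) = p x) (n : ¬ Commute t x) : x * t * x⁻¹ = t * z := by
  obtain ⟨w, hw, e1, e2⟩ := F.cjt ht tt hx
  rcases (F.p0 hw).1 (by rw [e2, e, F.h2]) with rfl | rfl
  · exact absurd (cj_eq_iff_comm.1 (by simpa using e1)).symm n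
  · exact e1

end Fm

/-- The common data of a pair. -/
structure PD (D : Set G) (z t : G) (Q P : Subgroup G) : Prop where
  cl : ∀ g, ∀ d ∈ D, g * d * g⁻¹ ∈ D
  zD : z ∈ D
  tD : t ∈ D
  hQ : LE Q z
  hP : LE P t
  c : Commute t z
  wQ : ∀ d ∈ D, d ∈ Q → d = z
  wP : ∀ d ∈ D, d ∈ P → d = t
  ne : t ≠ z

namespace PD
variable {D : Set G} (M : PD D z t Q P)
include M

theorem symm : PD D t z P Q := ⟨M.cl, M.tD, M.zD, M.hP, M.hQ, M.c.symm, M.wP, M.wQ, M.ne.symm⟩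
theorem tQ : t ∉ Q := fun h => M.ne (M.wQ t M.tD h)
theorem tt : t * t = 1 := M.hP.toES.zz
theorem cl' (h : g * x * g⁻¹ ∈ D) : x ∈ D := by simpa [mul_assoc] using M.cl g⁻¹ _ h

theorem k0 (ha : a ∈ Q) (ca : Commute a t) (hb : b ∈ P) (cb : Commute b z) :
    b * a * b⁻¹ * a⁻¹ ∈ Q ∧ b * a * b⁻¹ * a⁻¹ ∈ P :=
  ⟨mul_mem (M.hQ.conj_mem cb ha) (inv_mem ha), by
    simpa [mul_assoc] using mul_mem hb (M.hP.conj_mem ca (inv_mem hb))⟩

theorem k1 (hy : y ∈ Q) (hy' : y ∈ P) (ha : a ∈ Q) (ca : Commute a t) : Commute a y :=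
  cj_eq_iff_comm.1 ((M.hQ.comm a ha y hy).resolve_right fun e => M.symm.tQ (by
    have := M.hP.conj_mem ca hy'
    rwa [e, P.mul_mem_cancel_left hy'] at this))

theorem ksq (hy : y ∈ Q) (hy' : y ∈ P) : y * y = 1 :=
  (M.hQ.sq y hy).resolve_right fun e => M.symm.tQ (e ▸ mul_mem hy' hy')

theorem k2 (hy' : y ∈ P) (h : t * y ∈ D) : y = 1 := by simpa using M.wP _ h (mul_mem M.hP.zQ hy')

/-- the commutator of non-commuting elements of `C_P(z)` is not in `Q`. -/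
theorem k5 (ha : a ∈ P) (hb : b ∈ P) (h : a * b * a⁻¹ * b⁻¹ ∈ Q) : Commute a b := by
  by_contra n
  rw [M.hP.toES.conj_of_not ha hb n, mul_assoc, (M.hP.zc _ (inv_mem hb)).symm.eq, mul_inv_cancel_left] at h
  exact M.tQ h

variable (F : Fm z Q H p φ β ν)
include F

theorem p_ne (hy : y ∈ Q) (hy' : y ∈ P) (h : p y = 0) : y = 1 :=
  ((F.p0 hy).1 h).resolve_right fun e => M.symm.tQ (e ▸ hy')

theorem act_B (ha : a ∈ Q) (ca : Commute a t) (hb : b ∈ P) (cb : Commute b z) :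
    ∃ y ∈ Q, y ∈ P ∧ p y = ν b (p a) + p a :=
  ⟨_, (M.k0 ha ca hb cb).1, (M.k0 ha ca hb cb).2, F.nu_comm cb ha⟩

theorem k4 (hy : y ∈ Q) (hy' : y ∈ P) (n : y ≠ 1) (e : p y = ν t v + v) :
    (∃ x ∈ Q, p x = v ∧ x * t * x⁻¹ = t * y * z) ∧ t * z ∉ D := by
  obtain ⟨x, hx, e1, h⟩ := F.cj_or M.c M.tt hy e
  have h := h.resolve_left fun h => n (M.k2 hy' (h ▸ M.cl x t M.tD))
  refine ⟨⟨x, hx, e1, h⟩, fun k => n (M.k2 hy' ?_)⟩
  have := M.cl x _ k
  rwa [← conj_mul, h, cj_eq_iff_comm.2 (F.Qz hx), mul_assoc, F.zz, mul_one] at this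

theorem k3 (h : t * z ∈ D) (hy : y ∈ Q) (hy' : y ∈ P) (e : p y = ν t v + v) : y = 1 := by
  by_contra n; exact (M.k4 F hy hy' n e).2 h

theorem tzD (hx : x ∈ Q) (e : ν t (p x) = p x) (n : ¬ Commute t x) : t * z ∈ D :=
  F.tz_of M.c M.tt hx e n ▸ M.cl x t M.tD

/-- all of `t[Q,t]` lies in `D` when `t z` does. -/
theorem allD (h : t * z ∈ D) (hy : y ∈ Q) (e : p y = ν t v + v) : t * y ∈ D := by
  obtain ⟨x, hx, -, k | k⟩ := F.cj_or M.c M.tt hy e
  · exact k ▸ M.cl x t M.tD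
  have := M.cl x _ h
  rwa [← conj_mul, k, cj_eq_iff_comm.2 (F.Qz hx), mul_assoc, F.zz, mul_one] at this

/-- lifts of elements centralising `t` modulo `Q`. -/
theorem liftT (n : t * z ∉ D) (hk : ∀ w, ν t w = w → φ w = 0 → ∃ v, w = ν t v + v) (hf : ∀ y ∈ Q, φ (p y) = 1 →
    ν t (p y) = p y → Commute t y) (hg : Commute g z) (e : ∀ v, ν g (ν t v) = ν t (ν g v)) : ∃ q ∈ Q, Commute (q * g) t := by
  have m := F.mem_of M.c hg fun v => (e v).symm
  obtain ⟨w, hw⟩ : ∃ w, w = t * g * t⁻¹ * g⁻¹ := ⟨_, rfl⟩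
  have e1 : g * t * g⁻¹ = t * w := by rw [hw, inv_eq_of_sq M.tt]; simp only [← mul_assoc, M.tt, one_mul]
  rw [← hw] at m
  have s : t * w * (t * w) = 1 := by rw [← e1, conj_mul, M.tt]; simp
  have i : t * w * t⁻¹ = w⁻¹ := by rw [inv_eq_of_sq M.tt, eq_inv_iff_mul_eq_one, ← s]; group
  have f : ν t (p w) = p w := by rw [← F.act M.c m, i, F.inv m]
  obtain ⟨v, hv⟩ := hk _ f (by
    by_contra k
    rw [cj_eq_iff_comm.2 (hf w m (z2_ne k) f), eq_inv_iff_mul_eq_one, ← F.sq m] at i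
    exact k i)
  obtain ⟨x, hx, -, k | k⟩ := F.cj_or M.c M.tt m hv
  · refine ⟨x⁻¹, inv_mem hx, cj_eq_iff_comm.1 ?_⟩
    rw [show x⁻¹ * g * t * (x⁻¹ * g)⁻¹ = x⁻¹ * (g * t * g⁻¹) * x by group, e1, ← k]; group
  refine absurd (M.cl' (g := x) ?_) n
  rw [← conj_mul, k, cj_eq_iff_comm.2 (F.Qz hx), mul_assoc, F.zz, mul_one, ← e1]
  exact M.cl g t M.tD

/-- three elements of `Q ∩ P` over `[V, t]`. -/
theorem k6 {y' : G} (hy : y ∈ Q) (hy' : y ∈ P) (hy2 : y' ∈ Q) (hy2' : y' ∈ P) (n : y ≠ 1) (n' : y' ≠ 1) (n2 : p y ≠ p y')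
    (e : p y = ν t u + u) (e' : p y' = ν t v + v) : β (p y) v = 1 := by
  obtain ⟨x, hx, rfl, h⟩ := (M.k4 F hy hy' n e).1
  obtain ⟨x', hx', rfl, h'⟩ := (M.k4 F hy2 hy2' n' e').1
  by_contra k
  have c := (F.comm hy hx').1 ((z2_cases _).resolve_right k)
  have := M.cl x' _ (M.cl x t M.tD)
  rw [h, ← conj_mul, ← conj_mul, h', cj_eq_iff_comm.2 (F.Qz hx'), cj_eq_iff_comm.2 c.symm, mul_assoc (t * y'),
    ← (F.Qz hy).eq, mul_assoc, mul_assoc y, F.zz, mul_one, mul_assoc] at this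
  have := M.k2 (mul_mem hy2' hy') this
  exact n2 (by rw [eq_inv_of_mul_eq_one_right this, F.inv hy2])

end PD

end Cfsg.Agent.U6R
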