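import Cfsg.Agent.U6R.Nat

/-! Pairs of commuting conjugates in natural frames (helper24): a conjugate `t` of `z` in the linear part of `C(z)` acts
as a transvection and centralises the preimage of its axis (`PD.loc`). -/

set_option autoImplicit false
set_option linter.unusedSectionVars false

namespace Cfsg.Agent.U6R

open Cfsg.Agent.Fischer Cfsg.Agent.FI Cfsg.Agent.Classical Subgroup Cfsg.Agent.BG Cfsg.Agent.LES Cfsg.Agent.PGrp Module

variable {F : Type*} [Field F] [Fintype F] [hF : Fact (Fintype.card F = 2 ^ 2)]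
variable {G : Type*} [Group G] [Finite G] {z t s x y a b g : G} {Q H P K : Subgroup G} {p p' : G → Fin 4 → F}
  {φ : (Fin 4 → F) → ZMod 2} {β : (Fin 4 → F) →+ (Fin 4 → F) →+ ZMod 2} {ν ν' : G → (Fin 4 → F) →+ (Fin 4 → F)}
  {u v w n : Fin 4 → F} {c : F} {D : Set G}

theorem f4_01 (h : c ^ 2 = c) : c = 0 ∨ c = 1 :=
  or_iff_not_imp_left.2 (eq_one_of_trace (by rw [h, f4_add_self]))

theorem two_ne {a b : F} (h : a = 0 ∨ a = 1) (h' : b = 0 ∨ b = 1) (e : a = 0 ↔ b = 0) : a + b = 0 := by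
  rcases h with rfl | rfl <;> rcases h' with rfl | rfl <;> simp_all [f4_add_self]

namespace PD
variable (M : PD D z t Q P) (N : NF z Q H p φ β ν)
include M N

theorem cmt (hb : b ∈ P) (cb : Commute b z) (v : Fin 4 → F) : ν b (ν t v) = ν t (ν b v) := by
  rw [← N.nu_mul cb M.c, (M.hP.zc b hb).eq, N.nu_mul M.c cb]

theorem abB (U : (Fin 4 → F) → Prop) (hU : ∀ w, (∀ u, U u → β w u = 0) → U w)
    (h : ∀ b ∈ P, Commute b z → ∀ u, U u → ν b u = u) (ha : a ∈ P) (hb : b ∈ P) (ca : Commute a z) (cb : Commute b z) :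
    Commute a b := M.k5 ha hb (N.co U hU ca cb (h a ha ca) (h b hb cb))

section tb
variable (ht : t ∈ H) (hk : ∀ w, ν t w = w → ∃ v, w = ν t v + v) (h2 : ∀ y, ∃ x, ∀ c : F, ν t x + x ≠ c • y)
include ht hk h2

theorem tbY (hy : y ∈ Q) (hy' : y ∈ P) : y = 1 := by
  by_contra n
  have tt := M.tt
  have fy := N.nu_fix M.c hy (M.hP.zc y hy').symm
  obtain ⟨x, e⟩ := hk _ fy
  have y0 : p y ≠ 0 := mt (M.p_ne N.toFm hy hy') n
  have ad := N.adjT ht tt
  have NN := N.hNN ht tt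
  have L : ∀ (a : F) u v, ν t (u + a • v) + (u + a • v) = (ν t u + u) + a • (ν t v + v) := fun a u v => by
    rw [map_add, N.lin ht, smul_add]; abel
  have f2 : ∀ u, hn (ν t u + u) u = 0 ∨ hn (ν t u + u) u = 1 := fun u => f4_01 (by rw [hC, ad])
  have fc : ∀ u v, hn (ν t u + u) v = hn (ν t v + v) u ^ 2 := fun u v => by rw [hC, ad]
  obtain ⟨e0, e1, e2⟩ : ∃ e, hn (ν t e + e) e = 0 ∧ ν t e + e ≠ 0 := by
    rcases f2 x with k | k
    · exact ⟨x, k, e ▸ y0⟩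
    obtain ⟨x2, k2⟩ := h2 (p y)
    obtain ⟨x3, k3, k4⟩ : ∃ x3, hn (ν t x3 + x3) x = 0 ∧ ∀ c : F, ν t x3 + x3 ≠ c • p y :=
      ⟨x2 + hn (ν t x2 + x2) x • x, by rw [L, hAl, hSl, k, mul_one, f4_add_self], fun c h => k2 (c + hn (ν t x2 + x2) x) (by
        rw [add_smul, ← h, L, e, add_assoc, N.h2, add_zero])⟩
    rcases f2 x3 with k' | k'
    · exact ⟨x3, k', by simpa using k4 0⟩
    refine ⟨x3 + (1 : F) • x, ?_, fun h => k4 1 (by rw [L] at h; rw [e]; exact eq_of_add N.h2 h)⟩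
    rw [L, one_smul, one_smul, hAl, hAr, hAr, k3, k, k', fc x, k3]; simp [f4_add_self]
  obtain ⟨w0, w1, w2⟩ : ∃ w, hn (ν t w + w) w = 0 ∧ hn (p y) w ≠ 0 := by
    by_cases k : hn (p y) e0 = 0
    swap; · exact ⟨e0, e1, k⟩
    obtain ⟨x3, k1, k2⟩ : ∃ x3, hn (p y) x3 ≠ 0 ∧ hn (ν t e0 + e0) x3 ≠ 0 := by
      obtain ⟨a, ha⟩ := not_forall.1 (mt (eq_zero_of_herm_eq_zero (q := 2)) y0)
      obtain ⟨b, hb⟩ := not_forall.1 (mt (eq_zero_of_herm_eq_zero (q := 2)) e2)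
      by_cases k1 : hn (ν t e0 + e0) a = 0
      · by_cases k2 : hn (p y) b = 0
        · exact ⟨a + b, by rwa [hAr, k2, add_zero], by rwa [hAr, k1, zero_add]⟩
        · exact ⟨b, k2, hb⟩
      · exact ⟨a, ha, k1⟩
    rcases f2 x3 with k' | k'
    · exact ⟨x3, k', k1⟩
    refine ⟨x3 + (om F / hn (ν t e0 + e0) x3) • e0, ?_, by rwa [hAr, hSr, k, mul_zero, add_zero]⟩
    rw [L, hAl, hAr, hAr, hSl, hSl, hSr, hSr, e1, k', fc x3 e0, ← mul_pow, div_mul_cancel₀ _ k2]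
    linear_combination om_tr (F := F) + f4_two (F := F)
  have yy : hn (p y) (p y) = 0 := e ▸ NN x x
  obtain ⟨a, ha⟩ := exists_iso_add yy (y := w0) (hnC w2)
  obtain ⟨w, hw⟩ : ∃ w, w = w0 + a • p y := ⟨_, rfl⟩
  have Nw : ν t w + w = ν t w0 + w0 := by rw [hw, L, fy, N.h2, smul_zero, add_zero]
  have w1' : hn (ν t w + w) w = 0 := by rw [Nw, hw, hAr, hSr, w1, e, NN]; simp
  have w2' : hn (p y) w ≠ 0 := by rwa [hw, hAr, hSr, yy, mul_zero, add_zero]
  have iw : Ison w := ⟨fun h => w2' (by simp [h]), hw ▸ ha⟩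
  have it : Ison (ν t w) := ⟨fun h => iw.1 (by rw [← N.nu_nu M.c tt w, h, map_zero]), (N.hn_lin ht w w).trans iw.2⟩
  rw [hAl, iw.2, add_zero] at w1'
  obtain ⟨g1, a1, b1⟩ := N.tv w iw
  obtain ⟨g2, a2, b2⟩ := N.tv _ it
  have eg : ∀ v, ν (g1 * g2) v = v + hn v (ν t w) • ν t w + hn v w • w := fun v => by
    rw [N.nu_mul (N.Hz a1) (N.Hz a2), b1, b2, tvn, tvn, hAl, hSl, w1', mul_zero, add_zero]
  obtain ⟨q, hq, cq⟩ := M.liftT N.toFm (M.k4 N.toFm hy hy' n e).2 (fun w h _ => hk w h) (fun y hy h1 h => by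
      obtain ⟨v, hv⟩ := hk _ h
      rw [N.f0.2 (hv ▸ NN v v)] at h1; cases h1) (N.Hz (mul_mem a1 a2)) fun v => by
    rw [eg, eg, map_add, map_add, N.lin ht, N.lin ht, N.hn_lin ht, ← N.hn_lin ht (ν t v) w, N.nu_nu M.c tt,
      N.nu_nu M.c tt, add_right_comm]
  have cz := (N.Qz hq).mul_left (N.Hz (mul_mem a1 a2))
  have e' : p (q * (g1 * g2) * y * (q * (g1 * g2))⁻¹) = p y + hn (p y) w • (ν t w + w) := by
    rw [N.act cz hy, N.nu_mul (N.Qz hq) (N.Hz (mul_mem a1 a2)), N.nu_Q hq, eg, smul_add, add_assoc]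
    nth_rw 2 [← fy]; rw [N.hn_lin ht]
  have := N.b1 (M.k6 N.toFm hy hy' (N.cjm cz hy) (M.hP.conj_mem cq hy') n (mt conj_eq_one_iff.1 n)
    (by
      rw [e', Ne, left_eq_add, smul_eq_zero, not_or]
      exact ⟨w2', fun h => w2' (by rw [e, ad, h]; simp)⟩) e (v := x + hn (p y) w • w) (by rw [e', L, ← e]))
  rw [hAr, hSr, mul_comm, f4_cube w2', e] at this
  rcases f2 x with k | k <;> simp [k, f4_add_self] at this

theorem tbB (hb : b ∈ P) (cb : Commute b z) (h : ν t w = w) : ν b w = w := by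
  obtain ⟨v, hv⟩ := hk w h
  obtain ⟨x, hx, rfl⟩ := N.surj w
  obtain ⟨y, h1, h2', e⟩ := M.act_B N.toFm hx (N.cen_N M.c M.tt hx hv (N.f0.2 (hv ▸ N.hNN ht M.tt v v))).symm hb cb
  rw [M.tbY N ht hk h2 h1 h2', N.p1] at e
  exact eq_of_add N.h2 e.symm

theorem tbA (ha : a ∈ P) (hb : b ∈ P) (ca : Commute a z) (cb : Commute b z) : Commute a b :=
  M.abB N (fun w => ν t w = w) (fun _ h => N.of_perp M.c M.tt fun v => h _ (N.fixN M.c M.tt v))
    (fun _ hb cb _ => M.tbB N ht hk h2 hb cb) ha hb ca cb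

theorem tb16 {x1 x2 : Fin 4 → F} (h3 : ∀ x, ∃ (a b : F) (l : Fin 4 → F), ν t l = l ∧ x = a • x1 + b • x2 + l) :
    #(P ⊓ C1[z] : Subgroup G) ≤ 16 := by
  classical
  have fx := fun (b : (P ⊓ C1[z] : Subgroup G)) w => M.tbB N ht hk h2 b.2.1 (mem_cent1.1 b.2.2) (w := w)
  have bH : ∀ b : (P ⊓ C1[z] : Subgroup G), b.1 ∈ H := fun b => by
    obtain ⟨x, k⟩ := h2 0
    exact N.mem_H (mem_cent1.1 b.2.2) (by simpa using k 0) (fx b _ (N.fixN M.c M.tt x))
      (fx b _ (by rw [N.lin ht, N.fixN M.c M.tt]))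
  have ad : ∀ b : (P ⊓ C1[z] : Subgroup G), ∀ u v, hn (ν b u + u) v = hn u (ν b v + v) := fun b =>
    N.adjH (bH b) fun v => by
      have := fx b (ν b v + v) (N.of_perp M.c M.tt fun u => by
        rw [β.map_add, AddMonoidHom.add_apply]; nth_rw 1 [← fx b _ (N.fixN M.c M.tt u)]
        rw [N.nu_beta (mem_cent1.1 b.2.2), z2_add])
      rwa [map_add, add_comm (ν b v), add_left_inj] at this
  have := Nat.card_le_card_of_injective (fun (b : (P ⊓ C1[z] : Subgroup G)) (i : Fin 4) =>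
    let x := ![x1, x2, x1 + x2, x1 + om F • x2] i; decide (hn (ν b x + x) x = 0)) fun b b' e => by
      have aT : ∀ u v, hn (ν b u + ν b' u) v = hn u (ν b v + ν b' v) := fun u v => by
        have k1 := ad b u v
        have k2 := ad b' u v
        simp only [hAl, hAr] at k1 k2 ⊢
        linear_combination k1 + k2
      have k : ∀ i : Fin 4, let x := ![x1, x2, x1 + x2, x1 + om F • x2] i; hn (ν b x + ν b' x) x = 0 := fun i => by
        intro x
        have := two_ne (f4_01 (by rw [hC, ad])) (f4_01 (by rw [hC, ad])) (decide_eq_decide.1 (congrFun e i))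
        simp only [hAl] at this ⊢
        linear_combination this - hn x x * f4_two (F := F)
      have T : ∀ (c : F) u v, ν b (u + c • v) + ν b' (u + c • v) = (ν b u + ν b' u) + c • (ν b v + ν b' v) := fun c u v => by
        rw [map_add, map_add, N.lin (bH b), N.lin (bH b'), smul_add]; abel
      have k0 : hn (ν b x1 + ν b' x1) x1 = 0 := k 0
      have k1 : hn (ν b x2 + ν b' x2) x2 = 0 := k 1
      have k2 : hn (ν b (x1 + x2) + ν b' (x1 + x2)) (x1 + x2) = 0 := k 2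
      have k3 : hn (ν b (x1 + om F • x2) + ν b' (x1 + om F • x2)) (x1 + om F • x2) = 0 := k 3
      have c : hn (ν b x1 + ν b' x1) x2 = hn (ν b x2 + ν b' x2) x1 ^ 2 := by rw [hC, aT]
      rw [← one_smul F x2, T, one_smul, one_smul, hAl, hAr, hAr, k0, k1, c] at k2
      rw [T, hAl, hAr, hAr, hSl, hSl, hSr, hSr, k0, k1, c] at k3
      have k4 := tr_zero (t := hn (ν b x2 + ν b' x2) x1) (by linear_combination k2) (by linear_combination k3)
      rw [k4, zero_pow two_ne_zero] at c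
      have z0 : ∀ {u}, hn (ν b u + ν b' u) x1 = 0 → hn (ν b u + ν b' u) x2 = 0 → ν b u + ν b' u = 0 := fun {u} a1 a2 =>
        eq_zero_of_herm_eq_zero (q := 2) fun x => by
          obtain ⟨a, a', l, hl, rfl⟩ := h3 x
          show hn _ _ = 0
          rw [hAr, hAr, hSr, hSr, a1, a2, aT, fx b l hl, fx b' l hl, N.h2]; simp
      have cb : Commute b.1 z := mem_cent1.1 b.2.2
      have cb' : Commute b'.1 z := mem_cent1.1 b'.2.2
      refine Subtype.ext (inv_mul_eq_one.1 (M.tbY N ht hk h2 (N.ker (cb.inv_left.mul_left cb') fun x => ?_)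
        (mul_mem (inv_mem b.2.1) b'.2.1)))
      obtain ⟨a, a', l, hl, e⟩ := h3 x
      rw [N.nu_mul cb.inv_left cb', ← eq_of_add N.h2 (show ν b x + ν b' x = 0 from ?_), N.nu_inv cb]
      rw [e, add_comm _ l, add_comm (a • x1), ← add_assoc, T, T, z0 k0 c, z0 k4 k1, fx b l hl, fx b' l hl, N.h2]; simp
  simpa using this

end tb

theorem tau (ht : t ∈ H) (i : Ison n) (e : ∀ v, ν t v = tvn n v)
    (nab : ∃ a ∈ P, ∃ b ∈ P, Commute a z ∧ Commute b z ∧ ¬ Commute a b) : t * z ∉ D := fun k => by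
  obtain ⟨a, ha, b, hb, ca, cb, nab⟩ := nab
  have tt := M.tt
  have eN : ∀ v, ν t v + v = hn v n • n := fun v => by rw [e, tvn, add_right_comm, N.h2, zero_add]
  obtain ⟨u, -, un⟩ := exists_iso_partner i.1 i.2
  have exN : ∀ c : F, c • n = ν t (c • u) + c • u := fun c => by rw [eN, hSl, show hn u n = 1 from un, mul_one]
  have Y0 : ∀ y ∈ Q, y ∈ P → ∀ c : F, p y = c • n → y = 1 := fun y h1 h2 c h => M.k3 N.toFm k h1 h2 (h.trans (exN c))
  have fn : ∀ b ∈ P, Commute b z → ∀ c : F, ν b (c • n) = c • n := fun b hb cb c => by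
    obtain ⟨x, hx, ex⟩ := N.surj (c • n)
    obtain ⟨y, h1, h2, h3⟩ := M.act_B N.toFm hx (N.cen_N M.c tt hx (ex.trans (exN c))
      (N.f0.2 (by simp [ex, i.2]))).symm hb cb
    rw [ex] at h3
    rw [M.k3 N.toFm k h1 h2 (v := ν b (c • u) + c • u) (by
      rw [h3, exN, map_add, map_add, M.cmt N hb cb]; abel), N.p1] at h3
    exact eq_of_add N.h2 h3.symm
  have bH : ∀ b ∈ P, Commute b z → b ∈ H := fun b hb cb => N.mem_H cb i.1 (by simpa using fn b hb cb 1) (fn b hb cb _)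
  let A : (Fin 4 → F) → Prop := fun x => ∃ a ∈ Q, Commute a t ∧ p a = x
  have two : ∀ x x', hn x n = 0 → hn x' n = 0 → ¬ A x → ¬ A x' → A (x + x') := fun x x' h1 h2 h3 h4 => by
    obtain ⟨x, hx, rfl⟩ := N.surj x
    obtain ⟨x', hx', rfl⟩ := N.surj x'
    refine ⟨_, mul_mem hx hx', cj_eq_iff_comm.1 ?_, N.add hx hx'⟩
    rw [show x * x' * t * (x * x')⁻¹ = x * (x' * t * x'⁻¹) * x⁻¹ by group,
      N.tz_of M.c tt hx' (by rw [e, tvn_of_orth h2]) fun c => h4 ⟨_, hx', c.symm, rfl⟩, ← conj_mul,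
      N.tz_of M.c tt hx (by rw [e, tvn_of_orth h1]) fun c => h3 ⟨_, hx, c.symm, rfl⟩, cj_eq_iff_comm.2 (N.Qz hx),
      mul_assoc, N.zz, mul_one]
  have AY : ∀ {x}, A x → ∀ b ∈ P, Commute b z → ∃ y ∈ Q, y ∈ P ∧ p y = ν b x + x := by
    rintro _ ⟨x, h1, h2, rfl⟩ b hb cb; exact M.act_B N.toFm h1 h2 hb cb
  have YA : ∀ {x}, A x → ∀ y ∈ Q, y ∈ P → β (p y) x = 0 := by
    rintro _ ⟨x, h1, h2, rfl⟩ y hy hy'; exact (N.comm hy h1).2 (M.k1 hy hy' h1 h2).symm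
  by_cases hY : ∀ y ∈ Q, y ∈ P → y = 1
  · refine nab (M.abB N (hn · n = 0) (fun w h => by obtain ⟨c, rfl⟩ := N.in_line h; simp [i.2]) (fun b hb cb x hx => ?_)
      ha hb ca cb)
    have f : ∀ c : F, c ≠ 0 → A (c • x) → ν b x = x := fun c hc h => by
      obtain ⟨y, h1, h2, h3⟩ := AY h b hb cb
      rw [hY y h1 h2, N.p1, N.lin (bH b hb cb), ← smul_add, eq_comm, smul_eq_zero] at h3
      exact eq_of_add N.h2 (h3.resolve_left hc)
    by_contra k
    exact k (f _ om_add_one_ne_zero (add_smul (om F) 1 x ▸ two _ _ (by simp [hx]) (by simp [hx])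
      (mt (f _ om_ne_zero) k) (mt (f _ one_ne_zero) k)))
  have inA : ∀ y ∈ Q, y ∈ P → y ≠ 1 → ∀ x, hn x n = 0 → β (p y) x = 0 → A x := fun y h1 h2 h3 x h4 h5 => by
    obtain ⟨x0, k1, k2⟩ : ∃ x0, hn x0 n = 0 ∧ β (p y) x0 ≠ 0 := by
      by_contra k; push Not at k
      obtain ⟨c, hc⟩ := N.in_line k
      exact h3 (Y0 y h1 h2 c hc)
    by_contra k
    have := YA (two _ _ h4 k1 k fun h => k2 (YA h y h1 h2)) y h1 h2
    rw [map_add, h5, zero_add] at this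
    exact k2 this
  push Not at hY
  obtain ⟨y, h1, h2, h3⟩ := hY
  have uq : ∀ y' ∈ Q, y' ∈ P → p y' = 0 ∨ p y' = p y := fun y' k1 k2 => by
    by_cases k3 : y' = 1
    · exact .inl (k3 ▸ N.p1)
    obtain ⟨c, hc⟩ := N.in_line (w := p y' + p y) fun x hx => by
      rw [map_add, AddMonoidHom.add_apply]
      by_cases k : A x
      · rw [YA k y h1 h2, YA k y' k1 k2, add_zero]
      · rw [z2_ne (mt (inA y h1 h2 h3 x hx) k), z2_ne (mt (inA y' k1 k2 k3 x hx) k), z2_add]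
    rw [← N.add k1 h1] at hc
    refine .inr (eq_of_add N.h2 ?_)
    rw [← N.add k1 h1, Y0 _ (mul_mem k1 h1) (mul_mem k2 h2) c hc, N.p1]
  have y0 : p y ≠ 0 := mt (M.p_ne N.toFm h1 h2) h3
  have yy : hn (p y) (p y) = 0 := N.f0.1 ((N.sq h1).2 (M.ksq h1 h2))
  have yn : hn (p y) n = 0 := by
    have := eN (p y)
    rw [N.nu_fix M.c h1 (M.hP.zc y h2).symm, N.h2, eq_comm, smul_eq_zero] at this
    exact this.resolve_right i.1
  refine nab (M.abB N (fun x => hn x n = 0 ∧ hn x (p y) = 0) (fun w h => ?_) (fun b hb cb x hx => ?_) ha hb ca cb)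
  · have f : ∀ v, hn v n = 0 → hn v (p y) = 0 → hn w v = 0 := fun v k1 k2 => hn_comm.1 (N.h_of
      (N.symm _ _ ▸ h v ⟨k1, k2⟩) (N.symm _ _ ▸ h _ (by simp [k1, k2])))
    exact ⟨f n i.2 (hn_comm.1 yn), f _ yn yy⟩
  obtain ⟨y1, k1, k2, k3⟩ := AY (inA y h1 h2 h3 x hx.1 (N.b_of (hn_comm.1 hx.2))) b hb cb
  obtain ⟨y2, k4, k5, k6⟩ := AY (inA y h1 h2 h3 (om F • x) (by simp [hx.1]) (N.b_of (by simp [hn_comm.1 hx.2]))) b hb cb
  refine eq_of_add N.h2 (k3 ▸ (uq y1 k1 k2).resolve_right fun k7 => ?_)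
  rw [N.lin (bH b hb cb), ← smul_add, ← k3, k7] at k6
  rcases uq y2 k4 k5 with k8 | k8 <;> rw [k8] at k6
  · exact y0 ((smul_eq_zero.1 k6.symm).resolve_left om_ne_zero)
  · exact om_ne_one (smul_left_injective F y0 (k6.symm.trans (one_smul F _).symm))

omit M in
theorem nabT (ht : t ∈ H) (tt : t * t = 1) (e : ∀ v, ν t v = tvn n v) :
    ∃ a ∈ Q, ∃ b ∈ Q, Commute a t ∧ Commute b t ∧ ¬ Commute a b :=
  N.nab64 (N.Hz ht) tt (N.card64 (N.Hz ht) tt (X := F) (by simp [hF.out]) (· • n) fun v =>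
    ⟨hn v n, by rw [e, tvn, add_right_comm, N.h2, zero_add]⟩)

variable (N' : NF t P K p' φ β ν') (ht : t ∈ H) (hz : z ∈ K)
include N' ht hz

theorem kindT : ∃ n, Ison n ∧ ∀ v, ν t v = tvn n v := by
  refine (N.kind ht M.tt M.tQ).resolve_right fun ⟨hk, h2, x1, x2, h3⟩ => ?_
  rcases N'.kind hz N.zz M.symm.tQ with ⟨n, -, e⟩ | ⟨hk', -⟩
  · obtain ⟨a, ha, b, hb, ca, cb, n⟩ := nabT N' hz N.zz e
    exact n (M.tbA N ht hk h2 ha hb ca cb)
  have a := (N'.cardA M.c.symm N.zz).2 fun x hx e => let ⟨v, hv⟩ := hk' _ e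
    N'.cen_N M.c.symm N.zz hx hv (N'.f0.2 (hv ▸ N'.hNN hz N.zz v v))
  have b := N'.ker16 M.c.symm N.zz
  have := M.tb16 N ht hk h2 h3
  omega

theorem loc : t * z ∉ D ∧ ∃ n, Ison n ∧ (∀ v, ν t v = tvn n v) ∧ ∀ x ∈ Q, hn (p x) n = 0 → Commute t x := by
  obtain ⟨n, i, e⟩ := M.kindT N N' ht hz
  obtain ⟨n', -, e'⟩ := M.symm.kindT N' N hz ht
  have := M.tau N ht i e (nabT N' hz N.zz e')
  exact ⟨this, n, i, e, fun x hx h => by_contra fun k => this (M.tzD N.toFm hx (by rw [e, tvn_of_orth h]) k)⟩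

end PD

end Cfsg.Agent.U6R
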