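import Cfsg.Agent.FI.OutM
import Cfsg.Agent.FI.UnitA
import Cfsg.Agent.Classical.SUSimple

/-! Faithful orthogonal modules of order 256 over `F₂` for `SU₄(2)` (helper24): the elements `rho` of order three,
`card_fix`, and the dichotomy `dich` (a commuting isometry of order three without fixed points, or a fixed
hyperbolic pair). -/

set_option autoImplicit false
set_option linter.unusedSectionVars false

namespace Cfsg.Agent.U6R

open Cfsg.Agent.Fischer Cfsg.Agent.FI Cfsg.Agent.Classical Subgroup Matrix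

section abstract
variable {X V : Type*} [Group X] [AddCommGroup V] [DistribMulAction X V] {r s g a b : X} {u u' v : V}

/-- The projection onto the fixed points of an element of order three. -/
def pr (r : X) (v : V) : V := v + r • v + r • r • v

theorem pr_add (r : X) (u v : V) : pr r (u + v) = pr r u + pr r v := by simp only [pr, smul_add]; abel

theorem comm_smul (h : Commute g r) (v : V) : g • r • v = r • g • v := by rw [← mul_smul, h.eq, mul_smul]

theorem pr_comm (h : Commute g r) (v : V) : pr r (g • v) = g • pr r v := by simp only [pr, smul_add, comm_smul h]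

theorem cube_smul (h : r * r * r = 1) (v : V) : r • r • r • v = v := by rw [← mul_smul, ← mul_smul, h, one_smul]

theorem pr_fix (h : r * r * r = 1) (v : V) : r • pr r v = pr r v := by simp only [pr, smul_add, cube_smul h]; abel

/-- fixed points. -/
def Fx (V : Type*) [AddCommGroup V] [DistribMulAction X V] (r : X) : AddSubgroup V where
  carrier := {v | r • v = v}
  add_mem' {x y} hx hy := by rw [Set.mem_ofPred_eq, smul_add, hx, hy]
  zero_mem' := smul_zero _
  neg_mem' {x} hx := by rw [Set.mem_ofPred_eq, smul_neg, hx]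

variable (h2 : ∀ v : V, v + v = 0)
include h2

theorem c2' (u v : V) : u + (u + v) = v := by rw [← add_assoc, h2, zero_add]

theorem eq_of_add (h : u + v = 0) : u = v := by rw [← c2' h2 u v, h, add_zero]

theorem pr_of (h : r • v = v) : pr r v = v := by rw [pr, h, h, h2, zero_add]

theorem card_fix [Finite V] (hV : Nat.card V = 256) (hr : r * r * r = 1) (ha : a * a * a = 1) (c1 : Commute a r)
    (c2 : Commute b r) (e : b * a = a * r * b) (n : ∃ v : V, r • v ≠ v) : Nat.card (Fx V r) = 4 := by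
  have k := c2' h2
  have ar := fun v : V => (comm_smul c1 v).symm
  let M : X → Type _ := fun t => {v : V // pr r v = 0 ∧ a • v = t • v}
  have f : ∀ t t', Commute b t → t = r * t' → Nat.card (M t) ≤ Nat.card (M t') := fun t t' ht e' =>
    Nat.card_le_card_of_injective (fun v : M t => (⟨b • v.1, by rw [pr_comm c2, v.2.1, smul_zero],
      MulAction.injective r (by
        beta_reduce; rw [ar, ← mul_smul r t', ← e', ← comm_smul ht, ← v.2.2, ← mul_smul, ← mul_smul, ← e, mul_smul])⟩ : M t'))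
      fun x y h => Subtype.ext (MulAction.injective b (congrArg Subtype.val h))
  have f0 := f 1 (r * r) (.one_right _) (by rw [← mul_assoc, hr])
  have f1 := f (r * r) r (c2.mul_right c2) rfl
  have f2 := f r 1 c2 (mul_one r).symm
  have inj : ∀ x0 x1 x2 x3 : V, r • x0 = x0 → pr r x1 = 0 → a • x1 = x1 → pr r x2 = 0 → a • x2 = r • x2 → pr r x3 = 0 →
      a • x3 = r • r • x3 → x0 + (x1 + (x2 + x3)) = 0 → x0 = 0 ∧ x1 = 0 ∧ x2 = 0 ∧ x3 = 0 := by
    intro x0 x1 x2 x3 a0 a1 b1 a2 b2 a3 b3 h
    have E0 : x0 = 0 := by simpa [pr_add, a1, a2, a3, pr_of h2 a0, pr_of h2 (smul_zero r)] using congrArg (pr r) h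
    rw [E0, zero_add] at h
    have h' := congrArg (a • ·) h
    simp only [smul_add, smul_zero, b1, b2, b3] at h'
    have h'' := congrArg (a • ·) h'
    simp only [smul_add, smul_zero, b1, b2, b3, ← ar, cube_smul hr] at h''
    have E1 : x1 = 0 := by
      have : x1 + (x1 + x1) + pr r x2 + pr r x3 = x1 + (x2 + x3) + (x1 + (r • x2 + r • r • x3)) +
        (x1 + (r • r • x2 + r • x3)) := by simp only [pr]; abel
      rwa [h, h', h'', a2, a3, k, add_zero, add_zero, add_zero, add_zero] at this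
    rw [E1, zero_add] at h h'
    obtain rfl := eq_of_add h2 h
    have := (pr_of h2 (MulAction.injective r (eq_of_add h2 h')).symm).symm.trans a2
    exact ⟨E0, E1, this, this⟩
  have bij : Function.Bijective fun x : Fx V r × M 1 × M r × M (r * r) =>
      x.1.1 + (x.2.1.1 + (x.2.2.1.1 + x.2.2.2.1)) := by
    constructor
    · rintro ⟨⟨x0, a0⟩, ⟨x1, a1, b1⟩, ⟨x2, a2, b2⟩, x3, a3, b3⟩ ⟨⟨y0, a0'⟩, ⟨y1, a1', b1'⟩, ⟨y2, a2', b2'⟩, y3, a3', b3'⟩ h
      obtain ⟨e0, e1, e2, e3⟩ := inj (x0 + y0) (x1 + y1) (x2 + y2) (x3 + y3) (add_mem a0 a0' : _ ∈ Fx V r)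
        (by rw [pr_add, a1, a1', add_zero]) (by rw [smul_add, b1, b1', one_smul, one_smul])
        (by rw [pr_add, a2, a2', add_zero]) (by rw [smul_add, b2, b2', smul_add]) (by rw [pr_add, a3, a3', add_zero])
        (by rw [smul_add, b3, b3', smul_add, smul_add, mul_smul, mul_smul])
        (by rw [← h2 (y0 + (y1 + (y2 + y3)))]; nth_rw 2 [← show x0 + (x1 + (x2 + x3)) = y0 + (y1 + (y2 + y3)) from h]; abel)
      obtain rfl := eq_of_add h2 e0
      obtain rfl := eq_of_add h2 e1
      obtain rfl := eq_of_add h2 e2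
      obtain rfl := eq_of_add h2 e3
      rfl
    · intro v
      obtain ⟨w, hw'⟩ : ∃ w, w = v + pr r v := ⟨_, rfl⟩
      have hw : w + r • w + r • r • w = 0 := by rw [← pr, hw', pr_add, pr_of h2 (pr_fix hr v), h2]
      have h1 := congrArg (a • ·) hw
      have h3 := congrArg (a • a • ·) hw
      simp only [smul_add, smul_zero] at h1 h3
      have m : ∀ x y z : V, pr r x = 0 → pr r y = 0 → pr r z = 0 → pr r (x + y + z) = 0 := fun x y z a b c => by
        rw [pr_add, pr_add, a, b, c, add_zero, add_zero]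
      have p : ∀ g, Commute g r → pr r (g • w) = 0 := fun g hg => by rw [pr_comm hg, pr, hw, smul_zero]
      have q : ∀ g, Commute g r → pr r (a • g • w) = 0 := fun g hg => by rw [pr_comm c1, p g hg, smul_zero]
      have q' : ∀ g, Commute g r → pr r (a • a • g • w) = 0 := fun g hg => by rw [pr_comm c1, q g hg, smul_zero]
      refine ⟨⟨⟨_, pr_fix hr v⟩, ⟨w + a • 1 • w + a • a • 1 • w, m _ _ _ hw (q 1 (by simp)) (q' 1 (by simp)), ?_⟩,
        ⟨w + a • (r * r) • w + a • a • r • w, m _ _ _ hw (q _ (by simp)) (q' _ (by simp)), ?_⟩,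
        w + a • r • w + a • a • (r * r) • w, m _ _ _ hw (q _ (by simp)) (q' _ (by simp)), ?_⟩, ?_⟩
      · simp only [smul_add, one_smul, cube_smul ha]; abel
      · simp only [smul_add, mul_smul, cube_smul ha, ar, cube_smul hr]; abel
      · simp only [smul_add, mul_smul, cube_smul ha, ar, cube_smul hr]; abel
      simp only [one_smul, mul_smul]
      rw [show ∀ p w x y x' y' x'' y'' : V, p + (w + x + y + (w + x' + y' + (w + x'' + y''))) =
        p + w + (w + w) + (x + x'' + x') + (y + y' + y'') from fun _ _ _ _ _ _ _ _ => by abel, h1, h3, h2]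
      simp only [add_zero, hw', add_comm v, k, ← add_assoc, h2, zero_add]
  have cd := Nat.card_congr (Equiv.ofBijective _ bij)
  simp only [Nat.card_prod, hV] at cd
  rw [le_antisymm f2 (f0.trans f1), le_antisymm (f1.trans f2) f0] at cd
  have n1 : Nat.card (M 1) ≠ 1 := fun E => by
    obtain ⟨v, hv⟩ := n
    rw [E, mul_one, mul_one, mul_one, ← hV, AddSubgroup.card_eq_iff_eq_top] at cd
    exact hv (cd.ge (AddSubgroup.mem_top v))
  have n2 : Nat.card (M 1) ≠ 2 := fun E => by
    obtain ⟨⟨v, v1, v2⟩, hv, un⟩ := (Nat.card_eq_two_iff' (⟨0, by simp [pr]⟩ : M 1)).1 E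
    have := un ⟨r • v, by rw [pr_comm (.refl r), v1, smul_zero], by
      rw [one_smul] at v2 ⊢; rw [← ar, v2]⟩ fun h => hv (Subtype.ext ((smul_eq_zero_iff_eq r).1 (congrArg Subtype.val h)))
    exact hv (Subtype.ext ((pr_of h2 (congrArg Subtype.val this)).symm.trans v1))
  generalize Nat.card (M 1) = m at *
  generalize Nat.card (Fx V r) = c at *
  have : m ≤ 6 := by
    by_contra q
    rcases c with _ | c
    · simp at cd
    · nlinarith [Nat.mul_le_mul (not_le.1 q) (Nat.mul_le_mul (not_le.1 q) (not_le.1 q))]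
  interval_cases m <;> omega

variable [Finite V] (h4 : Nat.card (Fx V r) = 4)
include h4

theorem four (hu : r • u = u) (hu' : r • u' = u') (n1 : u ≠ 0) (n2 : u' ≠ 0) (n3 : u' ≠ u) (hv : r • v = v) :
    v = 0 ∨ v = u ∨ v = u' ∨ v = u + u' := by
  classical
  have := Fintype.ofFinite (Fx V r)
  have n4 : u + u' ≠ 0 := fun h => n3 (eq_of_add h2 h).symm
  have : ({0, ⟨u, hu⟩, ⟨u', hu'⟩, ⟨u + u', add_mem (S := AddSubgroup V) hu hu'⟩} : Finset (Fx V r)) = Finset.univ := by
    apply Finset.eq_univ_of_card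
    rw [← Nat.card_eq_fintype_card, h4, Finset.card_insert_of_notMem, Finset.card_insert_of_notMem, Finset.card_pair] <;>
      simp [Subtype.ext_iff, n1, n2, n3.symm, n1.symm, n2.symm, n4.symm]
  simpa [Subtype.ext_iff] using this.ge (Finset.mem_univ ⟨v, hv⟩)

theorem triv (c : Commute g r) (hg : g * g * g = 1) (hu : r • u = u) (n : u ≠ 0) (e : g • u = u) (hv : r • v = v) :
    g • v = v := by
  by_cases n2 : v = 0
  · rw [n2, smul_zero]
  by_cases n3 : v = u
  · rw [n3, e]
  rcases four h2 h4 hu hv n n2 n3 (v := g • v) (by rw [← comm_smul c, hv]) with h | h | h | h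
  · exact absurd ((smul_eq_zero_iff_eq g).1 h) n2
  · exact absurd (MulAction.injective g (h.trans e.symm)) n3
  · exact h
  · have := cube_smul hg v
    rw [h, smul_add, e, h, c2' h2] at this; exact this

theorem sq_of (c : Commute g r) (hg : g * g * g = 1) (hu : r • u = u) (n : u ≠ 0) (e : g • u ≠ u) :
    g • g • u = u + g • u := by
  have n2 : g • u ≠ 0 := mt (smul_eq_zero_iff_eq g).1 n
  rcases four h2 h4 hu (by rw [← comm_smul c, hu]) n n2 e (v := g • g • u) (by simp only [← comm_smul c, hu])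
    with h | h | h | h
  · exact absurd ((smul_eq_zero_iff_eq g).1 h) n2
  · exact absurd (by nth_rw 2 [← cube_smul hg u]; rw [h]) e
  · exact absurd (MulAction.injective g h) e
  · exact h

theorem three (c : Commute g r) (hg : g * g * g = 1) (c' : Commute s r) (hs : s * s * s = 1) (hu : r • u = u)
    (e : s • u ≠ u) : (∀ v : V, r • v = v → g • v = v) ∨ (∀ v : V, r • v = v → g • v = s • v) ∨
      ∀ v : V, r • v = v → g • v = s • s • v := by
  have n : u ≠ 0 := fun h => e (by rw [h, smul_zero])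
  by_cases e' : g • u = u
  · exact .inl fun v => triv h2 h4 c hg hu n e'
  have n2 : s • u ≠ 0 := mt (smul_eq_zero_iff_eq s).1 n
  have F := fun v => four h2 h4 hu (by rw [← comm_smul c', hu]) n n2 e (v := v)
  have S := sq_of h2 h4 c' hs hu n e
  have T := sq_of h2 h4 c hg hu n e'
  have ext : ∀ t : X, g • u = t • u → g • s • u = t • s • u → ∀ v : V, r • v = v → g • v = t • v := fun t a b v hv => by
    rcases F v hv with rfl | rfl | rfl | rfl
    exacts [by simp, a, b, by rw [smul_add, smul_add, a, b]]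
  rcases F (g • u) (by rw [← comm_smul c, hu]) with h | h | h | h
  · exact absurd ((smul_eq_zero_iff_eq g).1 h) n
  · exact absurd h e'
  · exact .inr (.inl (ext s h (by rw [S, ← h, T])))
  · refine .inr (.inr fun v hv => (ext (s * s) (by rw [mul_smul, S, h]) ?_ v hv).trans (mul_smul _ _ _))
    rw [h, smul_add, h, c2' h2] at T
    rw [mul_smul, cube_smul hs, ← add_right_inj (u + s • u), T, add_comm u, add_assoc, h2, add_zero]

end abstract

variable {F : Type*} [Field F] [Fintype F] [hF : Fact (Fintype.card F = 2 ^ 2)]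

theorem om3 : om F * om F * om F = 1 := by linear_combination f4_cube (om_ne_zero (F := F))

/-- `ω` on `v^⊥` and `1` on `v`. -/
noncomputable def rho (v : Fin 4 → F) (h : hn v v = 1) : SU 4 F 2 :=
  ⟨⟨om F • unitaryTransvection 4 2 v (om F), by
    rw [det_smul, det_unitaryTransvection, show hermForm 4 F 2 v v = 1 from h, Fintype.card_fin]
    linear_combination (om F ^ 3 + 1) * om3 (F := F) - om F ^ 4 * om_sq (F := F)⟩, fun x y => by
    change hermForm 4 F 2 ((om F • unitaryTransvection 4 2 v (om F)) *ᵥ x) ((om F • unitaryTransvection 4 2 v (om F)) *ᵥ y) = _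
    rw [smul_mulVec, smul_mulVec, herm_smul_left, herm_smul_right, herm_unitaryTransvection,
      show hermForm 4 F 2 v v = 1 from h, show om F + om F ^ 2 + om F * om F ^ 2 * 1 = 0 by
        linear_combination om3 (F := F) + om_sq (F := F) + (om F + 1) * f4_two (F := F), zero_mul, add_zero]
    linear_combination hermForm 4 F 2 x y * om3 (F := F)⟩

theorem rho_smul (v : Fin 4 → F) (h : hn v v = 1) (x : Fin 4 → F) :
    rho v h • x = om F • (x + (om F * hn x v) • v) := by
  rw [← unitaryTransvection_mulVec, ← smul_mulVec]; rfl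

theorem rho_conj (g : SU 4 F 2) (v : Fin 4 → F) (h : hn v v = 1) :
    g * rho v h * g⁻¹ = rho (g • v) (by rwa [hn, herm_su_smul]) := by
  rw [mul_inv_eq_iff_eq_mul]
  refine su_ext fun x => ?_
  simp only [mul_smul, rho_smul, smul_add, su_smul_smul, herm_su_smul]

theorem rho_comm {u v : Fin 4 → F} (hu : hn u u = 1) (hv : hn v v = 1) (h : hn u v = 0) :
    Commute (rho u hu) (rho v hv) := su_ext fun x => by
  simp only [mul_smul (rho _ _), rho_smul, herm_smul_left, herm_add_left, h, hn_comm.1 h]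
  module

/-- The standard elements of order three. -/
noncomputable def ro (i : Fin 4) : SU 4 F 2 := rho (Pi.single i 1) (herm_single_single i)

theorem ro_ap (i j : Fin 4) (x : Fin 4 → F) : (ro (F := F) i • x) j = (if j = i then 1 else om F) * x j := by
  rw [ro, rho_smul, hn, herm_single_right]
  split_ifs with h
  · subst h; simp; linear_combination x j * om_sq (F := F) + om F * x j * f4_two (F := F)
  · simp [h]

theorem ro_comm (i j : Fin 4) : Commute (ro (F := F) i) (ro j) := su_ext fun x => funext fun k => by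
  simp only [mul_smul, ro_ap, mul_left_comm]

theorem ro_cube (i : Fin 4) : ro (F := F) i * ro i * ro i = 1 := su_ext fun x => funext fun k => by
  simp only [mul_smul, ro_ap, one_smul, ← mul_assoc]
  split_ifs <;> simp [om3]

theorem ro_prod {i j k : Fin 4} (h1 : j ≠ i) (h2 : k ≠ i) (h3 : j ≠ k) :
    ∃ l, l ≠ i ∧ ro (F := F) j * ro k * ro l * ro i = 1 := by
  obtain ⟨l, a, b, c, d⟩ : ∃ l, l ≠ i ∧ l ≠ j ∧ l ≠ k ∧ ∀ m, m = i ∨ m = j ∨ m = k ∨ m = l := by revert i j k; decide
  refine ⟨l, a, su_ext fun x => funext fun m => ?_⟩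
  simp only [mul_smul, ro_ap, one_smul, ← mul_assoc]
  rcases d m with rfl | rfl | rfl | rfl <;> simp [om3, *, h1.symm, h2.symm, h3.symm, a.symm, b.symm, c.symm]

/-- Permutation matrices. -/
noncomputable def pm (σ : Equiv.Perm (Fin 4)) : SU 4 F 2 :=
  ⟨⟨σ.permMatrix F, by
    rw [det_permutation]
    rcases Int.units_eq_one_or (Equiv.Perm.sign σ) with h | h <;> simp [h, neg_eq_iff_add_eq_zero, f4_add_self]⟩,
    fun x y => by
      change hermForm 4 F 2 (σ.permMatrix F *ᵥ x) (σ.permMatrix F *ᵥ y) = _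
      rw [permMatrix_mulVec, permMatrix_mulVec]
      exact Equiv.sum_comp σ fun i => x i * y i ^ 2⟩

theorem pm_ro (σ : Equiv.Perm (Fin 4)) (i : Fin 4) : pm (F := F) σ * ro (σ i) * (pm σ)⁻¹ = ro i := by
  rw [ro, rho_conj, ro]
  congr 1
  exact (permMatrix_mulVec ..).trans (funext fun j => by simp [Pi.single_apply])

theorem su_simple : IsSimpleGroup (SU 4 F 2) := by
  have := isSimpleGroup_PSU (F := F) (n := 4) (q := 2) (by decide) (by decide)
  have z : center (SU 4 F 2) = ⊥ := card_eq_one.1 (by rw [card_center_SU (by decide)]; decide)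
  exact ((QuotientGroup.quotientMulEquivOfEq z).trans QuotientGroup.quotientBot).symm.isSimpleGroup

theorem ro_ne (i : Fin 4) : ro (F := F) i ≠ 1 := fun h => by
  have := ro_ap (F := F) i (i + 1) 1
  rw [h, one_smul, if_neg ((by decide : ∀ i : Fin 4, i + 1 ≠ i) i)] at this
  exact om_ne_one (by simpa using this.symm)

theorem top_of {S : Subgroup (SU 4 F 2)} (h : ∀ g, g * g * g = 1 → ∀ i, Commute g (ro i) → g ∈ S) : S = ⊤ := by
  have := su_simple (F := F)
  have t : normalClosure {ro (F := F) 0} = ⊤ := (Normal.eq_bot_or_eq_top inferInstance).resolve_left fun e => ro_ne 0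
    (mem_bot.1 (e.le (subset_normalClosure rfl)))
  refine eq_top_iff.2 (t.ge.trans ((closure_le _).2 fun x hx => ?_))
  obtain ⟨_, rfl, c⟩ := Group.mem_conjugatesOfSet_iff.1 hx
  obtain ⟨g, rfl⟩ := isConj_iff.1 c
  obtain ⟨i, hi⟩ : ∃ i, (g • (Pi.single 0 1 : Fin 4 → F)) i = 0 := by
    by_contra n
    push Not at n
    have := herm_su_smul g (Pi.single 0 1) (Pi.single 0 1)
    simp only [herm_single_single, hermForm, Fin.sum_univ_four, f4_cube (n _), f4_add_self, zero_add] at this
    simp at this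
  exact h _ (by rw [conj_mul, conj_mul, ro_cube, mul_one, mul_inv_cancel]) i
    (by rw [ro, rho_conj]; exact rho_comm _ _ ((herm_single_right _ _).trans hi))

variable {V : Type*} [AddCommGroup V] [Finite V] [DistribMulAction (SU 4 F 2) V]

theorem dich (h2 : ∀ v : V, v + v = 0) (hV : Nat.card V = 256) (φ : V → ZMod 2) (β : V →+ V →+ ZMod 2)
    (hφ : ∀ u v, φ (u + v) = φ u + φ v + β u v) (nd : ∀ u, (∀ v, β u v = 0) → u = 0)
    (iv : ∀ (g : SU 4 F 2) v, φ (g • v) = φ v) (fa : ∀ g : SU 4 F 2, (∀ v : V, g • v = v) → g = 1) :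
    (∃ J : V →+ V, (∀ u, J (J u) = J u + u) ∧ (∀ u, φ (J u) = φ u) ∧ ∀ (g : SU 4 F 2) v, J (g • v) = g • J v) ∨
      ∃ u u', β u u' = 1 ∧ ∀ g : SU 4 F 2, g • u = u ∧ g • u' = u' := by
  have ib : ∀ (g : SU 4 F 2) u v, β (g • u) (g • v) = β u v := fun g u v => by
    have := hφ (g • u) (g • v)
    rw [← smul_add, iv, iv, iv, hφ] at this
    exact (add_left_cancel this).symm
  have tr : ∀ σ : Equiv.Perm (Fin 4), ∀ i (v : V), ro (F := F) (σ i) • v = v → ro (F := F) i • pm (F := F) σ • v =
      pm (F := F) σ • v := fun σ i v h => by rw [← pm_ro σ i, mul_smul, mul_smul, inv_smul_smul, h]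
  have h4 : ∀ i, Nat.card (Fx V (ro (F := F) i)) = 4 := fun i => by
    obtain ⟨b, c, d, l, k, l1, l2, l3, l4, l5⟩ := (by decide : ∀ i : Fin 4, ∃ a b c, (∀ m, m = i ∨ m = a ∨ m = b ∨ m = c) ∧
      a ≠ b ∧ a ≠ c ∧ b ≠ c ∧ a ≠ i ∧ b ≠ i ∧ c ≠ i) i
    obtain ⟨σ, a, e, f⟩ := (by decide +kernel : ∀ i a b c : Fin 4, a ≠ b → b ≠ i → a ≠ i → a ≠ c → b ≠ c → c ≠ i →
      ∃ σ : Equiv.Perm (Fin 4), σ i = i ∧ σ b = a ∧ σ c = b) i b c d k l4 l3 l1 l2 l5
    refine card_fix h2 (a := ro b * ro c * ro c) (b := pm σ) hV (ro_cube i) (su_ext fun x => funext fun m => ?_)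
      (((ro_comm _ _).mul_left (ro_comm _ _)).mul_left (ro_comm _ _))
      (mul_inv_eq_iff_eq_mul.1 (by simpa only [a] using pm_ro σ i)) (mul_inv_eq_iff_eq_mul.1 ?_)
      (not_forall.1 fun h => ro_ne i (fa _ h))
    · simp only [mul_smul, ro_ap, one_smul, ← mul_assoc]
      split_ifs <;> simp [om3, mul_assoc _ (om F) (om F * _)] <;> simp [← mul_assoc, om3]
    rw [← conj_mul, ← conj_mul, ← e, pm_ro, e, ← f, pm_ro, f]
    refine su_ext fun x => funext fun m => ?_
    simp only [mul_smul, ro_ap, ← mul_assoc]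
    rcases l m with rfl | rfl | rfl | rfl <;> simp [om3, *, k.symm, l1.symm, l2.symm, l3.symm, l4.symm, l5.symm]
  by_cases hI : ∃ i j, i ≠ j ∧ ∃ u : V, u ≠ 0 ∧ ro (F := F) i • u = u ∧ ro (F := F) j • u = u
  · obtain ⟨i, j, ij, u, n, a, b⟩ := hI
    have E : ∀ k l (v : V), ro (F := F) k • v = v → ro (F := F) l • v = v := fun k l v hv => by
      by_cases e : k = l
      · rwa [← e]
      obtain ⟨σ, rfl, rfl⟩ := (by decide +kernel : ∀ i j k l : Fin 4, i ≠ j → k ≠ l →
        ∃ σ : Equiv.Perm (Fin 4), σ k = i ∧ σ l = j) i j k l ij e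
      exact triv h2 (h4 k) (ro_comm _ _) (ro_cube l) (tr σ k u a) (mt (smul_eq_zero_iff_eq _).1 n) (tr σ l u b) hv
    let S : Subgroup (SU 4 F 2) :=
      { carrier := {g | ∀ v : V, ro (F := F) 0 • v = v ↔ ro (F := F) 0 • g • v = g • v}
        mul_mem' := fun {x y} hx hy v => by rw [mul_smul, ← hx, ← hy]
        one_mem' := fun v => by rw [one_smul]
        inv_mem' := fun {x} hx v => by rw [hx (x⁻¹ • v), smul_inv_smul] }
    have hS : S = ⊤ := top_of fun g _ i c v => ⟨fun h => E i _ _ (by rw [← comm_smul c, E _ _ _ h]),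
      fun h => E i _ _ (MulAction.injective g (by beta_reduce; rw [comm_smul c, E _ _ _ h]))⟩
    let K : Subgroup (SU 4 F 2) :=
      { carrier := {g | ∀ v : V, ro (F := F) 0 • v = v → g • v = v}
        mul_mem' := fun {x y} hx hy v h => by rw [mul_smul, hy v h, hx v h]
        one_mem' := fun v _ => one_smul _ _
        inv_mem' := fun {x} hx v h => by rw [inv_smul_eq_iff, hx v h] }
    have := su_simple (F := F)
    have hK : K = ⊤ := (Normal.eq_bot_or_eq_top ⟨fun x hx g v h => by
      rw [mul_smul, mul_smul, hx _ ((hS.ge (mem_top g⁻¹) v).1 h), smul_inv_smul]⟩).resolve_left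
      fun e => ro_ne 0 (mem_bot.1 (e.le fun _ h => h))
    obtain ⟨v, hv⟩ := not_forall.1 (mt (nd u) n)
    have u0 := E i 0 u a
    refine .inr ⟨u, pr (ro (F := F) 0) v, ?_, fun g => ⟨hK.ge (mem_top g) u u0, hK.ge (mem_top g) _ (pr_fix (ro_cube 0) v)⟩⟩
    have t : ∀ w, β u (ro (F := F) 0 • w) = β u w := fun w => by nth_rw 1 [← u0]; rw [ib]
    rw [pr, map_add, map_add, t, t, t, (z2_cases _).resolve_left hv]; rfl
  push Not at hI
  have z : ∀ {i j} (u : V), i ≠ j → ro (F := F) i • u = u → pr (ro (F := F) j) u = 0 := fun {i j} u n h => by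
    by_contra k
    exact hI i j n _ k (by rw [← pr_comm (ro_comm _ _), h]) (pr_fix (ro_cube j) u)
  have ind : ∀ P : V → Prop, (∀ i u, ro (F := F) i • u = u → P u) → (∀ u v, P u → P v → P (u + v)) → ∀ v, P v := by
    intro P p1 p2 v
    have : Function.Bijective fun x : (i : Fin 4) → Fx V (ro (F := F) i) => ∑ i, (x i).1 := by
      rw [Nat.bijective_iff_injective_and_card, Nat.card_pi, hV]
      refine ⟨fun x y h => funext fun i => Subtype.ext ?_, by simp [h4]⟩
      have k : ∀ x : (i : Fin 4) → Fx V (ro (F := F) i), pr (ro (F := F) i) (∑ j, (x j).1) = x i := fun x => by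
        rw [← AddMonoidHom.mk'_apply (pr (ro i)) (pr_add _), map_sum]
        exact (Finset.sum_eq_single i (fun j _ n => z _ n (x j).2) (by simp)).trans (pr_of h2 (x i).2)
      rw [← k x, ← k y]; exact congrArg _ h
    obtain ⟨x, rfl⟩ := this.2 v
    simp only [Fin.sum_univ_four]
    exact p2 _ _ (p2 _ _ (p2 _ _ (p1 _ _ (x 0).2) (p1 _ _ (x 1).2)) (p1 _ _ (x 2).2)) (p1 _ _ (x 3).2)
  have ex : ∀ i, ∃ u : V, u ≠ 0 ∧ ro (F := F) i • u = u := fun i => by
    have : Nontrivial (Fx V (ro (F := F) i)) := Finite.one_lt_card_iff_nontrivial.1 (by rw [h4]; decide)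
    obtain ⟨⟨u, hu⟩, n⟩ := exists_ne (0 : Fx V (ro (F := F) i))
    exact ⟨u, fun e => n (Subtype.ext e), hu⟩
  have eq : ∀ {i j k} (u : V), j ≠ i → k ≠ i → ro (F := F) i • u = u → ro (F := F) j • u = ro (F := F) k • u := by
    intro i j k u h1 h3 hu
    by_cases e : j = k
    · rw [e]
    obtain ⟨l, n, p⟩ := ro_prod (F := F) h1 h3 e
    obtain ⟨w, w0, hw⟩ := ex i
    rcases three h2 (h4 i) (ro_comm j i) (ro_cube j) (ro_comm k i) (ro_cube k) hw (hI i k h3.symm w w0 hw) with t | t | t
    · exact absurd (t w hw) (hI i j h1.symm w w0 hw)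
    · exact t u hu
    · refine absurd ?_ (hI i l n.symm w w0 hw)
      have := congrArg (· • w) p
      simp only [mul_smul, hw, one_smul] at this
      rwa [t _ (by simp only [comm_smul (ro_comm i _), hw]), cube_smul (ro_cube k)] at this
  let J : V →+ V := .mk' (fun v => ∑ i, ro (F := F) (i + 1) • pr (ro (F := F) i) v) fun u v => by
    simp only [pr_add, smul_add, Finset.sum_add_distrib]
  have s1 : ∀ i : Fin 4, i + 1 ≠ i := by decide
  have J1 : ∀ {i j} (u : V), j ≠ i → ro (F := F) i • u = u → J u = ro (F := F) j • u := fun {i j} u n h => by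
    rw [eq u n (s1 i) h, AddMonoidHom.mk'_apply, Finset.sum_eq_single i (fun k _ e => by rw [z u e.symm h, smul_zero])
      (by simp), pr_of h2 h]
  have Jb : ∀ u v, β (J u) (J v) = β u v := ind _ (fun i u hu => ind _ (fun j v hv => by
      obtain ⟨k, a, b⟩ := (by decide : ∀ i j : Fin 4, ∃ k, k ≠ i ∧ k ≠ j) i j
      rw [J1 u a hu, J1 v b hv, ib]) fun v w a b => by simp only [map_add, a, b])
    fun u u' a b v => by simp only [map_add, AddMonoidHom.add_apply, a, b]
  have Jf : ∀ i v, J v = ro (F := F) i • v + (J (pr (ro (F := F) i) v) + pr (ro (F := F) i) v) := fun i =>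
    ind _ (fun j u hu => by
      by_cases e : i = j
      · subst e; rw [pr_of h2 hu, hu, add_comm (J u), c2' h2]
      · rw [J1 u e hu, z u (Ne.symm e) hu, map_zero, add_zero, add_zero])
    fun u v a b => by rw [map_add, a, b, pr_add, map_add, smul_add]; abel
  let N : Subgroup (SU 4 F 2) :=
    { carrier := {g | ∀ v : V, J (g • v) = g • J v}
      mul_mem' := fun {x y} hx hy v => by rw [mul_smul, hx, hy, mul_smul]
      one_mem' := fun v => by rw [one_smul, one_smul]
      inv_mem' := fun {x} hx v => by rw [eq_inv_smul_iff, ← hx, smul_inv_smul] }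
  refine .inl ⟨J, ind _ (fun i u hu => ?_) fun u v a b => by rw [map_add, map_add, a, b]; abel,
    ind _ (fun i u hu => by rw [J1 u (s1 i) hu, iv]) fun u v a b => by rw [map_add, hφ, hφ, a, b, Jb],
    fun g => (top_of (S := N) fun g h3 i c v => ?_).ge (mem_top g)⟩
  · rw [J1 u (s1 i) hu, J1 _ (s1 i) (by rw [comm_smul (ro_comm _ _), hu]), add_comm _ u]
    exact (eq_of_add h2 (z u (s1 i).symm hu)).symm
  obtain ⟨w, w0, hw⟩ := ex i
  have p := pr_fix (V := V) (ro_cube (F := F) i) v
  have p' : ∀ k, ro (F := F) i • ro (F := F) k • pr (ro (F := F) i) v = ro (F := F) k • pr (ro (F := F) i) v := fun k => by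
    rw [comm_smul (ro_comm _ _), p]
  rw [Jf i, Jf i v, pr_comm c, smul_add, smul_add, comm_smul c, J1 _ (s1 i) p, J1 _ (s1 i) (by rw [← comm_smul c, p])]
  rcases three h2 (h4 i) c h3 (ro_comm (i + 1) i) (ro_cube _) hw (hI i _ (s1 i).symm w w0 hw) with t | t | t <;>
    rw [t _ p, t _ (p' _)]

end Cfsg.Agent.U6R
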