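import Cfsg.Agent.U6R.Cnt
import Cfsg.Agent.FI.Unit

/-! Natural frames `NF` (helper24): `Q/⟨z⟩` is the natural module of `U₄(2)`; `z` is weakly closed in `Q` (`NF.wc`);
the involutions of the linear part (`NF.kind`). -/

set_option autoImplicit false
set_option linter.unusedSectionVars false

namespace Cfsg.Agent.U6R

open Cfsg.Agent.Fischer Cfsg.Agent.FI Cfsg.Agent.Classical Subgroup Cfsg.Agent.BG Cfsg.Agent.LES Cfsg.Agent.PGrp Module

variable {F : Type*} [Field F] [Fintype F] [hF : Fact (Fintype.card F = 2 ^ 2)]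
variable {G : Type*} [Group G] [Finite G] {z t s x y a b g : G} {Q H P K : Subgroup G} {p p' : G → Fin 4 → F}
  {φ : (Fin 4 → F) → ZMod 2} {β : (Fin 4 → F) →+ (Fin 4 → F) →+ ZMod 2} {ν ν' : G → (Fin 4 → F) →+ (Fin 4 → F)}
  {u v w n : Fin 4 → F} {c : F}

theorem sTn_conj (g : SU 4 F 2) (h : hn v v = 0) : g * sTn v * g⁻¹ = sTn (g • v) := by
  rw [sTn_eq h, conj_suT, ← sTn_eq]

theorem hAl (u v w : Fin 4 → F) : hn (u + v) w = hn u w + hn v w := herm_add_left ..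
theorem hAr (u v w : Fin 4 → F) : hn u (v + w) = hn u v + hn u w := herm_add_right ..
theorem hSl (c : F) (u v : Fin 4 → F) : hn (c • u) v = c * hn u v := herm_smul_left ..
theorem hSr (c : F) (u v : Fin 4 → F) : hn u (c • v) = c ^ 2 * hn u v := herm_smul_right ..
theorem hC (u v : Fin 4 → F) : hn u v ^ 2 = hn v u := herm_conj ..
theorem h1C (h : hn u v = 1) : hn v u = 1 := herm_eq_one_comm h
theorem hnC (h : hn u v ≠ 0) : hn v u ≠ 0 := fun k => h (hn_comm.1 k)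
theorem om_tr : om F + om F ^ 2 = 1 := by linear_combination om_sq (F := F) + om F * f4_two (F := F)
theorem f4_pow4 (c : F) : (c ^ 2) ^ 2 = c := pow_q_q (q := 2) c

theorem hyp (hv : Ison v) : ∃ w w', Ison w ∧ Ison w' ∧ hn w v = 0 ∧ hn w' v = 0 ∧ hn w w' = 1 := by
  have h0 : Ison (![1, 1, 0, 0] : Fin 4 → F) :=
    ⟨fun h => one_ne_zero (congrFun h 0), by simp [hermForm, Fin.sum_univ_four, f4_add_self]⟩
  obtain ⟨g, hg⟩ := TC.exists_conj (class_suSet (F := F) le_rfl) (ukn_suSet.mem _ h0) (ukn_suSet.mem _ hv)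
  have i : ∀ x : Fin 4 → F, Ison x → Ison (g • x) := fun x h =>
    ⟨mt (smul_eq_zero_iff_eq g).1 h.1, (herm_su_smul ..).trans h.2⟩
  rw [sTn_conj g h0.2, eq_comm, sTn_eq_iff hv (i _ h0)] at hg
  obtain ⟨c, rfl⟩ := hg
  refine ⟨g • ![0, 0, 1, 1], g • ![0, 0, om F, om F ^ 2], i _ ⟨fun h => one_ne_zero (congrFun h 2), ?_⟩,
    i _ ⟨fun h => om_ne_zero (congrFun h 2), ?_⟩, ?_, ?_, ?_⟩ <;>
    (try simp only [herm_smul_right, herm_su_smul]) <;> simp [hermForm, Fin.sum_univ_four, f4_add_self, f4_pow4,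
      f4_cube om_ne_zero, mul_comm (om F ^ 2), add_comm (om F ^ 2), om_tr]

/-- A natural frame. -/
structure NF (z : G) (Q H : Subgroup G) (p : G → Fin 4 → F) (φ : (Fin 4 → F) → ZMod 2)
    (β : (Fin 4 → F) →+ (Fin 4 → F) →+ ZMod 2) (ν : G → (Fin 4 → F) →+ (Fin 4 → F)) : Prop
    extends Fm z Q H p φ β ν where
  hφ : ∀ v, hn v v = c2 F (φ v)
  hβ : ∀ u v, hn u v + hn v u = c2 F (β u v)
  lin : ∀ {h}, h ∈ H → ∀ (c : F) v, ν h (c • v) = c • ν h v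
  sem : ∀ {h}, Commute h z → h ∉ H → ∀ (c : F) v, ν h (c • v) = c ^ 2 • ν h v
  tv : ∀ y, Ison y → ∃ h ∈ H, ∀ v, ν h v = tvn y v

namespace NF
variable (N : NF z Q H p φ β ν)
include N

theorem conj (g : G) : NF (g * z * g⁻¹) (cj g Q) (cj g H) (fun x => p (g⁻¹ * x * g)) φ β fun x => ν (g⁻¹ * x * g) :=
  ⟨N.toFm.conj g, N.hφ, N.hβ, fun h => N.lin (mem_cj.1 h), fun h k => N.sem
    (by rw [← commute_conj_iff g]; simpa [mul_assoc] using h) (mt mem_cj.2 k),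
    fun y hy => let ⟨h, a, b⟩ := N.tv y hy; ⟨_, conj_mem_cj g a, by simpa [mul_assoc] using b⟩⟩

theorem b0 : β u v = 0 ↔ hn u v + hn u v ^ 2 = 0 := by rw [herm_conj, N.hβ, c2_eq_zero]
theorem b1 (h : β u v = 1) : hn u v + hn u v ^ 2 = 1 := by rw [herm_conj, N.hβ, h, map_one]
theorem f0 : φ v = 0 ↔ hn v v = 0 := by rw [N.hφ, c2_eq_zero]
theorem b_of (h : hn u v = 0) : β u v = 0 := N.b0.2 (by simp [h])
theorem h_of (h : β u v = 0) (h' : β (om F • u) v = 0) : hn u v = 0 :=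
  tr_zero (N.b0.1 h) (by simpa using N.b0.1 h')

theorem hn_lin (hg : g ∈ H) (u v : Fin 4 → F) : hn (ν g u) (ν g v) = hn u v := by
  have a := (N.hβ (ν g u) (ν g v)).trans ((congrArg _ (N.nu_beta (N.Hz hg) u v)).trans (N.hβ u v).symm)
  have b := (N.hβ (ν g (om F • u)) (ν g v)).trans ((congrArg _ (N.nu_beta (N.Hz hg) _ v)).trans (N.hβ _ v).symm)
  rw [N.lin hg, hn, hn, hn, hn, ← herm_conj (om F • ν g u), ← herm_conj (om F • u), herm_smul_left, herm_smul_left] at b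
  rw [hn, hn, hn, hn, ← herm_conj (ν g u), ← herm_conj u] at a
  refine eq_of_add f4_add_self (tr_zero ?_ ?_)
  · linear_combination a + (hn u v + hn u v ^ 2 + hn (ν g u) (ν g v) * hn u v) * f4_two (F := F)
  · linear_combination b + (om F * hn u v + (om F * hn u v) ^ 2 + om F ^ 2 * hn (ν g u) (ν g v) * hn u v) * f4_two (F := F)

theorem in_line (h : ∀ x, hn x v = 0 → β w x = 0) : ∃ c : F, w = c • v := by
  by_contra k
  obtain ⟨x, a, -, b⟩ := exists_hn_values (u := v) (v := v) (w := w) fun a b e => k ⟨a + b, by rw [e, add_smul]⟩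
  have := N.b0.1 (h (om F • x) (by simp [hn_comm.1 a]))
  rw [hn, herm_smul_right, show hermForm 4 F 2 w x = 1 from b, mul_one, f4_pow4, add_comm, om_tr] at this
  exact one_ne_zero this

theorem mem_H (hg : Commute g z) (n : v ≠ 0) (h : ν g v = v) (h' : ν g (om F • v) = om F • v) : g ∈ H := by
  by_contra k
  rw [N.sem hg k, h, om_sq, add_smul, one_smul, add_eq_left] at h'
  exact n h'

theorem wc {V' : Type*} [AddCommGroup V'] [Finite V'] {p' : G → V'} {φ' : V' → ZMod 2} {β' : V' →+ V' →+ ZMod 2}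
    {ν' : G → V' →+ V'} (F' : Fm s P K p' φ' β' ν') (sQ : s ∈ Q) (zP : z ∈ P) (ne : s ≠ z) : False := by
  obtain ⟨v, hv⟩ : ∃ v, v = p s := ⟨_, rfl⟩
  have iv : Ison v := ⟨fun h => ((N.p0 sQ).1 (hv ▸ h)).elim F'.es.z1 ne, N.f0.1 (hv ▸ (N.sq sQ).2 F'.zz)⟩
  have cen : ∀ {b y}, Commute b z → b ∈ P → y ∈ Q → y ∈ P → ν b (p y) = p y → Commute b y := fun {b y} h1 h2 h3 h4 e => by
    rcases (N.eq_iff h3 (N.cjm h1 h3)).1 (by rw [N.act h1 h3, e]) with k | k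
    · exact cj_eq_iff_comm.1 k
    · exact cj_eq_iff_comm.1 ((F'.es.comm b h2 y h4).resolve_right fun k' => ne (mul_left_cancel (k'.symm.trans k)))
  let Y : (Fin 4 → F) → Prop := fun w => ∃ y ∈ Q ⊓ P, y ∈ Q ∧ p y = w
  have Ya : ∀ {u w}, Y u → Y w → Y (u + w) := by
    rintro _ _ ⟨x, a, -, rfl⟩ ⟨y, b, -, rfl⟩; exact ⟨_, mul_mem a b, mul_mem a.1 b.1, N.add a.1 b.1⟩
  have ab : ∀ x ∈ Q ⊓ P, ∀ y ∈ Q ⊓ P, Commute x y := fun x a y b => cen (N.Qz a.1) a.2 b.1 b.2 (N.nu_Q a.1 _)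
  have Yb : ∀ {u w}, Y u → Y w → hn u w + hn u w ^ 2 = 0 := by
    rintro _ _ ⟨x, a, -, rfl⟩ ⟨y, b, -, rfl⟩; exact N.b0.1 ((N.comm a.1 b.1).2 (ab x a y b))
  have Yq : ∀ {u}, Y u → hn u u = 0 := by
    rintro _ ⟨x, a, -, rfl⟩
    exact N.f0.1 ((N.sq a.1).2 ((N.es.sq x a.1).resolve_right fun k => (F'.es.sq x a.2).elim
      (fun k' => N.es.z1 (k.symm.trans k')) fun k' => ne (k'.symm.trans k)))
  have lf : ∀ g, Commute g z → ν g v = v → ∃ m, Commute m z ∧ Commute m s ∧ ∀ x, ν m x = ν g x := fun g hg e =>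
    let ⟨q, hq, k⟩ := N.lift hg sQ (hv ▸ iv.1) (hv ▸ e)
    ⟨_, (N.Qz hq).mul_left hg, k, fun x => by rw [N.nu_mul (N.Qz hq) hg, N.nu_Q hq]⟩
  have Yt : ∀ {w y}, Ison w → hn v w = 0 → Y y → Y (hn y w • w) := by
    rintro w _ hw h ⟨y, a, -, rfl⟩
    obtain ⟨g, hg, e⟩ := N.tv w hw
    obtain ⟨m, m1, m2, m3⟩ := lf g (N.Hz hg) (by rw [e, tvn_of_orth h])
    have := Ya ⟨y, a, a.1, rfl⟩ ⟨_, ⟨N.cjm m1 a.1, F'.cjm m2 a.2⟩, N.cjm m1 a.1, rfl⟩
    rwa [N.act m1 a.1, m3, e, tvn, c2' N.h2] at this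
  have ia : ∀ {w} (a : F), Ison w → hn w v = 0 → (∃ x, hn x v = 0 ∧ hn x w ≠ 0) → Ison (w + a • v) :=
    fun {w} a hw h ⟨x, x1, x2⟩ => ⟨fun e => x2 (by simpa [x1] using congrArg (hn x) e), by simp [hw.2, h, hn_comm.1 h, iv.2]⟩
  have s1 : ∀ {y}, Y y → hn y v = 0 := fun {y} hy => by
    by_contra k
    obtain ⟨w, w', a, b, c, d, e⟩ := hyp iv
    have f : ∀ w (c : F), Ison w → hn w v = 0 → (∃ x, hn x v = 0 ∧ hn x w ≠ 0) → ∃ a : F, Y (c • (w + a • v)) :=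
      fun w c h1 h2 h3 => ⟨((hn y w + c) / hn y v) ^ 2, by
        have := Yt (ia (((hn y w + c) / hn y v) ^ 2) h1 h2 h3) (by simp [hn_comm.1 h2, iv.2]) hy
        rwa [hAr, hSr, f4_pow4, div_mul_cancel₀ _ k, c2' f4_add_self] at this⟩
    obtain ⟨_, y1⟩ := f w (om F) a c ⟨w', d, by rw [h1C e]; exact one_ne_zero⟩
    obtain ⟨_, y2⟩ := f w' 1 b d ⟨w, c, by rw [e]; exact one_ne_zero⟩
    simpa [e, c, hn_comm.1 d, iv.2, om_tr] using Yb y1 y2
  have sep : ∀ {y}, Y y → (∀ c : F, y ≠ c • v) → ∃ w, Ison w ∧ hn v w = 0 ∧ hn y w ≠ 0 := fun hy h =>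
    let ⟨w, a, b, _, c⟩ := exists_ison_sep (u := v) (v := v) (Yq hy) (hn_comm.1 (s1 hy)) (hn_comm.1 (s1 hy))
      fun a b e => h (a + b) (by rw [e, add_smul])
    ⟨w, a, b, c⟩
  have s3 : ∀ {y}, Y y → Y (om F • y) → ∃ c : F, y = c • v := fun {y} h1 h2 => by
    by_contra k
    obtain ⟨w, a, b, c⟩ := sep h1 (not_exists.1 k)
    have := Yb h2 (Yt a b h1)
    rw [hn, herm_smul_left, herm_smul_right, mul_comm (_ ^ 2), f4_cube c, mul_one, om_tr] at this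
    exact one_ne_zero this
  obtain ⟨u, uu, uv⟩ := exists_iso_partner iv.1 iv.2
  have vu := h1C uv
  have AB : ∀ {b}, Commute b z → b ∈ P → ∀ x, β x v = 0 → Y (ν b x + x) := fun {b} h1 h2 x hx => by
    obtain ⟨x, a, rfl⟩ := N.surj x
    have := F'.cjm ((N.comm a sQ).1 (hv ▸ hx)) (inv_mem h2)
    have m := mul_mem (N.cjm h1 a) (inv_mem a)
    exact ⟨_, ⟨m, by simpa [mul_assoc] using mul_mem h2 this⟩, m, N.nu_comm h1 a⟩
  have bv : ∀ {b}, Commute b z → b ∈ P → ν b v = v := fun h1 h2 => hv ▸ N.nu_fix h1 sQ (F'.Qz h2)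
  have Yu : ∀ {b}, b ∈ H → b ∈ P → Y (ν b u + u) := fun h1 h2 => AB (N.Hz h1) h2 u (N.b0.2 (by simp [uv, f4_add_self]))
  let Ei : G → (Fin 4 → F) → Prop := fun g n => ∀ x, hn x v = 0 → ν g x = x + hn x n • v
  have E1 : ∀ {b}, b ∈ H → b ∈ P → Ei b (ν b u + u) := fun {b} h1 h2 x hx => by
    obtain ⟨c, e⟩ := s3 (AB (N.Hz h1) h2 x (N.b_of hx)) (by
      rw [smul_add, ← N.lin h1]; exact AB (N.Hz h1) h2 _ (N.b_of (by simp [hx])))
    have e' : ν b x = x + c • v := by rw [← e, add_comm (ν b x), c2' N.h2]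
    have := N.hn_lin h1 x u
    rw [e', ← c2' N.h2 u (ν b u), add_comm u (ν b u), hAl, hAr x u, hSl, hAr v u,
      vu, hn_comm.1 (s1 (Yu h1 h2)), add_assoc, add_eq_left, add_zero, mul_one] at this
    rw [e', eq_of_add f4_add_self this]
  have E2 : ∀ {g g' n n'}, Commute g z → Commute g' z → hn v n = 0 → ν g v = v → g ∈ H → Ei g n → Ei g' n' →
      Ei (g * g') (n + n') := fun h1 h2 _ h4 h5 a b x hx => by
    rw [N.nu_mul h1 h2, b x hx, map_add, a x hx, N.lin h5, h4, hn, hn, hn, herm_add_right, add_smul, add_assoc]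
  have E3 : ∀ {g n}, g ∈ H → ν g v = v → Ei g n → Ei g⁻¹ n ∧ ν g⁻¹ v = v := fun {g n} h1 h2 a => by
    have k : ν g⁻¹ v = v := by nth_rw 1 [← h2]; rw [N.nu_inv (N.Hz h1)]
    refine ⟨fun x hx => ?_, k⟩
    have := N.nu_inv (N.Hz h1) x
    rw [a x hx, map_add, N.lin (inv_mem h1), k] at this
    rw [← add_left_inj (hn x n • v), this, add_assoc, N.h2, add_zero]
  have E4 : ∀ {b} (c : F), Commute b z → b ∈ P → Ei b (c • v) → ∀ y ∈ Q ⊓ P, Commute y b := fun c h1 h2 a y hy =>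
    (cen h1 h2 hy.1 hy.2 (by simp [a _ (s1 ⟨y, hy, hy.1, rfl⟩), s1 ⟨y, hy, hy.1, rfl⟩])).symm
  by_cases hA : ∀ b ∈ H, b ∈ P → ∃ c : F, ν b u + u = c • v
  · have T : ∀ b ∈ H, b ∈ P → ν b u = u → b ∈ Q := fun b h1 h2 e => N.ker (N.Hz h1) fun x => by
      have := E1 h1 h2 (x + hn x v • u) (by simp [uv, f4_add_self])
      rw [map_add, N.lin h1, e, N.h2] at this
      simpa using this
    have T' : ∀ b ∈ H, b ∈ P → ν b u = u ∨ ν b u = u + v := fun b h1 h2 => by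
      obtain ⟨c, e⟩ := hA b h1 h2
      have e' : ν b u = u + c • v := by rw [← e, add_comm (ν b u), c2' N.h2]
      have := N.hn_lin h1 u u
      simp only [e', herm_add_left, herm_add_right, herm_smul_left, herm_smul_right, uu, uv, vu, iv.2] at this
      by_cases k : c = 0
      · simp [e', k]
      · simp [e', eq_one_of_trace (by linear_combination this) k]
    have C : ∀ b ∈ H, b ∈ P → ∀ y ∈ Q ⊓ P, Commute y b := fun b h1 h2 =>
      let ⟨c, e⟩ := hA b h1 h2; E4 c (N.Hz h1) h2 (e ▸ E1 h1 h2)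
    have a1 := F'.ab32 (A := (P ⊓ C1[z]) ⊓ H) (inf_le_left.trans inf_le_left)
      ⟨⟨F'.es.zQ, mem_cent1.2 (N.Qz sQ)⟩, N.QH sQ⟩ fun a ha b hb => by
        rcases T' a ha.2 ha.1.1 with e | e
        · exact C b hb.2 hb.1.1 a ⟨T a ha.2 ha.1.1 e, ha.1.1⟩
        rcases T' b hb.2 hb.1.1 with e' | e'
        · exact (C a ha.2 ha.1.1 b ⟨T b hb.2 hb.1.1 e', hb.1.1⟩).symm
        have m := mul_mem ha.1.1 hb.1.1
        simpa using ((Commute.refl a).inv_left.mul_left (C a ha.2 ha.1.1 _ ⟨T _ (mul_mem ha.2 hb.2) m (by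
          rw [N.nu_mul (N.Hz ha.2) (N.Hz hb.2), e', map_add, e, bv (N.Hz ha.2) ha.1.1, add_assoc, N.h2, add_zero]), m⟩)).symm
    have a2 := half (B := P ⊓ C1[z]) (S := H) fun a ha b hb => N.two (mem_cent1.1 ha.2) (mem_cent1.1 hb.2)
    have := F'.cardB zP
    omega
  push Not at hA
  obtain ⟨b, h1, h2, h3⟩ := hA
  obtain ⟨n, hn'⟩ : ∃ n, n = ν b u + u := ⟨_, rfl⟩
  have yn : Y n := hn' ▸ Yu h1 h2
  have nv := s1 yn
  obtain ⟨w0, a0, b0, c0⟩ := sep yn (hn' ▸ h3)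
  obtain ⟨w, iw, wv, wu, wn⟩ : ∃ w, Ison w ∧ hn w v = 0 ∧ hn w u = 0 ∧ hn w n = om F :=
    ⟨(om F / hn w0 n) • (w0 + hn w0 u • v), (ia _ a0 (hn_comm.1 b0) ⟨n, nv, c0⟩).smul
      (div_ne_zero om_ne_zero (hnC c0)), by simp [hn_comm.1 b0, iv.2], by simp [vu, f4_add_self], by
        simp [hn_comm.1 nv, div_mul_cancel₀ _ (hnC c0)]⟩
  have nw : hn n w = om F ^ 2 := by rw [← wn, herm_conj]
  have nw0 : hn n w ≠ 0 := nw ▸ pow_ne_zero 2 om_ne_zero
  have iw' := ia 1 iw wv ⟨n, nv, nw0⟩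
  rw [one_smul] at iw'
  obtain ⟨g, hg, e⟩ := N.tv w iw
  obtain ⟨g', hg', e'⟩ := N.tv _ iw'
  obtain ⟨m, m1, m2, m3⟩ := lf (g * g') (N.Hz (mul_mem hg hg')) (by
    simp [N.nu_mul (N.Hz hg) (N.Hz hg'), e, e', tvn, iv.2, hn_comm.1 wv])
  simp only [N.nu_mul (N.Hz hg) (N.Hz hg'), e, e', tvn] at m3
  have mv : ν m v = v := by simp [m3, iv.2, hn_comm.1 wv]
  have mH : m ∈ H := N.mem_H m1 iv.1 mv (by simp [m3, iv.2, hn_comm.1 wv])
  have Em : Ei m w := fun x hx => by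
    simp only [m3, herm_add_left, herm_add_right, herm_smul_left, hx, iw.2, hn_comm.1 wv, add_zero, mul_zero, smul_add]
    rw [add_assoc, add_right_comm, N.h2, zero_add]
  have Eb := hn' ▸ E1 h1 h2
  have bv' := bv (N.Hz h1) h2
  have mP : b * m * b⁻¹ * m⁻¹ ∈ P := by simpa [mul_assoc] using mul_mem h2 (F'.cjm m2 (inv_mem h2))
  have mH' : b * m * b⁻¹ * m⁻¹ ∈ H := N.comm_H (N.Hz h1) m1
  have c32 : 2 * Nat.card (F × Bool × Bool) ≤ #(Q ⊓ P : Subgroup G) := N.card_le (fun i => i.1 • v +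
      ((if i.2.1 then n else 0) + (if i.2.2 then hn n w • w else 0))) (by
      rintro ⟨a, a1, a2⟩ ⟨b, b1, b2⟩ h
      have k1 := congrArg (hn · w) h
      have k2 := congrArg (hn · n) h
      have := om_ne_zero (F := F)
      cases a1 <;> cases a2 <;> cases b1 <;> cases b2 <;>
        simp [hn_comm.1 wv, iw.2, nw0, nw0.symm, hn_comm.1 nv, Yq yn, wn, this] at k1 k2 <;>
        simpa [iv.1, smul_left_injective F iv.1 |>.eq_iff] using h)
    ⟨N.es.zQ, zP⟩ fun i => Ya (by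
      have := Ya (Yt iw (hn_comm.1 wv) yn) (Yt (ia (i.1 / hn n w) iw wv ⟨n, nv, nw0⟩) (by simp [hn_comm.1 wv, iv.2]) yn)
      rwa [hn, hn, herm_add_right, herm_smul_right, show hermForm 4 F 2 n v = 0 from nv, mul_zero, add_zero, smul_add,
        c2' N.h2, smul_smul, mul_div_cancel₀ _ nw0] at this)
      (Ya (by split_ifs; exacts [yn, ⟨1, one_mem _, one_mem _, N.p1⟩])
        (by split_ifs; exacts [Yt iw (hn_comm.1 wv) yn, ⟨1, one_mem _, one_mem _, N.p1⟩]))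
  simp only [Nat.card_eq_fintype_card, Fintype.card_prod, hF.out, Fintype.card_bool] at c32
  have Ec := E2 (N.Hz (mul_mem (mul_mem h1 mH) (inv_mem h1))) m1.inv_left (n := n + w + n)
    (by simp [hn_comm.1 nv, hn_comm.1 wv]) (by
      rw [N.nu_mul (N.Hz (mul_mem h1 mH)) (N.Hz h1).inv_left, (E3 h1 bv' Eb).2, N.nu_mul (N.Hz h1) m1, mv, bv'])
    (mul_mem (mul_mem h1 mH) (inv_mem h1)) (E2 (N.Hz (mul_mem h1 mH)) (N.Hz h1).inv_left
      (by simp [hn_comm.1 nv, hn_comm.1 wv]) (by rw [N.nu_mul (N.Hz h1) m1, mv, bv']) (mul_mem h1 mH)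
      (E2 (N.Hz h1) m1 (hn_comm.1 nv) bv' h1 Eb Em) (E3 h1 bv' Eb).1) (E3 mH mv Em).1
  rw [add_assoc, N.h2, ← zero_smul F v] at Ec
  have q := (F'.ab32' inf_le_right ⟨sQ, F'.es.zQ⟩ ab c32 mP (E4 0 (N.Hz mH') mP Ec)).1
  have := N.nu_Q q (ν m (ν b u))
  rw [← N.nu_mul m1 (N.Hz h1), ← N.nu_mul (N.Hz mH') (m1.mul_left (N.Hz h1)), show b * m * b⁻¹ * m⁻¹ * (m * b) = b * m by
    group, N.nu_mul (N.Hz h1) m1, N.nu_mul m1 (N.Hz h1)] at this
  have mu : ν m u = u + (w + v) := by simp [m3, uv, hn_comm.1 wu, iw.2, hn_comm.1 wv]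
  have bu : ν b u = u + n := by rw [hn', add_comm (ν b u), c2' N.h2]
  rw [mu, bu, map_add, map_add, map_add, mu, bu, bv', Eb w wv, Em n nv, wn, nw] at this
  have := congrArg (hn · u) this
  simp only [herm_add_left, herm_smul_left, vu, mul_one] at this
  exact one_ne_zero (α := F) (by linear_combination this - om_tr (F := F) + (om F ^ 2 + om F - 1 + (1 - om F)) * f4_two (F := F))

variable (ht : t ∈ H) (tt : t * t = 1)
include ht

theorem adjH (k : ∀ v, ν t (ν t v) = v) (u v : Fin 4 → F) : hn (ν t u + u) v = hn u (ν t v + v) := by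
  rw [hn, hn, herm_add_left, herm_add_right, ← hn, ← N.hn_lin ht, k]

include tt

theorem adjT (u v : Fin 4 → F) : hn (ν t u + u) v = hn u (ν t v + v) := N.adjH ht (N.nu_nu (N.Hz ht) tt) u v

theorem hNN (u v : Fin 4 → F) : hn (ν t u + u) (ν t v + v) = 0 := by
  rw [N.adjT ht tt, N.fixN (N.Hz ht) tt, N.h2, hn, herm_zero_right]

theorem kind (tQ : t ∉ Q) : (∃ y, Ison y ∧ ∀ v, ν t v = tvn y v) ∨ (∀ w, ν t w = w → ∃ v, w = ν t v + v) ∧
    (∀ y, ∃ x, ∀ c : F, ν t x + x ≠ c • y) ∧ ∃ x1 x2, ∀ x, ∃ (a b : F) (l : Fin 4 → F), ν t l = l ∧ x = a • x1 + b • x2 + l := by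
  let L : (Fin 4 → F) →ₗ[F] (Fin 4 → F) :=
    { toFun v := ν t v + v
      map_add' u v := by rw [map_add]; abel
      map_smul' c v := by rw [N.lin ht, smul_add]; rfl }
  have le : L.range ≤ L.ker := by rintro _ ⟨v, rfl⟩; exact (congrArg (· + _) (N.fixN (N.Hz ht) tt v)).trans (N.h2 _)
  have r := L.finrank_range_add_finrank_ker
  have := Submodule.finrank_mono le
  rw [finrank_fin_fun] at r
  obtain h | h | h : finrank F L.range = 0 ∨ finrank F L.range = 1 ∨ finrank F L.range = 2 := by omega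
  · exact absurd (N.ker (N.Hz ht) fun v => eq_of_add N.h2 ((Submodule.finrank_eq_zero.1 h).le ⟨v, rfl⟩)) tQ
  · obtain ⟨⟨_, x0, rfl⟩, n, k⟩ := finrank_eq_one_iff'.1 h
    have n : L x0 ≠ 0 := fun e => n (Subtype.ext e)
    have f : ∀ x, ∃ c : F, ν t x + x = c • L x0 ∧ c * hn (L x0) x0 = hn x (L x0) := fun x => by
      obtain ⟨c, e⟩ := k ⟨_, x, rfl⟩
      have e : ν t x + x = c • L x0 := (congrArg Subtype.val e).symm
      exact ⟨c, e, by rw [← herm_smul_left, ← e]; exact N.adjT ht tt _ _⟩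
    have k1 : hn (L x0) x0 = 1 := eq_one_of_trace (by rw [herm_conj]; exact (congrArg (· + _) (N.adjT ht tt _ _)).trans (f4_add_self _))
      fun e => n (eq_zero_of_herm_eq_zero fun x => hn_comm.1 (by obtain ⟨c, -, e'⟩ := f x; rw [← e', e, mul_zero]))
    refine .inl ⟨L x0, ⟨n, N.hNN ht tt _ _⟩, fun v => ?_⟩
    obtain ⟨c, e, e'⟩ := f v
    rw [tvn, ← e', k1, mul_one, ← e, add_comm (ν t v), c2' N.h2]
  have e := Submodule.eq_of_le_of_finrank_eq le (by omega)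
  refine .inr ⟨fun w hw => let ⟨v, hv⟩ := e.ge (show w ∈ L.ker from (congrArg (· + w) hw).trans (N.h2 w)); ⟨v, hv.symm⟩,
    fun y => ?_, ?_⟩
  · by_contra k
    push Not at k
    have := Submodule.finrank_mono (show L.range ≤ Submodule.span F {y} by
      rintro _ ⟨v, rfl⟩; obtain ⟨c, e⟩ := k v; exact Submodule.mem_span_singleton.2 ⟨c, e.symm⟩)
    have := (finrank_span_le_card (R := F) ({y} : Set (Fin 4 → F)))
    simp at this; omega
  let bs := finBasisOfFinrankEq F L.range h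
  obtain ⟨x1, e1⟩ := (bs 0).2
  obtain ⟨x2, e2⟩ := (bs 1).2
  refine ⟨x1, x2, fun x => ?_⟩
  have := congrArg Subtype.val (bs.sum_repr ⟨_, x, rfl⟩)
  simp only [Fin.sum_univ_two, Submodule.coe_add, Submodule.coe_smul, ← e1, ← e2, ← map_smul, ← map_add] at this
  exact ⟨_, _, _, eq_of_add N.h2 (show L (_ + x) = 0 by rw [map_add, this, N.h2]), (c2' N.h2 _ _).symm⟩

end NF

end Cfsg.Agent.U6R
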