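import Cfsg.Agent.U6R.Non0

/-! `nonnat` (helper20): if the group `H` of a frame has order `2^9 · 25920` and fixes a hyperbolic pair, then no other
conjugate of `z` commutes with `z`. -/

set_option autoImplicit false
set_option linter.unusedSectionVars false

namespace Cfsg.Agent.U6R

open Cfsg.Agent.Fischer Cfsg.Agent.FI Subgroup Cfsg.Agent.BG Cfsg.Agent.LES Cfsg.Agent.PGrp
open SuzA (W S O6 Om B cv qN bN e1 B0 B1)

variable {G : Type*} [Group G] [Finite G] {V : Type*} [AddCommGroup V] [Finite V] {z t x y a b c g h r : G}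
  {Q H P K A T : Subgroup G} {p p' : G → V} {φ : V → ZMod 2} {β : V →+ V →+ ZMod 2} {ν ν' : G → V →+ V}
  {u u' v w : V} {σ : W →+ V} {D : Set G}

theorem chX {X : Type*} [AddCommGroup X] [Finite X] (T : Subgroup G) (f : G → X)
    (hf : ∀ a ∈ T, ∀ b ∈ T, f (a * b) = f a + f b) : ∃ A ≤ T, #T ≤ Nat.card X * #A ∧ ∀ x ∈ A, f x = 0 := by
  let F : T →* Multiplicative X := MonoidHom.mk' (fun x => .ofAdd (f x)) fun a b => hf a a.2 b b.2
  refine ⟨F.ker.map T.subtype, map_subtype_le _, ?_, fun x ⟨y, hy, e⟩ => e ▸ hy⟩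
  rw [← F.ker.card_mul_index, index_ker, card_map_of_injective T.subtype_injective, mul_comm]
  exact Nat.mul_le_mul_right _ (card_le_card_group F.range)

namespace Fm
variable (F : Fm z Q H p φ β ν)
include F

theorem N_mul (ha : Commute a z) (hb : Commute b z) (h : ν a (ν b v + v) = ν b v + v) :
    ν (a * b) v + v = ν a v + v + (ν b v + v) := by
  rw [F.nu_mul ha hb, ← h, map_add, add_comm (ν a (ν b v)) (ν a v), add_add_add_comm, F.h2, zero_add, add_comm]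

theorem perp_fix (hb : Commute b z) (h : ν b w = w) (v : V) : β w (ν b v + v) = 0 := by
  rw [map_add]; nth_rw 1 [← h]; rw [F.nu_beta hb, z2_add]

theorem halfH (h : T ≤ C1[z]) : #T ≤ 2 * #(T ⊓ H : Subgroup G) :=
  half fun _ ha _ hb => F.two (mem_cent1.1 (h ha)) (mem_cent1.1 (h hb))

variable (ht : Commute t z) (tt : t * t = 1)
include ht tt

theorem inW (h : ∀ k, ν t k = k → β w k = 0) : ∃ v, w = ν t v + v := by
  obtain ⟨x, hx, rfl⟩ := F.surj w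
  have := (F.es.dperp (A := F.pre (ν t + AddMonoidHom.id V).range) (fun _ h => h.1) ⟨F.es.zQ, F.pz ▸ zero_mem _⟩).le
    (show x ∈ _ from ⟨hx, fun y hy => ((F.comm hx hy.1).1 (h _ (F.of_perp ht tt fun v => by
      obtain ⟨w, hw, e⟩ := F.surj (ν t v + v)
      rw [← e, F.comm hy.1 hw]
      exact (hy.2 w ⟨hw, v, e.symm⟩).symm))).symm⟩)
  exact this.2.imp fun _ h => h.symm

theorem kerN (hr : r ∈ Q) (e : ν t (p r) = p r) (n : ¬ Commute t r) (h : ν t v = v) :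
    ∃ a ∈ Q, Commute a t ∧ (v = p a ∨ v = p a + p r) := by
  obtain ⟨x, hx, rfl⟩ := F.surj v
  by_cases c : Commute t x
  · exact ⟨x, hx, c.symm, .inl rfl⟩
  refine ⟨x * r, mul_mem hx hr, cj_eq_iff_comm.1 ?_, .inr (by rw [F.add hx hr, add_assoc, F.h2, add_zero])⟩
  rw [show x * r * t * (x * r)⁻¹ = x * (r * t * r⁻¹) * x⁻¹ by group, F.tz_of ht tt hr e n, ← conj_mul,
    F.tz_of ht tt hx h c, cj_eq_iff_comm.2 (F.Qz hx), mul_assoc, F.zz, mul_one]

theorem inW' (hr : r ∈ Q) (e : ν t (p r) = p r) (n : ¬ Commute t r) (h : ∀ a ∈ Q, Commute a t → β w (p a) = 0)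
    (h' : β w (p r) = 0) : ∃ v, w = ν t v + v := F.inW ht tt fun k hk => by
  obtain ⟨a, ha, c, rfl | rfl⟩ := F.kerN ht tt hr e n hk <;> simp [h a ha c, h']

theorem L64 (R : Rk ν t) : 64 ≤ #(Q ⊓ C1[t] : Subgroup G) := by
  obtain ⟨a, b, h⟩ := R
  refine F.card64 ht tt (X := Fin 4) (by simp) ![0, ν t a + a, ν t b + b, ν t a + a + (ν t b + b)] fun v => ?_
  rcases h v with e | e | e | e
  exacts [⟨0, e⟩, ⟨1, e⟩, ⟨2, e⟩, ⟨3, e⟩]

omit ht tt in
theorem span (R : Rk ν t) : ∃ a b, ∀ w, (∀ k, ν t k = k → β k w = 0) → β a w = 0 → β b w = 0 → w = 0 := by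
  obtain ⟨a, b, h⟩ := R
  refine ⟨a, b, fun w k ha hb => F.nd w fun v => ?_⟩
  have m : ∀ x, ν t v + v = ν t x + x → β x w = 0 → β w v = 0 := fun x e hx => by
    have := k (v + x) (eq_of_add F.h2 (by rw [map_add, add_add_add_comm, e, F.h2]))
    rwa [map_add, AddMonoidHom.add_apply, hx, add_zero, F.symm] at this
  rcases h v with e | e | e | e
  exacts [m 0 (by simpa using e) (by simp), m a e ha, m b e hb,
    m (a + b) (by rw [e, map_add, add_add_add_comm]) (by simp [ha, hb])]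

theorem cnt8 (R : Rk ν t) (hT : T ≤ C1[z]) (h : ∀ b ∈ T, ∀ k, ν t k = k → ν b k = k) :
    ∃ A ≤ T, #T ≤ 8 * #A ∧ A ≤ Q := by
  obtain ⟨x, y, k⟩ := F.span R
  have c := fun b hb => mem_cent1.1 (hT (x := b) hb)
  have m : ∀ a ∈ T, ∀ b ∈ T, ∀ v, ν (a * b) v + v = ν a v + v + (ν b v + v) := fun a ha b hb v =>
    F.N_mul (c a ha) (c b hb) (h a ha _ (F.of_perp ht tt fun w => by
      rw [F.symm, F.perp_fix (c b hb) (h b hb _ (F.fixN ht tt w))]))
  obtain ⟨A, h1, h2, h3⟩ := chX T (fun b => (β x (ν b x + x), β y (ν b x + x), β y (ν b y + y))) fun a ha b hb => by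
    simp only [m a ha b hb, map_add (β _) (_ + _), Prod.mk_add_mk]
  refine ⟨A, h1, by simpa using h2, fun b hb => F.ker (c b (h1 hb)) fun v => eq_of_add F.h2 ?_⟩
  obtain ⟨e1, e2, e3⟩ : β x (ν b x + x) = 0 ∧ β y (ν b x + x) = 0 ∧ β y (ν b y + y) = 0 := by
    simpa only [Prod.mk_eq_zero] using h3 b hb
  have s := fun v => k (ν b v + v) fun w hw => F.perp_fix (c b (h1 hb)) (h b (h1 hb) w hw) v
  have f1 := F.perp_fix (c b (h1 hb)) (eq_of_add F.h2 (s x e1 e2))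
  exact s v (f1 v) (F.perp_fix (c b (h1 hb)) (eq_of_add F.h2 (s y (f1 y) e3)) v)

end Fm

namespace PD
variable (Z : PD D z t Q P) (F : Fm z Q H p φ β ν) (hr : r ∈ Q) (e : ν t (p r) = p r) (n : ¬ Commute t r)
include Z F hr e n

theorem y1 (hy : y ∈ Q) (hy' : y ∈ P) (h : β (p y) (p r) = 0) : y = 1 :=
  let ⟨_, k⟩ := F.inW' Z.c Z.tt hr e n (fun _ ha c => (F.comm hy ha).2 (Z.k1 hy hy' ha c).symm) h
  Z.k3 F (Z.tzD F hr e n) hy hy' k

theorem Lr (R : Rk ν t) (hT : T ≤ P ⊓ C1[z]) (h : ∀ b ∈ T, ν b (p r) = p r) : ∃ A ≤ T, #T ≤ 8 * #A ∧ A ≤ Q := by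
  refine F.cnt8 Z.c Z.tt R (hT.trans inf_le_right) fun b hb k hk => ?_
  have c := mem_cent1.1 (hT hb).2
  obtain ⟨a, ha, ca, k⟩ := F.kerN Z.c Z.tt hr e n hk
  obtain ⟨y, hy, hy', f⟩ := Z.act_B F ha ca (hT hb).1 c
  rw [Z.y1 F hr e n hy hy' (by rw [f, F.symm, F.perp_fix c (h b hb)]), F.p1] at f
  rcases k with rfl | rfl <;> simp [eq_of_add F.h2 f.symm, h b hb]

theorem L3 (R : Rk ν t) (h64 : 64 ≤ #(P ⊓ C1[z] : Subgroup G)) (hv : p r = ν t v + v) : False := by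
  have Y : ∀ y ∈ Q, y ∈ P → y = 1 := fun y hy hy' => Z.y1 F hr e n hy hy' (by
    rw [hv, ← F.adj Z.c Z.tt, F.nu_fix Z.c hy (Z.hP.zc y hy').symm, F.h2]; simp)
  have w : ∀ b ∈ P ⊓ C1[z], ν b (p r) = ν t (ν b v) + ν b v := fun b hb => by
    have c := mem_cent1.1 hb.2
    rw [hv, map_add, ← F.nu_mul c Z.c, (Z.hP.zc b hb.1).eq, F.nu_mul Z.c c]
  have pk : ∀ b ∈ P ⊓ C1[z], ∀ k, ν t k = k → β k (ν b (p r)) = 0 := fun b hb k hk => by
    rw [w b hb, ← F.adj Z.c Z.tt, hk, F.h2]; simp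
  obtain ⟨x, y, k⟩ := F.span R
  obtain ⟨A, h1, h2, h3⟩ := chX (P ⊓ C1[z]) (fun b => (β x (ν b (p r) + p r), β y (ν b (p r) + p r))) fun a ha b hb => by
    obtain ⟨s, hs, f⟩ := F.surj (ν b (p r) + p r)
    have cs := F.cen_N Z.c Z.tt (v := ν b v + v) hs (by rw [f, w b hb, hv, map_add, add_add_add_comm])
      (by rw [f, F.pol, F.nu_phi (mem_cent1.1 hb.2), z2_add, F.symm, pk b hb _ e, add_zero])
    obtain ⟨y, hy, hy', f'⟩ := Z.act_B F hs cs.symm ha.1 (mem_cent1.1 ha.2)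
    rw [Y y hy hy', F.p1, f] at f'
    rw [F.N_mul (mem_cent1.1 ha.2) (mem_cent1.1 hb.2) (eq_of_add F.h2 f'.symm)]
    simp only [map_add (β _) (_ + _), Prod.mk_add_mk]
  obtain ⟨A', h4, h5, h6⟩ := Z.Lr F hr e n R h1 fun b hb => eq_of_add F.h2 (k _ (fun k hk => by
    rw [map_add, pk b (h1 hb) k hk, zero_add, ← F.nu_Q Q.one_mem (p r), pk 1 (one_mem _) k hk])
    (congrArg Prod.fst (h3 b hb)) (congrArg Prod.snd (h3 b hb)))
  rw [show A' = ⊥ from eq_bot_iff.2 fun y hy => Y y (h6 hy) (h1 (h4 hy)).1, card_bot] at h5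
  simp only [Nat.card_prod, Nat.card_zmod] at h2
  omega

end PD

namespace Md
variable (M : Md z Q H p φ β ν u u' σ) (M' : Md t P K p' φ β ν' u u' σ)
include M

theorem L1 (Z : PD D z t Q P) (ht : t ∈ H) (h64 : 64 ≤ #(P ⊓ C1[z] : Subgroup G)) (hr : r ∈ Q) (hU : InU u u' (p r)) :
    Commute t r := by
  by_contra n
  have F := M.F
  have e := M.hU ht hU
  have h0 := F.halfH (inf_le_right : P ⊓ C1[z] ≤ _)
  obtain ⟨A, h1, h2, h3⟩ := Z.Lr F hr e n (M.rank ht Z.tt) (T := P ⊓ C1[z] ⊓ H) inf_le_left fun b hb => M.hU hb.2 hU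
  obtain ⟨A', h4, h5, h6⟩ := chX A (fun y => β (p y) (p r)) fun a ha b hb => by simp [F.add (h3 ha) (h3 hb)]
  rw [show A' = ⊥ from eq_bot_iff.2 fun y hy => Z.y1 F hr e n (h3 (h4 hy)) (h1 (h4 hy)).1.1 (h6 y hy), card_bot,
    Nat.card_zmod] at h5
  omega

include M'

theorem LH (Z : PD D z t Q P) (R : Rk ν t) : z ∈ K := by
  obtain ⟨a, ha, b, hb, h1, h2, h3⟩ := M.F.nab64 Z.c Z.tt (M.F.L64 Z.c Z.tt R)
  have := M'.F.comm_H h1 h2
  rwa [M.F.es.conj_of_not ha hb h3, (M.F.Qz hb).eq, mul_inv_cancel_right] at this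

theorem caseH (Z : PD D z t Q P) (ht : t ∈ H) : False := by
  have F := M.F
  have R := M.rank ht Z.tt
  have hz := M.LH M' Z R
  have h64 := M'.F.L64 Z.c.symm F.zz (M'.rank hz F.zz)
  have k : ∀ r ∈ P, InU u u' (p' r) → Commute r z ∧ ∀ a ∈ Q, Commute a t → ν r (p a) = p a := fun r hr hU => by
    have c := (M'.L1 Z.symm hz (F.L64 Z.c Z.tt R) hr hU).symm
    refine ⟨c, fun a ha ca => F.nu_fix c ha (cj_eq_iff_comm.1 (mul_inv_eq_one.1 ?_)).symm⟩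
    obtain ⟨h1, h2⟩ := Z.symm.k0 hr c ha ca
    have f := M'.F.nu_comm ca hr
    refine Z.symm.p_ne M'.F h1 h2 ?_
    rw [f, M'.fixU ca hU (f ▸ (M'.F.sq h1).2 (Z.ksq h2 h1)), F.h2]
  obtain ⟨r, hr, e⟩ := M'.F.surj u
  obtain ⟨s, hs, f⟩ := M'.F.surj u'
  have kr := k r hr (.inr (.inl e))
  have ks := k s hs (.inr (.inr (.inl f)))
  have hW : ∀ x ∈ Q, ∀ v, p x = ν t v + v → Commute t x := fun x hx v hv => by
    by_contra n
    exact Z.L3 F hx (hv ▸ F.fixN Z.c Z.tt v) n R h64 hv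
  have := Z.k5 hr hs (F.co (fun w => ∃ a ∈ Q, Commute a t ∧ p a = w) (fun w hw => ?_) kr.1 ks.1
    (by rintro _ ⟨a, ha, c, rfl⟩; exact kr.2 a ha c) (by rintro _ ⟨a, ha, c, rfl⟩; exact ks.2 a ha c))
  · rw [← M'.F.comm hr hs, e, f, M.hb] at this; cases this
  obtain ⟨x, hx, rfl⟩ := F.surj w
  refine ⟨x, hx, Commute.symm (by_contra fun n => ?_), rfl⟩
  obtain ⟨v, hv⟩ := F.inW' Z.c Z.tt hx (F.of_perp Z.c Z.tt fun v => by
    obtain ⟨y, hy, e⟩ := F.surj (ν t v + v)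
    exact hw _ ⟨y, hy, (hW y hy v e).symm, e⟩) n (fun a ha c => hw _ ⟨a, ha, c, rfl⟩) (F.alt _)
  exact n (hW x hx v hv)

theorem caseO (Z : PD D z t Q P) (hz : z ∉ K) : ∃ d ∈ D, d ∈ K ∧ d ≠ t := by
  have F := M.F
  have sq : ∀ a ∈ Q, Commute a t → a * a = 1 := fun a ha c => (F.es.sq a ha).resolve_right fun e => hz (e ▸ by
    by_cases k : a ∈ K
    exacts [mul_mem k k, M'.F.two c c k k])
  obtain ⟨v, hv⟩ := not_forall.1 fun h => hz (M.LH M' Z (M.rank' Z.c h))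
  obtain ⟨r, hr, e⟩ := F.surj (ν t v + v)
  have n : ¬ Commute t r := fun c => hv (e ▸ (F.sq hr).2 (sq r hr c.symm))
  have f : ν t (p r) = p r := e ▸ F.fixN Z.c Z.tt v
  have dD : ∀ a ∈ Q, Commute a t → t * a ∈ D := fun a ha c => by
    obtain ⟨w, hw⟩ := F.inW' Z.c Z.tt hr f n (w := p a) (fun b hb d => (F.comm ha hb).2 (by_contra fun k => hz (by
      have := M'.F.comm_H c d
      rwa [F.es.conj_of_not ha hb k, (F.Qz hb).eq, mul_inv_cancel_right] at this)))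
      (by rw [e, ← F.adj Z.c Z.tt, F.nu_fix Z.c ha c.symm, F.h2]; simp)
    exact Z.allD F (Z.tzD F hr f n) ha hw
  have h1 := F.card16 Z.c Z.tt
  have h2 := M'.F.halfH (inf_le_right : Q ⊓ C1[t] ≤ _)
  obtain ⟨⟨a, ha⟩, a1⟩ := (ne_bot_iff_exists_ne_one (H := Q ⊓ C1[t] ⊓ K)).1 fun e => by rw [e, card_bot] at h2; omega
  exact ⟨t * a, dD a ha.1.1 (mem_cent1.1 ha.1.2), mul_mem (M'.F.QH Z.hP.zQ) ha.2, fun e => a1 (Subtype.ext (by simpa using e))⟩

section A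
variable (ht : t ∈ Q) (hz : z ∈ P) (ne : t ≠ z)
include ht hz ne

theorem ysq (hy : y ∈ Q) (hy' : y ∈ P) : φ (p y) = 0 :=
  (M.F.sq hy).2 ((M.F.es.sq y hy).elim id fun e => (M'.F.es.sq y hy').resolve_right fun f => ne (f.symm.trans e))

theorem actB (hb : b ∈ P ⊓ C1[z]) (hv : β (p t) v = 0) : ∃ y ∈ Q, y ∈ P ∧ p y = ν b v + v := by
  obtain ⟨a, ha, rfl⟩ := M.F.surj v
  have c := mem_cent1.1 hb.2
  exact ⟨_, mul_mem (M.F.cjm c ha) (inv_mem ha), by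
    simpa [mul_assoc] using mul_mem hb.1 (M'.F.cjm ((M.F.comm ht ha).1 hv).symm (inv_mem hb.1)), M.F.nu_comm c ha⟩

theorem a1 : β u (p t) = 0 ∧ β u' (p t) = 0 := by
  by_contra n
  have F := M.F
  have h0 := F.halfH (inf_le_right : P ⊓ C1[z] ≤ _)
  have h1 := M'.F.cardB hz
  have h2 := F.ab32 (A := Q ⊓ P) inf_le_left ⟨F.es.zQ, hz⟩ fun a ha b hb => by
    have := F.pol (p a) (p b)
    rwa [← F.add ha.1 hb.1, M.ysq M' ht hz ne ha.1 ha.2, M.ysq M' ht hz ne hb.1 hb.2,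
      M.ysq M' ht hz ne (mul_mem ha.1 hb.1) (mul_mem ha.2 hb.2), zero_add, zero_add, eq_comm, F.comm ha.1 hb.1] at this
  have h3 : P ⊓ C1[z] ⊓ H ≤ Q ⊓ P := fun b hb => ⟨F.ker (F.Hz hb.2) fun v => ?_, hb.1.1⟩
  · have := card_le_of_le h3
    omega
  have k : ∀ v, β (p t) v = 0 → ν b v = v := fun v hv => by
    obtain ⟨y, hy, hy', e⟩ := M.actB M' ht hz ne hb.1 hv
    have y1 : β u (p y) = 0 := e ▸ F.perp_fix (F.Hz hb.2) (M.hu b hb.2).1 v
    have y2 : β u' (p y) = 0 := e ▸ F.perp_fix (F.Hz hb.2) (M.hu b hb.2).2 v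
    have := M'.F.es.perp1 hz hy' fun c hc cz => by_contra fun k => n (by
      have := F.nu_comm cz hy
      rw [M'.F.es.conj_of_not hc hy' k, (M'.F.Qz hy').eq, mul_inv_cancel_right] at this
      simp [this, y1, y2, M.c6 cz y1 y2])
    refine eq_of_add F.h2 (e ▸ ?_)
    rcases this with rfl | rfl | rfl | rfl
    exacts [F.p1, absurd ⟨y1, y2⟩ n, F.pz, absurd (by simpa [F.add F.es.zQ ht, F.pz] using And.intro y1 y2) n]
  rcases z2_cases (β (p t) v) with e | e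
  · exact k v e
  obtain ⟨c, hc, f⟩ : ∃ c, InU u u' c ∧ β (p t) c = 1 := (not_and_or.1 n).elim
    (fun h => ⟨u, .inr (.inl rfl), F.symm _ _ ▸ z2_ne h⟩) fun h => ⟨u', .inr (.inr (.inl rfl)), F.symm _ _ ▸ z2_ne h⟩
  have := k (v + c) (by rw [map_add, e, f]; rfl)
  rwa [map_add, M.hU hb.2 hc, add_left_inj] at this

theorem a2 (e : p t = σ e1) : False := by
  have F := M.F
  have n : p t ≠ 0 := fun h => SuzA.e1_ne (M.inj (e ▸ h))
  have Y : ∀ y ∈ Q, y ∈ P → ∃ c, InU u u' c ∧ (p y = c ∨ p y = σ e1 + c) := fun y hy hy' =>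
    M.g7 SuzA.Se1 (e ▸ (F.comm ht hy).2 (M'.F.Qz hy').symm) fun h hh k => by
      obtain ⟨q, hq, c⟩ := F.lift (F.Hz hh) ht n (by rw [e, k])
      have cz := (F.Qz hq).mul_left (F.Hz hh)
      rw [← F.nu_Q hq (ν h _), ← F.nu_mul (F.Qz hq) (F.Hz hh), ← F.nu_comm cz hy]
      exact M.ysq M' ht hz ne (mul_mem (F.cjm cz hy) (inv_mem hy)) (mul_mem (M'.F.cjm c hy') (inv_mem hy'))
  have c := fun b (hb : b ∈ P ⊓ C1[z]) => mem_cent1.1 hb.2
  have fU : ∀ b ∈ P ⊓ C1[z], ∀ v, InU u u' v → ν b v = v := fun b hb v hv => by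
    obtain ⟨y, hy, hy', f⟩ := M.actB M' ht hz ne hb (v := v) (by rw [e, F.symm, M.pU hv (M.sP _).1 (M.sP _).2])
    exact M.fixU (c b hb) hv (f ▸ M.ysq M' ht hz ne hy hy')
  have f1 : ∀ b ∈ P ⊓ C1[z], ν b (σ e1) = σ e1 := fun b hb => e ▸ F.nu_fix (c b hb) ht (M'.F.Qz hb.1)
  have u1 := fun b hb => F.perp_fix (c b hb) (fU b hb u (.inr (.inl rfl)))
  have u2 := fun b hb => F.perp_fix (c b hb) (fU b hb u' (.inr (.inr (.inl rfl))))
  have N : ∀ b ∈ P ⊓ C1[z], ∀ i < 6, i ≠ 2 → ν b (σ (cv (2 ^ i))) + σ (cv (2 ^ i)) = 0 ∨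
      ν b (σ (cv (2 ^ i))) + σ (cv (2 ^ i)) = σ e1 := fun b hb i hi i2 => by
    obtain ⟨y, hy, hy', f⟩ := M.actB M' ht hz ne hb (v := σ (cv (2 ^ i))) (by
      rw [e, M.sB, B0 (by decide) (SuzA.pow_lt6 hi)]; revert i; decide)
    obtain ⟨c, hc, k⟩ := Y y hy hy'
    have a := u1 b hb (σ (cv (2 ^ i)))
    have a' := u2 b hb (σ (cv (2 ^ i)))
    rw [← f] at a a' ⊢
    rcases k with k | k <;> rw [k] at a a' ⊢
    · exact .inl (M.U00 hc a a')
    · exact .inr (by rw [M.U00 hc (by simpa [M.sP] using a) (by simpa [M.sP] using a'), add_zero])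
  have w1 : β (σ (cv 4)) (σ e1) = 1 := by rw [M.sB, B1 (by decide) (by decide)]; rfl
  obtain ⟨A, h1, h2, h3⟩ := chX (P ⊓ C1[z]) (fun b (i : Fin 4) => β (σ (cv 4)) (ν b (σ (cv (2 ^ ![1, 3, 4, 5] i))) +
    σ (cv (2 ^ ![1, 3, 4, 5] i)))) fun a ha b hb => funext fun i => by
      rw [F.N_mul (c a ha) (c b hb), map_add (β _) (_ + _), Pi.add_apply]
      rcases N b hb (![1, 3, 4, 5] i) (by revert i; decide) (by revert i; decide) with k | k <;> simp [k, f1 a ha]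
  have h4 : A ≤ Q := fun b hb => by
    have hb' := h1 hb
    have k : ∀ i < 6, i ≠ 2 → ν b (σ (cv (2 ^ i))) = σ (cv (2 ^ i)) := fun i hi i2 => by
      obtain rfl | ⟨j, rfl⟩ : i = 0 ∨ ∃ j : Fin 4, ![1, 3, 4, 5] j = i := by revert i; decide
      · exact f1 b hb'
      refine eq_of_add F.h2 ((N b hb' _ hi i2).resolve_right fun k => ?_)
      have := congrFun (h3 b hb) j
      rw [k, w1] at this; cases this
    have k4 : ν b (σ (cv 4)) = σ (cv 4) := by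
      obtain ⟨w, hw⟩ := M.sO _ (u1 b hb' (σ (cv 4))) (u2 b hb' _)
      rcases perp5 (w := w) fun i hi i2 => by rw [← M.sB, hw, F.perp_fix (c b hb') (k i hi i2)] with rfl | rfl
      · exact eq_of_add F.h2 (by rw [← hw, map_zero])
      have : φ (ν b (σ (cv 4)) + σ (cv 4)) = β (σ (cv 4)) (ν b (σ (cv 4)) + σ (cv 4)) := by
        rw [F.pol, F.nu_phi (c b hb'), z2_add, zero_add, map_add, F.alt, add_zero, F.symm]
      rw [← hw, M.sS, SuzA.Se1, w1] at this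
      cases this
    refine F.ker (c b hb') (F.fixAll M.hb (fU b hb' u (.inr (.inl rfl))) (fU b hb' u' (.inr (.inr (.inl rfl))))
      fun x x1 x2 => ?_)
    obtain ⟨w, rfl⟩ := M.sO x x1 x2
    refine W_ind (P := fun w => ν b (σ w) = σ w) (by simp) (fun a b h k => by simp [h, k]) (fun i hi => ?_) w
    by_cases i2 : i = 2
    exacts [by subst i2; exact k4, k i hi i2]
  obtain ⟨A', h5, h6, h7⟩ := chX A (fun y => (β (σ (cv 4)) (p y), β u (p y))) fun a ha b hb => by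
    simp [F.add (h4 ha) (h4 hb)]
  have h8 : A' ≤ zpowers z := fun y hy => by
    have hy' := h4 (h5 hy)
    obtain ⟨c, hc, k⟩ := Y y hy' (h1 (h5 hy)).1
    have s := M.ysq M' ht hz ne hy' (h1 (h5 hy)).1
    obtain ⟨k1, k2⟩ := Prod.mk_eq_zero.1 (h7 y hy)
    refine (mem_zp F.es.z2).2 ((F.p0 hy').1 ?_)
    rcases k with k | k <;> rw [k] at s k1 k2 ⊢
    · exact (M.U0 hc k2).resolve_right fun e => by rw [e, M.fu] at s; cases s
    · rw [map_add, w1, F.symm, M.pU hc (M.sP _).1 (M.sP _).2] at k1; cases k1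
  have h9 := card_le_of_le h8
  have h10 := M'.F.cardB hz
  rw [Nat.card_zpowers, F.es.z2] at h9
  rw [show Nat.card (Fin 4 → ZMod 2) = 16 by simp] at h2
  rw [show Nat.card (ZMod 2 × ZMod 2) = 4 by simp] at h6
  omega

end A

omit M' in
theorem caseA (ht : g * z * g⁻¹ ∈ Q) : g * z * g⁻¹ = z := by
  by_contra ne
  have F := M.F
  have h8 : 8 < #Q := by rw [F.cardQ]; decide
  obtain ⟨h1, h2⟩ := M.a1 (M.conj g) ht (F.le.sym h8 ht) ne
  obtain ⟨s, e⟩ := M.sO _ h1 h2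
  obtain ⟨k, hk, f⟩ := SuzA.exists_move (p := s) (by rw [← M.sS, e, F.sq ht, (F.le.conj g).zz]) fun k =>
    ((F.p0 ht).1 (by rw [← e, k, map_zero])).elim (F.le.conj g).z1 ne
  obtain ⟨h, hh, d⟩ := M.up k hk
  have c := F.Hz hh
  have i : h * g * z * (h * g)⁻¹ = h * (g * z * g⁻¹) * h⁻¹ := by group
  have ht' : h * g * z * (h * g)⁻¹ ∈ Q := i ▸ F.cjm c ht
  exact M.a2 (M.conj (h * g)) ht' (F.le.sym h8 ht') (fun k => ne (by
    rwa [i, ← cj_eq_iff_comm.2 c, conj_inj, cj_eq_iff_comm.2 c] at k)) (by rw [i, F.act c ht, ← e, d, f])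

omit M' in
theorem pd (c : Commute (g * z * g⁻¹) z) (ne : g * z * g⁻¹ ≠ z) : PD {x | IsConj z x} z (g * z * g⁻¹) Q (cj g Q) := by
  refine ⟨fun k d hd => hd.trans (isConj_iff.2 ⟨k, rfl⟩), IsConj.refl z, isConj_iff.2 ⟨g, rfl⟩, M.F.le, M.F.le.conj g, c,
    fun d hd h => ?_, fun d hd h => ?_, ne⟩ <;> obtain ⟨k, rfl⟩ := isConj_iff.1 hd
  · exact M.caseA h
  · have := M.caseA (g := g⁻¹ * k) (by simpa [mul_assoc] using mem_cj.1 h)
    rw [← conj_inj g⁻¹]; simpa [mul_assoc] using this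

omit M' in
theorem main (t : G) (h : IsConj z t) (c : Commute t z) : t = z := by
  obtain ⟨g, rfl⟩ := isConj_iff.1 h
  by_contra ne
  have Z := M.pd c ne
  by_cases hz : z ∈ cj g H
  · exact (M.conj g).caseH M Z.symm hz
  obtain ⟨d, hd, h1, h2⟩ := M.caseO (M.conj g) Z hz
  obtain ⟨k, rfl⟩ := isConj_iff.1 (h.symm.trans hd)
  exact (M.conj g).caseH ((M.conj g).conj k) ((M.conj g).pd ((M.conj g).F.Hz h1) h2) h1

end Md

theorem nonnat (F : Fm z Q H p φ β ν) (hc : #H = 2 ^ 9 * 25920) (hb : β u u' = 1)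
    (hu : ∀ h ∈ H, ν h u = u ∧ ν h u' = u') : ∀ t, IsConj z t → Commute t z → t = z := by
  rcases z2_cases (φ u) with e | e
  swap
  · exact (exists_Md F hc hb e hu).elim fun _ M => M.main
  rcases z2_cases (φ u') with f | f
  · exact (exists_Md F hc (u := u + u') (u' := u') (by simp [hb, F.alt]) (by rw [F.pol, e, f, hb]; rfl)
      fun h hh => by simp [hu h hh]).elim fun _ M => M.main
  · exact (exists_Md F hc (F.symm u u' ▸ hb) f fun h hh => (hu h hh).symm).elim fun _ M => M.main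

end Cfsg.Agent.U6R
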