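import Cfsg.Agent.U6R.Cnt
import Cfsg.Agent.SuzR.A0

/-! Frames whose group `H` fixes a hyperbolic pair `u`, `u'` (helper20): the model `Md` of `⟨u, u'⟩^⊥` as
`O⁻(6,2)` with `H / Q = Ω⁻(6,2)` (`exists_Md`), ranks of involutions (`Md.rank`, `Md.rank'`), `Md.g7`. -/

set_option autoImplicit false
set_option linter.unusedSectionVars false
set_option maxRecDepth 100000
set_option synthInstance.maxSize 4096

namespace Cfsg.Agent.U6R

open Cfsg.Agent.Fischer Cfsg.Agent.FI Subgroup Cfsg.Agent.BG Cfsg.Agent.LES Cfsg.Agent.PGrp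
open Cfsg.Agent.Geom Cfsg.Agent.Geom.Formed Module
open SuzA (W S O6 Om B cv qN bN e1 cv_surj S0 S1 B0 B1 cv_zero cv_xor W_add)

theorem cv0 {n : ℕ} (e : n = 0) : cv n = 0 := e ▸ cv_zero

theorem g7 {s y : W} (hs : S s = 0) (h : B s y = 0) (h0 : y ≠ 0) (h1 : y ≠ s) :
    ∃ g ∈ Om, g.1 s = s ∧ S (g.1 y + y) = 1 := by
  obtain ⟨n, hn, rfl⟩ := cv_surj s
  obtain ⟨m, hm, rfl⟩ := cv_surj y
  have : ∀ n < 64, qN n = 0 → (∀ m < 64, bN n m = 0 → m ≠ 0 → m ≠ n → ∃ c < 64, qN c = 0 ∧ bN c n = 0 ∧ bN c m = 1) ∧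
    ∀ c < 64, bN c n = 0 → ∃ a < 64, qN a = 1 ∧ bN c a = 0 ∧ bN a n = 0 := by decide +kernel
  obtain ⟨k1, k2⟩ := this n hn ((S0 hn).1 hs)
  obtain ⟨c, hc, c1, c2, c3⟩ := k1 m hm ((B0 hn hm).1 h) (by rintro rfl; exact h0 cv_zero) (by rintro rfl; exact h1 rfl)
  obtain ⟨a, ha, a1, a2, a3⟩ := k2 c hc c2
  rw [← S0 hc] at c1; rw [← S1 ha] at a1; rw [← B1 hc hm] at c3
  rw [← B0 (by assumption) (by assumption)] at c2 a2 a3
  refine ⟨eich S (cv c) (cv a), eich_mem_commutator SuzA.nd SuzA.nex _ _, by rw [SuzA.eich_ap c1 a2, a3, c2]; simp, ?_⟩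
  rw [SuzA.eich_ap c1 a2, c3, one_smul, add_comm, ← add_assoc, ← add_assoc, W_add, zero_add, add_comm,
    quad_add_smul_of_perp c1 a2, a1]

theorem ts4 {a b c : W} (ha : S a = 0) (hb : S b = 0) (hc : S c = 0) (h1 : B a b = 0) (h2 : B a c = 0) (h3 : B b c = 0) :
    a = 0 ∨ (b = 0 ∨ b = a) ∨ c = 0 ∨ c = a ∨ c = b ∨ c = a + b := by
  obtain ⟨n, hn, rfl⟩ := cv_surj a
  obtain ⟨m, hm, rfl⟩ := cv_surj b
  obtain ⟨k, hk, rfl⟩ := cv_surj c
  have : ∀ n < 64, qN n = 0 → ∀ m < 64, qN m = 0 ∧ bN n m = 0 → ∀ k < 64, qN k = 0 ∧ bN n k = 0 ∧ bN m k = 0 →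
    n = 0 ∨ (m = 0 ∨ m = n) ∨ k = 0 ∨ k = n ∨ k = m ∨ k = Nat.xor n m := by decide +kernel
  exact (this n hn ((S0 hn).1 ha) m hm ⟨(S0 hm).1 hb, (B0 hn hm).1 h1⟩ k hk ⟨(S0 hk).1 hc, (B0 hn hk).1 h2,
    (B0 hm hk).1 h3⟩).imp cv0 (Or.imp (Or.imp cv0 (congrArg cv)) (Or.imp cv0 (Or.imp (congrArg cv) (Or.imp (congrArg cv)
      fun e => (congrArg cv e).trans (cv_xor _ _)))))

theorem W_ind {P : W → Prop} (h0 : P 0) (add : ∀ a b, P a → P b → P (a + b)) (h : ∀ i < 6, P (cv (2 ^ i))) (w : W) :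
    P w := by
  rw [← Finset.univ_sum_single w]
  refine Finset.sum_induction _ P add h0 fun i _ => ?_
  obtain ⟨j, hj, e⟩ := (by decide +kernel : ∀ i, ∃ j < 6, Pi.single i 1 = cv (2 ^ j)) i
  rcases SuzA.z2 (w i) with k | k <;> rw [k]
  exacts [by simpa using h0, e ▸ h j hj]

theorem perp5 {w : W} (h : ∀ i < 6, i ≠ 2 → B (cv (2 ^ i)) w = 0) : w = 0 ∨ w = e1 := by
  obtain ⟨n, hn, rfl⟩ := cv_surj w
  have : ∀ n < 64, (∀ i < 6, i ≠ 2 → bN (2 ^ i) n = 0) → n = 0 ∨ n = 1 := by decide +kernel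
  exact (this n hn fun i hi k => (B0 (SuzA.pow_lt6 hi) hn).1 (h i hi k)).imp cv0 (congrArg cv)

theorem two_gen {X : Type*} [AddCommGroup X] (N : X →+ X)
    (h : ∀ a b c, N a = 0 ∨ (N b = 0 ∨ N b = N a) ∨ N c = 0 ∨ N c = N a ∨ N c = N b ∨ N c = N a + N b) :
    ∃ a b, ∀ c, N c = 0 ∨ N c = N a ∨ N c = N b ∨ N c = N a + N b := by
  by_cases h1 : ∀ a, N a = 0
  · exact ⟨0, 0, fun c => .inl (h1 c)⟩
  obtain ⟨a, ha⟩ := not_forall.1 h1
  by_cases h2 : ∀ b, N b = 0 ∨ N b = N a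
  · exact ⟨a, a, fun c => (h2 c).imp_right .inl⟩
  obtain ⟨b, hb⟩ := not_forall.1 h2
  exact ⟨a, b, fun c => ((h a b c).resolve_left ha).resolve_left hb⟩

theorem rk2 {g : O6} (hg : g ∈ Om) (h : ∀ w, g.1 (g.1 w) = w) (a b c : W) : g.1 a + a = 0 ∨ (g.1 b + b = 0 ∨
    g.1 b + b = g.1 a + a) ∨ g.1 c + c = 0 ∨ g.1 c + c = g.1 a + a ∨ g.1 c + c = g.1 b + b ∨
      g.1 c + c = g.1 a + a + (g.1 b + b) := by
  classical
  have e := finrank_mov_add g.1
  have l : finrank (ZMod 2) (mov g.1) ≤ finrank (ZMod 2) (fixS g.1) := Submodule.finrank_mono (by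
    rintro _ ⟨x, rfl⟩
    exact mem_fixS.2 (by show g.1 (x - g.1 x) = x - g.1 x; rw [map_sub, h, SuzA.W_sub, SuzA.W_sub, add_comm]))
  obtain ⟨r, hr⟩ := dick_eq_one_iff.1 (SuzA.mem_Om.1 hg)
  have c4 : Nat.card (mov g.1) ≤ 4 := by
    rw [Module.natCard_eq_pow_finrank (K := ZMod 2), Nat.card_zmod]
    rw [SuzA.rk] at e
    exact Nat.pow_le_pow_right (by decide) (show _ ≤ 2 by omega)
  have m : ∀ x, g.1 x + x ∈ mov g.1 := fun x => ⟨x, by rw [add_comm, ← SuzA.W_sub]; rfl⟩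
  have ma := m a; have mb := m b; have mc := m c
  generalize g.1 a + a = x at *; generalize g.1 b + b = y at *; generalize g.1 c + c = w at *
  by_contra n
  simp only [not_or] at n
  obtain ⟨n1, ⟨n2, n3⟩, n4, n5, n6, n7⟩ := n
  have n8 : x + y ≠ 0 := fun k => n3 (eq_of_add W_add k).symm
  have : ({0, x, y, x + y, w} : Finset W).card ≤ 4 := by
    refine le_trans ?_ c4
    rw [← Set.ncard_coe_finset, ← SetLike.coe_sort_coe, Nat.card_coe_set_eq]
    refine Set.ncard_le_ncard fun v hv => ?_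
    simp only [Finset.coe_insert, Finset.coe_singleton, Set.mem_insert_iff, Set.mem_singleton_iff] at hv
    rcases hv with rfl | rfl | rfl | rfl | rfl
    exacts [zero_mem _, ma, mb, add_mem ma mb, mc]
  rw [Finset.card_insert_of_notMem, Finset.card_insert_of_notMem, Finset.card_insert_of_notMem, Finset.card_pair] at this
  · omega
  all_goals simp [*, Ne.symm n1, Ne.symm n2, Ne.symm n3, Ne.symm n4, Ne.symm n5, Ne.symm n6, Ne.symm n7, Ne.symm n8]

variable {G : Type*} [Group G] [Finite G] {V : Type*} [AddCommGroup V] [Finite V] {z t x y a b c g h : G}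
  {Q H P K A : Subgroup G} {p : G → V} {φ : V → ZMod 2} {β : V →+ V →+ ZMod 2} {ν : G → V →+ V} {u u' v w : V}
  {σ : W →+ V}

/-- A frame in which `H` fixes `u`, `u'` and acts on their orthogonal complement as `Ω⁻(6,2)`. -/
structure Md (z : G) (Q H : Subgroup G) (p : G → V) (φ : V → ZMod 2) (β : V →+ V →+ ZMod 2) (ν : G → V →+ V)
    (u u' : V) (σ : W →+ V) : Prop where
  F : Fm z Q H p φ β ν
  hb : β u u' = 1
  fu : φ u = 1
  hu : ∀ h ∈ H, ν h u = u ∧ ν h u' = u'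
  sS : ∀ w, φ (σ w) = S w
  sP : ∀ w, β u (σ w) = 0 ∧ β u' (σ w) = 0
  sO : ∀ x, β u x = 0 → β u' x = 0 → ∃ w, σ w = x
  up : ∀ g ∈ Om, ∃ h ∈ H, ∀ w, ν h (σ w) = σ (g.1 w)
  dn : ∀ h ∈ H, ∃ g ∈ Om, ∀ w, ν h (σ w) = σ (g.1 w)

/-- The plane spanned by `u`, `u'`. -/
def InU (u u' x : V) : Prop := x = 0 ∨ x = u ∨ x = u' ∨ x = u + u'

theorem Fm.dec (F : Fm z Q H p φ β ν) (hb : β u u' = 1) (x : V) :
    ∃ c, InU u u' c ∧ β u (x + c) = 0 ∧ β u' (x + c) = 0 := by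
  have h1 := F.symm u' u ▸ hb
  rcases z2_cases (β u x) with e | e <;> rcases z2_cases (β u' x) with f | f
  exacts [⟨0, .inl rfl, by simp [e], by simp [f]⟩, ⟨u, .inr (.inl rfl), by simp [e, F.alt], by simp [f, h1, z2_add]⟩,
    ⟨u', .inr (.inr (.inl rfl)), by simp [e, hb, z2_add], by simp [f, F.alt]⟩,
    ⟨u + u', .inr (.inr (.inr rfl)), by simp [e, hb, F.alt, z2_add], by simp [f, h1, F.alt, z2_add]⟩]

theorem Fm.fixAll (F : Fm z Q H p φ β ν) (hb : β u u' = 1) (h1 : ν h u = u) (h2 : ν h u' = u')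
    (h3 : ∀ x, β u x = 0 → β u' x = 0 → ν h x = x) (x : V) : ν h x = x := by
  obtain ⟨c, hc, k1, k2⟩ := F.dec hb x
  have := h3 _ k1 k2
  have e : ν h c = c := by rcases hc with rfl | rfl | rfl | rfl <;> simp [h1, h2]
  rwa [map_add, e, add_left_inj] at this

theorem exists_Md (F : Fm z Q H p φ β ν) (hc : #H = 2 ^ 9 * 25920) (hb : β u u' = 1) (fu : φ u = 1)
    (hu : ∀ h ∈ H, ν h u = u ∧ ν h u' = u') : ∃ σ, Md z Q H p φ β ν u u' σ := by
  letI : Module (ZMod 2) V := AddCommGroup.zmodModule fun x => (two_nsmul x).trans (F.h2 x)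
  let π : V →+ ZMod 2 × ZMod 2 := (β u).prod (β u')
  let U : Submodule (ZMod 2) V := AddSubgroup.toZModSubmodule 2 π.ker
  have mU : ∀ {x}, x ∈ U ↔ β u x = 0 ∧ β u' x = 0 := Prod.ext_iff
  let q : QuadraticForm (ZMod 2) U :=
    ⟨fun x => φ x, fun a x => by rcases z2_cases a with rfl | rfl <;> simp [F.phi0],
      LinearMap.mk₂ _ (fun x y => β x y) (by simp) (fun a x y => by rcases z2_cases a with rfl | rfl <;> simp) (by simp)
        (fun a x y => by rcases z2_cases a with rfl | rfl <;> simp), fun x y => F.pol x y⟩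
  have pq : ∀ x y : U, QuadraticMap.polar q x y = β x y := fun x y => by
    show φ (x + y) - φ x - φ y = _
    rw [F.pol]; ring
  have nd' : (ofQuad q).Nondeg := fun x hx => Subtype.ext (F.nd _ fun v => by
    obtain ⟨c, hc, k⟩ := F.dec hb v
    have e : β x (v + c) = 0 := (pq x ⟨_, mU.2 k⟩).symm.trans (hx _)
    have e' : β x c = 0 := by
      have := mU.1 x.2
      rcases hc with rfl | rfl | rfl | rfl <;> simp [F.symm x.1, this]
    rwa [map_add, e', add_zero] at e)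
  have rk' : finrank (ZMod 2) U = 6 := by
    have e := π.ker.card_mul_index
    have r : π.range = ⊤ := AddMonoidHom.range_eq_top.2 fun ⟨a, b⟩ => ⟨b • u + a • u', by
      rcases z2_cases a with rfl | rfl <;> rcases z2_cases b with rfl | rfl <;>
        simp [π, F.alt, hb, F.symm u' u]⟩
    rw [AddSubgroup.index_ker, r, F.card, AddSubgroup.card_top, Nat.card_prod, Nat.card_zmod] at e
    have f := Module.natCard_eq_pow_finrank (K := ZMod 2) (V := U)
    rw [show Nat.card U = 64 by change Nat.card π.ker = _; omega, Nat.card_zmod] at f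
    exact (Nat.pow_right_injective (le_refl 2) f).symm
  have ex : ∀ g : H, ∃ a : OG q, ∀ x, (a.1 x).1 = ν g x := fun g => by
    have hg := F.Hz g.2
    have k := hu g g.2
    let f : U →ₗ[ZMod 2] U := ((ν g).toZModLinearMap 2).restrict fun x hx => mU.2 (by
      have := mU.1 hx
      rw [← F.nu_beta hg, ← F.nu_beta hg u', k.1, k.2] at this; exact this)
    have i : Function.Injective f := fun x y e => Subtype.ext (by
      rw [← F.nu_inv hg x, ← F.nu_inv hg y]; exact congrArg _ (congrArg Subtype.val e))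
    exact ⟨⟨.ofInjectiveEndo f i, mem_isom_ofQuad.2 fun v => F.nu_phi hg v⟩, fun _ => rfl⟩
  choose μ hμ using ex
  let ν' : H →* OG q := MonoidHom.mk' μ fun a b => OG.ext fun v => Subtype.ext (by
    rw [OG.mul_apply, hμ, hμ, hμ, coe_mul, F.nu_mul (F.Hz a.2) (F.Hz b.2)])
  have ker : ∀ g, ν' g = 1 ↔ g.1 ∈ Q := fun g => ⟨fun e => F.ker (F.Hz g.2) (F.fixAll hb (hu g g.2).1 (hu g g.2).2
    fun x h1 h2 => (hμ g ⟨x, mU.2 ⟨h1, h2⟩⟩).symm.trans (by rw [show μ g = 1 from e]; rfl)),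
    fun hg => OG.ext fun v => Subtype.ext ((hμ g v).trans (F.nu_Q hg v))⟩
  have cr : #ν'.range = 25920 := by
    have := ν'.ker.card_mul_index
    rw [index_ker, show ν'.ker = Q.subgroupOf H from Subgroup.ext ker,
      Nat.card_congr (subgroupOfEquivOfLe F.QH).toEquiv, F.cardQ, hc] at this
    omega
  have wi : (ofQuad q).WittIndex 2 := (wittIndex_even nd' (m := 2) rk').resolve_left fun k => by
    have := card_subgroup_dvd_card ν'.range
    rw [cr, card_isom_plus 2 nd' k rk', Nat.card_zmod] at this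
    revert this; decide
  obtain ⟨e, he⟩ := exists_isIso_minus nd' (m := 2) rk' wi SuzA.anis
  let μ' : H →* O6 := he.isomCongr.toMonoidHom.comp ν'
  have cr' : #μ'.range = 25920 := by rw [MonoidHom.range_comp, card_map_of_injective he.isomCongr.injective, cr]
  have rg : μ'.range = Om := by
    refine (eq_of_le_of_card_ge ?_ (by rw [SuzA.card_Om, cr'])).symm
    have c := μ'.range.card_mul_index
    rw [cr', SuzA.card_O6] at c
    have i2 : μ'.range.index = 2 := by omega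
    have := normal_of_index_eq_two i2
    refine Subgroup.Normal.quotient_commutative_iff_commutator_le.1 ?_
    have : Fact (Nat.Prime 2) := ⟨Nat.prime_two⟩
    have := isCyclic_of_prime_card (p := 2) (α := O6 ⧸ μ'.range) i2
    exact IsCyclic.isMulCommutative
  have act : ∀ (g : H) w, ν g (e.symm w).1 = (e.symm ((μ' g).1 w)).1 := fun g w => by
    show _ = (e.symm (e ((μ g).1 (e.symm w)))).1
    rw [e.symm_apply_apply, hμ]
  refine ⟨U.subtype.toAddMonoidHom.comp e.symm.toLinearMap.toAddMonoidHom, F, hb, fu, hu, fun w => ?_,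
    fun w => mU.1 (e.symm w).2, fun x h1 h2 => ⟨e ⟨x, mU.2 ⟨h1, h2⟩⟩, by simp⟩, fun g hg => ?_,
    fun h hh => ⟨μ' ⟨h, hh⟩, rg ▸ ⟨_, rfl⟩, act ⟨h, hh⟩⟩⟩
  · have := he.2 (e.symm w)
    rw [e.apply_symm_apply] at this; exact this.symm
  · obtain ⟨h, rfl⟩ : g ∈ μ'.range := rg ▸ hg
    exact ⟨h, h.2, act h⟩

/-- The commutator space of `t` is spanned by two vectors. -/
def Rk (ν : G → V →+ V) (t : G) : Prop := ∃ a b, ∀ v, ν t v + v = 0 ∨ ν t v + v = ν t a + a ∨ ν t v + v = ν t b + b ∨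
  ν t v + v = ν t a + a + (ν t b + b)

namespace Md
variable (M : Md z Q H p φ β ν u u' σ)
include M

theorem conj (g : G) :
    Md (g * z * g⁻¹) (cj g Q) (cj g H) (fun x => p (g⁻¹ * x * g)) φ β (fun x => ν (g⁻¹ * x * g)) u u' σ :=
  ⟨M.F.conj g, M.hb, M.fu, fun _ hh => M.hu _ (mem_cj.1 hh), M.sS, M.sP, M.sO, fun k hk =>
    let ⟨h, hh, e⟩ := M.up k hk; ⟨_, conj_mem_cj g hh, by simpa [mul_assoc] using e⟩, fun _ hh => M.dn _ (mem_cj.1 hh)⟩

theorem sB (a b : W) : β (σ a) (σ b) = B a b := by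
  have := M.F.pol (σ a) (σ b)
  rw [← map_add, M.sS, M.sS, M.sS, SuzA.S_add] at this
  exact (add_left_cancel this).symm

theorem inj {a : W} (h : σ a = 0) : a = 0 := SuzA.nd a fun b => (M.sB a b).symm.trans (by simp [h])

theorem dec (x : V) : ∃ w c, InU u u' c ∧ x = σ w + c := by
  obtain ⟨c, hc, k1, k2⟩ := M.F.dec M.hb x
  obtain ⟨w, e⟩ := M.sO _ k1 k2
  exact ⟨w, c, hc, by rw [e, add_assoc, M.F.h2, add_zero]⟩

theorem pU (hv : InU u u' v) (h1 : β u w = 0) (h2 : β u' w = 0) : β v w = 0 := by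
  rcases hv with rfl | rfl | rfl | rfl <;> simp [h1, h2]

theorem hU (hh : h ∈ H) (hv : InU u u' v) : ν h v = v := by
  rcases hv with rfl | rfl | rfl | rfl <;> simp [M.hu h hh]

theorem U0 (hv : InU u u' v) (h1 : β u v = 0) : v = 0 ∨ v = u := by
  rcases hv with e | e | e | e <;> simp_all [M.hb, M.F.alt]

theorem U00 (hv : InU u u' v) (h1 : β u v = 0) (h2 : β u' v = 0) : v = 0 :=
  (M.U0 hv h1).resolve_right fun e => by rw [e, M.F.symm, M.hb] at h2; cases h2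

theorem g7 {s : W} (hs : S s = 0) (h1 : β (σ s) w = 0) (h : ∀ h ∈ H, ν h (σ s) = σ s → φ (ν h w + w) = 0) :
    ∃ c, InU u u' c ∧ (w = c ∨ w = σ s + c) := by
  obtain ⟨y, c, hc, rfl⟩ := M.dec w
  refine ⟨c, hc, ?_⟩
  by_contra n
  rw [map_add, M.F.symm _ c, M.pU hc (M.sP s).1 (M.sP s).2, add_zero, M.sB] at h1
  obtain ⟨g, hg, e, f⟩ := U6R.g7 hs h1 (fun e => n (.inl (by simp [e]))) fun e => n (.inr (by rw [e]))
  obtain ⟨k, hk, d⟩ := M.up g hg
  have := h k hk (by rw [d, e])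
  rw [map_add, d, M.hU hk hc, add_add_add_comm, M.F.h2, add_zero, ← map_add, M.sS, f] at this
  cases this

theorem cU (hc : Commute c z) (hv : InU u u' v) : InU u u' (ν c v) := by
  obtain ⟨d, hd, e | e⟩ := M.g7 (s := 0) (w := ν c v) (map_zero _) (by simp) fun h hh _ => by
    have := M.hU (M.F.nrm hc.inv_left hh) hv
    rw [M.F.nu_mul (hc.inv_left.mul_left (M.F.Hz hh)) hc.inv_left.inv_left, M.F.nu_mul hc.inv_left (M.F.Hz hh), inv_inv] at this
    rw [← M.F.nu_inv' hc (ν h _), this, M.F.h2, M.F.phi0]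
  all_goals simpa [e] using hd

theorem c6 (hc : Commute c z) (h1 : β u v = 0) (h2 : β u' v = 0) : β u (ν c v) = 0 ∧ β u' (ν c v) = 0 := by
  rw [← M.F.nu_inv' hc u, ← M.F.nu_inv' hc u', M.F.nu_beta hc, M.F.nu_beta hc]
  exact ⟨M.pU (M.cU hc.inv_left (.inr (.inl rfl))) h1 h2, M.pU (M.cU hc.inv_left (.inr (.inr (.inl rfl)))) h1 h2⟩

theorem fixU (hc : Commute c z) (hv : InU u u' v) (h : φ (ν c v + v) = 0) : ν c v = v := by
  rw [M.F.pol, M.F.nu_phi hc, z2_add, zero_add] at h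
  have n : ν c v = 0 ↔ v = 0 := ⟨fun e => by rw [← M.F.nu_inv hc v, e, map_zero], fun e => by rw [e, map_zero]⟩
  have k := M.cU hc hv
  have b := M.hb
  have b' := M.F.symm u' u ▸ b
  have n1 : u ≠ 0 := fun e => by simp [e] at b
  have n2 : u' ≠ 0 := fun e => by simp [e] at b
  have n3 : u + u' ≠ 0 := fun e => by rw [eq_of_add M.F.h2 e, M.F.alt] at b; cases b
  generalize ν c v = w at *
  rcases hv with rfl | rfl | rfl | rfl <;> rcases k with rfl | rfl | rfl | rfl <;> simp_all [M.F.alt]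

theorem rk_of (hc : ∀ v, InU u u' v → ν t v = v) (f : W → W) (hf : ∀ w, ν t (σ w) + σ w = σ (f w))
    (h : ∀ a b c, f a = 0 ∨ (f b = 0 ∨ f b = f a) ∨ f c = 0 ∨ f c = f a ∨ f c = f b ∨ f c = f a + f b) : Rk ν t := by
  refine two_gen (ν t + AddMonoidHom.id V) fun a b c => ?_
  have k : ∀ x, ∃ w, (ν t + AddMonoidHom.id V) x = σ (f w) := fun x => by
    obtain ⟨w, c, h, rfl⟩ := M.dec x
    exact ⟨w, by rw [map_add, ← hf]; show _ + (ν t c + c) = _; rw [hc c h, M.F.h2, add_zero]; rfl⟩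
  obtain ⟨⟨a, ha⟩, ⟨b, hb⟩, c, hc⟩ := And.intro (k a) (And.intro (k b) (k c))
  rw [ha, hb, hc, ← map_add, ← map_zero σ]
  exact (h a b c).imp (congrArg σ) (Or.imp (Or.imp (congrArg σ) (congrArg σ)) (Or.imp (congrArg σ)
    (Or.imp (congrArg σ) (Or.imp (congrArg σ) (congrArg σ)))))

theorem rank (ht : t ∈ H) (tt : t * t = 1) : Rk ν t := by
  obtain ⟨g, hg, e⟩ := M.dn t ht
  refine M.rk_of (fun v => M.hU ht) (fun w => g.1 w + w) (fun w => by rw [e, map_add]) (rk2 hg fun w => ?_)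
  refine eq_of_add W_add (M.inj ?_)
  rw [map_add, ← e, ← e, M.F.nu_nu (M.F.Hz ht) tt, M.F.h2]

theorem rank' (ht : Commute t z) (h : ∀ v, φ (ν t v + v) = 0) : Rk ν t := by
  have : ∀ w, ∃ w', σ w' = ν t (σ w) + σ w := fun w => M.sO _
    (by rw [map_add, (M.sP w).1, (M.c6 ht (M.sP w).1 (M.sP w).2).1, add_zero])
    (by rw [map_add, (M.sP w).2, (M.c6 ht (M.sP w).1 (M.sP w).2).2, add_zero])
  choose f hf using this
  have s : ∀ a, S (f a) = 0 := fun a => by rw [← M.sS, hf, h]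
  have b : ∀ a b, B (f a) (f b) = 0 := fun a b => by
    have := h (σ a + σ b)
    rwa [map_add, add_add_add_comm, ← hf, ← hf, M.F.pol, M.sS, M.sS, s, s, M.sB, zero_add, zero_add] at this
  exact M.rk_of (fun v hv => M.fixU ht hv (h v)) f (fun w => (hf w).symm) fun a b' c =>
    ts4 (s a) (s b') (s c) (b _ _) (b _ _) (b _ _)

end Md

end Cfsg.Agent.U6R
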