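import Cfsg.Agent.U6R.Loc

/-! Natural frames (helper24): a conjugate of `z` commuting with `z` lies in the linear part (`PD.out`). -/

set_option autoImplicit false
set_option linter.unusedSectionVars false

namespace Cfsg.Agent.U6R

open Cfsg.Agent.Fischer Cfsg.Agent.FI Cfsg.Agent.Classical Subgroup Cfsg.Agent.BG Cfsg.Agent.LES Cfsg.Agent.PGrp Module

variable {F : Type*} [Field F] [Fintype F] [hF : Fact (Fintype.card F = 2 ^ 2)]
variable {G : Type*} [Group G] [Finite G] {z t s x y a b g : G} {Q H P K : Subgroup G} {p p' : G → Fin 4 → F}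
  {φ : (Fin 4 → F) → ZMod 2} {β : (Fin 4 → F) →+ (Fin 4 → F) →+ ZMod 2} {ν ν' : G → (Fin 4 → F) →+ (Fin 4 → F)}
  {u v w n : Fin 4 → F} {c : F} {D : Set G}

theorem NF.hn_sem (N : NF z Q H p φ β ν) (hg : Commute g z) (n : g ∉ H) (u v : Fin 4 → F) :
    hn (ν g u) (ν g v) = hn u v ^ 2 := by
  have a := (N.hβ (ν g u) (ν g v)).trans ((congrArg _ (N.nu_beta hg u v)).trans (N.hβ u v).symm)
  have b := (N.hβ (ν g (om F ^ 2 • u)) (ν g v)).trans ((congrArg _ (N.nu_beta hg _ v)).trans (N.hβ _ v).symm)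
  rw [N.sem hg n, f4_pow4, ← hC (om F • ν g u), ← hC (om F ^ 2 • u), hSl, hSl] at b
  rw [← hC (ν g u), ← hC u] at a
  have := f4_pow4 (hn u v)
  have o := f4_pow4 (om F)
  refine eq_of_add f4_add_self (tr_zero ?_ ?_)
  · linear_combination a + this + (hn u v + hn u v ^ 2 + hn (ν g u) (ν g v) * hn u v ^ 2) * f4_two (F := F)
  · linear_combination b + om F ^ 2 * this + hn u v ^ 2 * o +
      (om F ^ 2 * hn u v + om F * hn u v ^ 2 + om F ^ 2 * hn (ν g u) (ν g v) * hn u v ^ 2) * f4_two (F := F)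

theorem PD.out (M : PD D z t Q P) (N : NF z Q H p φ β ν) {V' : Type*} [AddCommGroup V'] [Finite V'] {p' : G → V'}
    {φ' : V' → ZMod 2} {β' : V' →+ V' →+ ZMod 2} {ν' : G → V' →+ V'} (F' : Fm t P K p' φ' β' ν') : t ∈ H := by
  classical
  by_contra ht
  have tt := M.tt
  have sm := N.sem M.c ht
  have hk : ∀ w, ν t w = w → w = ν t (om F • w) + om F • w := fun w h => by
    rw [sm, h, ← add_smul, add_comm, om_tr, one_smul]
  have dec : ∀ x, ∃ a b, ν t a = a ∧ ν t b = b ∧ x = a + om F • b := fun x =>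
    ⟨(ν t (om F • x) + om F • x) + (ν t x + x), _, by rw [map_add, N.fixN M.c tt, N.fixN M.c tt], N.fixN M.c tt x, by
      rw [sm, om_sq]; ext i; simp only [Pi.add_apply, Pi.smul_apply, smul_eq_mul]
      linear_combination (-(om F + 1) * ν t x i - om F * x i) * f4_two (F := F)⟩
  have bW : ∀ u v, ν t u = u → ν t v = v → β u v = 0 := fun u v h k => by
    rw [hk v k, ← N.adj M.c tt, h, N.h2, map_zero, AddMonoidHom.zero_apply]
  have hW : ∀ u v, ν t u = u → ν t v = v → hn u v = 0 ∨ hn u v = 1 := fun u v h k =>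
    f4_01 (eq_of_add f4_add_self (N.b0.1 (bW u v h k))).symm
  have fY : ∀ y ∈ P, y ∈ Q → ν t (p y) = p y := fun y h1 h2 => N.nu_fix M.c h2 (M.hP.zc y h1).symm
  have fin : (∀ y ∈ Q, y ∈ P → y = 1) → ∀ w0, ν t w0 = w0 → (∀ w, ν t w = w → φ w = 0 ∨ φ (w + w0) = 0) → False :=
    fun hY w0 h0 h1 => by
      have fx : ∀ b : ((P ⊓ C1[z]) ⊓ H : Subgroup G), ∀ w, ν t w = w → φ w = 0 → ν b w = w := fun b w k1 k2 => by
        obtain ⟨x, hx, rfl⟩ := N.surj w
        obtain ⟨y, a1, a2, e⟩ := M.act_B N.toFm hx (N.cen_N M.c tt hx (hk _ k1) k2).symm b.2.1.1 (N.Hz b.2.2)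
        rw [hY y a1 a2, N.p1] at e
        exact eq_of_add N.h2 e.symm
      have ad : ∀ b : ((P ⊓ C1[z]) ⊓ H : Subgroup G), ∀ u v, hn (ν b u + u) v = hn u (ν b v + v) := fun b =>
        N.adjH b.2.2 (N.nu_sq (N.Hz b.2.2) (by
          rw [(M.hP.sq _ b.2.1.1).resolve_right fun e => ht (e ▸ mul_mem b.2.2 b.2.2)]; exact one_mem _))
      have := Nat.card_le_card_of_injective (fun b : ((P ⊓ C1[z]) ⊓ H : Subgroup G) => decide (hn (ν b w0 + w0) w0 = 0))
        fun b b' e => by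
          have aT : ∀ u v, hn (ν b u + ν b' u) v = hn u (ν b v + ν b' v) := fun u v => by
            have k1 := ad b u v
            have k2 := ad b' u v
            simp only [hAl, hAr] at k1 k2 ⊢
            linear_combination k1 + k2
          have k : hn (ν b w0 + ν b' w0) w0 = 0 := by
            have := two_ne (f4_01 (by rw [hC, ad])) (f4_01 (by rw [hC, ad])) (decide_eq_decide.1 e)
            simp only [hAl] at this ⊢
            linear_combination this - hn w0 w0 * f4_two (F := F)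
          have T0 : ∀ w, ν t w = w → φ w = 0 → ν b w + ν b' w = 0 := fun w k1 k2 => by rw [fx b w k1 k2, fx b' w k1 k2, N.h2]
          have T1 : ∀ w, ν t w = w → hn (ν b w0 + ν b' w0) w = 0 := fun w k1 => by
            rcases h1 w k1 with k2 | k2
            · rw [aT, T0 w k1 k2]; simp
            · rw [← c2' N.h2 w0 w, hAr, k, aT, add_comm w0, T0 _ (by rw [map_add, k1, h0]) k2]; simp
          have T2 : ν b w0 + ν b' w0 = 0 := eq_zero_of_herm_eq_zero (q := 2) fun x => by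
            obtain ⟨a, a', k1, k2, rfl⟩ := dec x
            simp [T1 a k1, T1 a' k2]
          have T3 : ∀ w, ν t w = w → ν b w = ν b' w := fun w k1 => eq_of_add N.h2 (by
            rcases h1 w k1 with k2 | k2
            · exact T0 w k1 k2
            · have := T0 _ (by rw [map_add, k1, h0]) k2
              rwa [map_add, map_add, add_add_add_comm, T2, add_zero] at this)
          have cb := N.Hz b.2.2
          have cb' := N.Hz b'.2.2
          refine Subtype.ext (inv_mul_eq_one.1 (hY _ (N.ker (cb.inv_left.mul_left cb') fun x => ?_)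
            (mul_mem (inv_mem b.2.1.1) b'.2.1.1)))
          obtain ⟨a, a', k1, k2, e⟩ := dec x
          rw [N.nu_mul cb.inv_left cb', ← show ν b x = ν b' x from ?_, N.nu_inv cb]
          rw [e, map_add, map_add, N.lin b.2.2, N.lin b'.2.2, T3 a k1, T3 a' k2]
      have a2 := half (B := P ⊓ C1[z]) (S := H) fun a ha b hb => N.two (mem_cent1.1 ha.2) (mem_cent1.1 hb.2)
      have a3 := F'.card16 M.c.symm N.zz
      simp only [Nat.card_eq_fintype_card, Fintype.card_bool] at this a2 a3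
      omega
  by_cases hc : ∀ w, ν t w = w → φ w = 0
  swap
  · push Not at hc
    obtain ⟨w0, h0, h1⟩ := hc
    obtain ⟨x, hx, rfl⟩ := N.surj w0
    have k := M.tzD N.toFm hx h0 fun c => by
      obtain ⟨x', -, -, k⟩ := N.cj_or M.c tt hx (hk _ h0)
      have s : x' * t * x'⁻¹ * (x' * t * x'⁻¹) = 1 := by rw [conj_mul, tt]; simp
      refine h1 ((N.sq hx).2 ?_)
      rcases k with k | k <;> rw [k] at s
      · rwa [c.symm.mul_mul_mul_comm, tt, one_mul] at s
      · rwa [(M.c.mul_left (N.Qz hx)).symm.mul_mul_mul_comm, N.zz, mul_one, c.symm.mul_mul_mul_comm, tt, one_mul] at s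
    exact fin (fun y a b => M.k3 N.toFm k a b (hk _ (fY y b a))) _ h0 fun w hw => (z2_cases _).imp_right fun e => by
      rw [N.pol, e, z2_ne h1, bW _ _ hw h0]; decide
  refine fin (fun y hy hy' => by_contra fun n => ?_) 0 (map_zero _) fun w hw => .inl (hc w hw)
  have fy := fY y hy' hy
  have iy : Ison (p y) := ⟨mt (M.p_ne N.toFm hy hy') n, N.f0.1 (hc _ fy)⟩
  have Y : ∀ e, ν t e = e → hn (p y) e = 1 → ∃ y' ∈ Q, y' ∈ P ∧ p y' = e := fun e k1 k2 => by
    have fw : ν t (p y + e) = p y + e := by rw [map_add, fy, k1]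
    have k3 : hn (p y) (p y + e) = 1 := by rw [hAr, iy.2, k2, zero_add]
    obtain ⟨g, hg, eg⟩ := N.tv _ ⟨fun h => by simp [h] at k3, N.f0.1 (hc _ fw)⟩
    obtain ⟨q, hq, cq⟩ := M.liftT N.toFm (M.k4 N.toFm hy hy' n (hk _ fy)).2 (fun w h _ => ⟨_, hk w h⟩)
      (fun y _ a b => by rw [hc _ b] at a; cases a) (N.Hz hg) fun v => by
        rw [eg, eg, tvn, tvn, (ν t).map_add v, sm, ← N.hn_sem M.c ht, fw]
    have cz := (N.Qz hq).mul_left (N.Hz hg)
    exact ⟨_, N.cjm cz hy, M.hP.conj_mem cq hy', by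
      rw [N.act cz hy, N.nu_mul (N.Qz hq) (N.Hz hg), N.nu_Q hq, eg, tvn, k3, one_smul, c2' N.h2]⟩
  obtain ⟨e, e1, e2⟩ : ∃ e, ν t e = e ∧ hn (p y) e = 1 := by
    obtain ⟨x, hx⟩ := not_forall.1 (mt (eq_zero_of_herm_eq_zero (q := 2)) iy.1)
    obtain ⟨a, a', k1, k2, rfl⟩ := dec x
    rcases hW _ _ fy k1 with k | k
    · exact ⟨a', k2, (hW _ _ fy k2).resolve_left fun k' => hx (by simp [k, k'])⟩
    · exact ⟨a, k1, k⟩
  obtain ⟨d, d1, d2, d3, d4⟩ : ∃ d, ν t d = d ∧ hn (p y) d = 0 ∧ d ≠ 0 ∧ d ≠ p y := by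
    obtain ⟨w, w', -, -, c1, c2, c3⟩ := hyp iy
    obtain ⟨a, a', k1, k2, rfl⟩ := dec w
    rw [hn_comm, hAr, hSr] at c1
    have o := om_sq (F := F)
    have o1 := om_ne_zero (F := F)
    have o2 := om_add_one_ne_zero (F := F)
    obtain ⟨b1, b2⟩ : hn (p y) a = 0 ∧ hn (p y) a' = 0 := by
      rcases hW _ _ fy k1 with k | k <;> rcases hW _ _ fy k2 with k' | k' <;> rw [k, k', o] at c1
      exacts [⟨k, k'⟩, absurd (by linear_combination c1) o2, absurd (by linear_combination c1) (one_ne_zero' F),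
        absurd (by linear_combination c1 - f4_two (F := F)) o1]
    by_contra k
    push Not at k
    have f : ∀ a, ν t a = a → hn (p y) a = 0 → hn a w' = 0 := fun a k1 k2 => by
      by_cases k3 : a = 0
      · simp [k3]
      · rw [k a k1 k2 k3]; exact hn_comm.1 c2
    simp [f a k1 b1, f a' k2 b2] at c3
  obtain ⟨y1, a1, a2, a3⟩ := Y e e1 e2
  obtain ⟨y2, b1, b2, b3⟩ := Y (e + d) (by rw [map_add, e1, d1]) (by rw [hAr, e2, d2, add_zero])
  have e' : p (y1 * y2) = d := by rw [N.add a1 b1, a3, b3, c2' N.h2]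
  have := M.k6 N.toFm hy hy' (mul_mem a1 b1) (mul_mem a2 b2) n (fun h => d3 (by rw [← e', h, N.p1]))
    (e' ▸ d4.symm) (hk _ fy) (e'.trans (hk _ d1))
  rw [N.b_of (by simp [d2])] at this
  cases this

end Cfsg.Agent.U6R
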