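import Cfsg.Agent.U6R.Cp

/-! Uniqueness of the component (`GD.u4`, `GD.main`) (helper24, after `Fischer.Cmp`). -/

set_option autoImplicit false
set_option linter.unusedSectionVars false

namespace Cfsg.Agent.U6R

open Cfsg.Agent.Fischer Cfsg.Agent.FI Cfsg.Agent.Classical Subgroup Cfsg.Agent.BG Cfsg.Agent.LES Cfsg.Agent.PGrp Module

variable {F : Type*} [Field F] [Fintype F] [hF : Fact (Fintype.card F = 2 ^ 2)]
variable {G : Type*} [Group G] [Finite G] {x y a b c g t : G} {D : Set G} {l : List G}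

namespace GD
variable (h : GD F D)
include h

theorem fixc (hx : x ∈ D) (hg : g ∈ cstab (Cp D x)) (s : g * g = 1) : ∃ y ∈ Cp D x, Commute g y := by
  obtain ⟨y, hy, e⟩ := fix_of_odd (h.odd hx) _ (KMap.conj (h.cp_wt hx) (mem_cstab.1 hg)) fun y _ => by
    rw [inv_eq_of_sq s]; simp only [← mul_assoc, s, one_mul]; rw [mul_assoc, s, mul_one]
  exact ⟨y, hy, mul_inv_eq_iff_eq_mul.1 e⟩

theorem u1 (hx : x ∈ D) (hy : y ∈ D) (hg : y ∈ cstab (Cp D x)) : y ∈ Cp D x :=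
  let ⟨_, hv, c⟩ := h.fixc hx hg (h.sq y hy); h.step hx hv hy c.symm

theorem dih' (hx : x ∈ D) (hy : y ∈ D) : ∃ g ∈ zpowers (x * y), Commute x (g * y * g⁻¹) ∧
    (g * y * g⁻¹ = x ∨ Commute (x * (g * y * g⁻¹)) y) := by
  have s := h.sq x hx
  obtain ⟨g, hg, e | ⟨z, z1, z2, z3, z4, e | ⟨rfl, e, k, hk⟩⟩⟩ := dih s (h.sq y hy)
  · exact ⟨g, hg, e ▸ .refl x, .inl e⟩
  · exact ⟨g, hg, e ▸ (Commute.refl x).mul_right z3, .inr (by rw [e, ← mul_assoc, s, one_mul]; exact z4.symm)⟩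
  have e1 : g * x * g⁻¹ = x * (g⁻¹ * g⁻¹) := by rw [← mul_assoc, ← e]; simp only [← mul_assoc, s, one_mul]
  have m : x * g ∈ Cp D x := h.u1 hx (hk.elim (· ▸ h.conj k x hx) (· ▸ h.conj k y hy))
    (mul_mem (h.nm' hx (LD.self hx) (.refl x)) (h.nm hx (LD.self hx)
      (h.step hx (LD.self hx) (h.conj g x hx) (e1 ▸ (Commute.refl x).mul_right z3))))
  have e2 : g * x = x * g⁻¹ := by rw [← e]; simp only [← mul_assoc, s, one_mul]
  obtain c | c := (h.cp_wt hx).br x (LD.self hx) _ m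
  · rw [Commute, SemiconjBy, mul_assoc, mul_right_inj, e2, mul_right_inj] at c
    exact absurd (by rw [← c]; nth_rw 1 [c]; exact inv_mul_cancel g) z1
  · rw [Br, ← mul_assoc, s, one_mul, mul_assoc, ← mul_assoc x, s, one_mul, e2, mul_assoc, mul_right_inj] at c
    refine absurd ?_ z1
    rw [show g⁻¹ = 1 by rw [← z2]; nth_rw 4 [c]; group, one_mul]

theorem cl_conj (hx : x ∈ D) (hb : b ∈ D) (hl : CL (Cp D b) l) (ha : a ∈ Cp D b) (m : g * a * g⁻¹ ∈ Cp D x) :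
    CL (Cp D x) (l.map fun v => g * v * g⁻¹) := ⟨hl.1.map fun _ _ => (conj_inj g).1, by
  simpa only [List.forall_mem_map] using fun v hv =>
    h.trans hx m (h.cp_conj g (h.trans ha.1 (LD.symm hb ha) (hl.2.1 v hv))), by
  simpa only [List.forall_mem_map, commute_conj_iff] using hl.2.2⟩

theorem fac (hx : x ∈ D) (hb : b ∈ D) (hl : CL (Cp D x) l) (h3 : l.length ≤ 3) (n : l ≠ [])
    (m : l.prod ∈ cstab (Cp D b)) (hy : y ∈ Cp D x) (cy : Commute y l.prod)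
    (ny : ∀ k, CL (Cp D x) k → k.length ≤ 3 → l.prod = k.prod → y ∉ k) :
    ∃ a, (a ∈ l ∨ a ∈ Dl (Cp D x) l ∧ ∀ v ∈ Dl (Cp D x) l, Commute v a) ∧ CL (Cp D x) [y, a] ∧
      y * a ∈ cstab (Cp D b) := by
  have key : ∀ a ∈ D, Commute a l.prod → ∃ g, Commute g l.prod ∧ Commute y (g * a * g⁻¹) ∧
      (g * a * g⁻¹ = y ∨ Commute (y * (g * a * g⁻¹)) a) := fun a ha c => by
    obtain ⟨_, ⟨k, rfl⟩, e⟩ := h.dih' hy.1 ha
    exact ⟨_, (cy.mul_left c).zpow_left k, e⟩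
  obtain ⟨a0, h0, c0⟩ := h.fixc hb m (hl.prod_sq (h.cp_wt hx))
  obtain ⟨g0, c1, c2, -⟩ := key a0 h0.1 c0.symm
  have r1 := h.cl_conj (g := g0⁻¹) hb hx hl (h.step hx hy (h.conj g0 a0 h0.1) c2) (by simpa [mul_assoc] using h0)
  have r3 := (prod_map_conj g0⁻¹ l).trans (conj_eq_of_commute c1.inv_left)
  have r2 : (l.map fun v => g0⁻¹ * v * g0⁻¹⁻¹).length ≤ 3 := by simpa using h3
  obtain ⟨a, r, e⟩ := List.exists_cons_of_ne_nil (l := l.map fun v => g0⁻¹ * v * g0⁻¹⁻¹) (by simpa using n)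
  rw [e] at r1 r2 r3
  have ha := r1.2.1 a (by simp)
  obtain ⟨g, cg, c, e⟩ := key a ha.1 (r3 ▸ CL.comm_prod (r1.2.2 a (by simp)))
  have m1 := h.step hx hy (h.conj g a ha.1) c
  have k := h.cl_conj hx hb r1 ha m1
  have e3 : l.prod = ((a :: r).map fun v => g * v * g⁻¹).prod := by rw [prod_map_conj, r3, conj_eq_of_commute cg]
  have ne : g * a * g⁻¹ ≠ y := fun E => ny _ k (by simpa using r2) e3 (by simp [E])
  exact ⟨_, hl.cent_of_prod (h.cp_wt hx) k (by simpa using r2) e3 (g * a * g⁻¹) (by simp), cl_two hy m1 ne.symm c,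
    h.nm' hb ha (e.resolve_left ne)⟩

theorem fac' (hx : x ∈ D) (hb : b ∈ D) (hl : CL (Cp D x) l) (h3 : l.length ≤ 3) (n : l ≠ [])
    (m : l.prod ∈ cstab (Cp D b)) {y' : G} (hy : y ∈ Dl (Cp D x) l) (hy' : y' ∈ Dl (Cp D x) l) (ny : ¬ Commute y' y) :
    ∃ a, (a ∈ l ∨ a ∈ Dl (Cp D x) l ∧ ∀ v ∈ Dl (Cp D x) l, Commute v a) ∧ CL (Cp D x) [y, a] ∧
      y * a ∈ cstab (Cp D b) :=
  h.fac hx hb hl h3 n m hy.1 (CL.comm_prod fun v hv => (hy.2.2 v hv).symm) fun _ k1 k2 k3 k4 =>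
    (hl.cent_of_prod (h.cp_wt hx) k1 k2 k3 y k4).elim hy.2.1 fun o => ny (o.2 y' hy')

theorem u2 (hx : x ∈ D) (hb : b ∈ D) (hl : CL (Cp D x) [a, c]) (m : a * c ∈ cstab (Cp D b)) : b ∈ Cp D x := by
  have W := h.cp_wt hx
  obtain ⟨ma, k⟩ := cl_cons.1 hl
  have d := h.dd_cp hx ma
  obtain ⟨R, L⟩ := h.lg a ma.1
  obtain ⟨n, hn'⟩ := L.ex (d ▸ k.2.1 c (by simp))
  obtain ⟨s, y', w, w', b1, b2, c1, c2, c3⟩ := L.nc2 hn'
  have cy' := (L.cm b2 hn').2 c2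
  have dl : ∀ {y v}, R y v → hn v n = 0 → y ≠ c → y ∈ Dl (Cp D x) [a, c] := fun hy e ne =>
    ⟨(d.ge (L.mem hy)).1, by simp [ne, (L.mem hy).2.1], by simp [(L.mem hy).2.2, ((L.cm hy hn').2 e).symm]⟩
  have m' := dl b2 c2 fun e => L.nc b1 b2 c3 (e ▸ (L.cm b1 hn').2 c1)
  have key : ∀ y, R y w → y * y' ∈ cstab (Cp D b) := fun y hy => by
    have nc := L.nc hy b2 c3
    have my := dl hy c1 fun e => nc (e ▸ cy'.symm)
    obtain ⟨u, o, k1, k2⟩ := h.fac' hx hb hl (by simp) (by simp) (by simpa using m) my m' fun c => nc c.symm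
    obtain ⟨u', o', k1', k2'⟩ := h.fac' hx hb hl (by simp) (by simp) (by simpa using m) m' my nc
    have f : ∀ {u v}, (u ∈ [a, c] ∨ u ∈ Dl (Cp D x) [a, c] ∧ ∀ v ∈ Dl (Cp D x) [a, c], Commute v u) →
        v ∈ Dl (Cp D x) [a, c] → Commute u v := fun o hv => o.elim (hv.2.2 _) fun o => (o.2 _ hv).symm
    have uu : Commute u u' := o'.elim (fun o' => o.elim (fun o => hl.2.2 _ o _ o') fun o => (o.1.2.2 _ o').symm)
      fun o' => f o o'.1
    have := pow_mem (mul_mem k2 k2') 4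
    rwa [(f o m').mul_mul_mul_comm, (((f o my).mul_right (f o m')).mul_left ((f o' my).mul_right (f o' m'))).symm.mul_pow,
      pow_succ (y * y'), (br_iff_cube (W.sq y my.1) (W.sq y' m'.1)).1 ((W.br y my.1 y' m'.1).resolve_left nc), one_mul,
      show 4 = 2 * 2 from rfl, pow_mul, (commute_iff_sq (W.sq u (k1.2.1 u (by simp))) (W.sq u' (k1'.2.1 u' (by simp)))).1 uu,
      one_pow, mul_one] at this
  obtain ⟨f, -, k, -, e⟩ := L.four b1
  have t : ∀ i j, f i * f j ∈ cstab (Cp D b) := fun i j => by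
    have := mul_mem (key _ (k i)) (inv_mem (key _ (k j)))
    rwa [mul_inv_rev, mul_assoc, mul_inv_cancel_left, inv_eq_of_sq (h.sq _ (L.mem (k j)).1)] at this
  exact h.trans hx ma (LD.symm hb (h.u1 hb ma.1 (e ▸ mul_mem (t _ _) (t _ _))))

theorem nc2 (hx : x ∈ D) (hl : CL (Cp D x) l) (h2 : l.length ≤ 2) :
    ∃ u ∈ Cp D x, ∃ v ∈ Cp D x, ¬ Commute u v ∧ ∀ a ∈ l, Commute u a ∧ Commute v a := by
  have f : ∀ a ∈ Cp D x, ∀ c ∈ Dd D a, ∃ u ∈ Cp D x, ∃ v ∈ Cp D x, ¬ Commute u v ∧ ∀ e ∈ [a, c], Commute u e ∧ Commute v e :=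
    fun a ha c hc => by
      obtain ⟨R, L⟩ := h.lg a ha.1
      obtain ⟨n, k⟩ := L.ex hc
      obtain ⟨s, y', w, w', b1, b2, c1, c2, c3⟩ := L.nc2 k
      exact ⟨s, ((h.dd_cp hx ha).ge (L.mem b1)).1, y', ((h.dd_cp hx ha).ge (L.mem b2)).1, L.nc b1 b2 c3, by
        simp [(L.mem b1).2.2.symm, (L.mem b2).2.2.symm, (L.cm b1 k).2 c1, (L.cm b2 k).2 c2]⟩
  have f1 : ∀ a ∈ Cp D x, ∃ u ∈ Cp D x, ∃ v ∈ Cp D x, ¬ Commute u v ∧ Commute u a ∧ Commute v a := fun a ha => by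
    obtain ⟨R, L⟩ := h.lg a ha.1
    obtain ⟨c, _, k⟩ := L.ne
    obtain ⟨u, hu, v, hv, n, k⟩ := f a ha c (k.2.1 c (by simp))
    exact ⟨u, hu, v, hv, n, k a (by simp)⟩
  rcases l with _ | ⟨a, _ | ⟨c, _ | _⟩⟩
  · obtain ⟨u, hu, v, hv, n, -⟩ := f1 x (LD.self hx)
    exact ⟨u, hu, v, hv, n, by simp⟩
  · simpa using f1 a (hl.2.1 a (by simp))
  · obtain ⟨ma, k⟩ := cl_cons.1 hl
    exact f a ma c (h.dd_cp hx ma ▸ k.2.1 c (by simp))
  · simp at h2

theorem u3 (hx : x ∈ D) (hb : b ∈ D) (n : t ≠ 1) (s : t * t = 1) (m1 : t ∈ closure (Cp D x))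
    (m2 : t ∈ cstab (Cp D b)) : b ∈ Cp D x := by
  classical
  have W := h.cp_wt hx
  obtain ⟨l, l1, l2, l3⟩ := (h.comp hx).1 t m1 fun _ _ => s ▸ .one_left _
  obtain rfl : t = l.prod := by rw [eq_inv_of_mul_eq_one_left (h.zen hx l3), inv_eq_of_sq (l1.prod_sq W)]
  rcases l with _ | ⟨a, _ | ⟨c, _ | ⟨e, _ | _⟩⟩⟩
  · exact absurd rfl n
  · have := l1.2.1 a (by simp)
    exact h.trans hx this (LD.symm hb (h.u1 hb this.1 (by simpa using m2)))
  · exact h.u2 hx hb l1 (by simpa using m2)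
  swap
  · simp at l2; omega
  obtain ⟨ma, k⟩ := cl_cons.1 l1
  have d := h.dd_cp hx ma
  obtain ⟨R, L⟩ := h.lg a ma.1
  obtain ⟨m, hm⟩ := L.ex (d ▸ k.2.1 c (by simp))
  obtain ⟨m', hm'⟩ := L.ex (d ▸ k.2.1 e (by simp))
  have mm := (L.cm hm hm').1 (k.2.2 c (by simp) e (by simp))
  by_cases p : ∃ r : F, m' = r • m
  · obtain ⟨r, rfl⟩ := p
    obtain ⟨y, y', w, w', b1, b2, c1, c2, c3⟩ := L.nc2 hm
    have dl : ∀ {y v y' v'}, R y v → hn v m = 0 → R y' v' → hn v' m = 0 → ¬ Commute y y' → y ∈ Dl (Cp D x) [a, c, e] :=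
      fun hy e1 hy' e2 ne => by
        have f : ∀ {y v}, R y v → hn v m = 0 → Commute c y ∧ Commute e y := fun hy e1 =>
          ⟨((L.cm hy hm).2 e1).symm, ((L.cm hy hm').2 (by simp [e1])).symm⟩
        exact ⟨(d.ge (L.mem hy)).1, by
          simp only [List.mem_cons, List.not_mem_nil, or_false, not_or]
          exact ⟨(L.mem hy).2.1, fun e => ne (e ▸ (f hy' e2).1), fun e => ne (e ▸ (f hy' e2).2)⟩,
          by simp [(L.mem hy).2.2, f hy e1]⟩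
    have nc := L.nc b1 b2 c3
    obtain ⟨v, -, k1, k2⟩ := h.fac' hx hb l1 l2 (by simp) m2 (dl b1 c1 b2 c2 nc) (dl b2 c2 b1 c1 fun c => nc c.symm)
      fun c => nc c.symm
    exact h.u2 hx hb k1 k2
  push Not at p
  obtain ⟨f, f1, f2, rfl, f4⟩ := L.four hm
  have cf : ∀ i j, Commute (f i) (f j) := fun i j => (L.cm (f2 i) (f2 j)).2 (L.iso hm).2
  have ce : ∀ i, Commute (f i) e := fun i => (L.cm (f2 i) hm').2 mm
  have mf := fun i => (d.ge (L.mem (f2 i))).1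
  have sf := fun i => W.sq _ (mf i)
  obtain ⟨r, i, r1, -, r2⟩ := exists_ison_sep (L.iso hm').2 mm mm fun s t e => p (s + t) (by rw [e, add_smul])
  obtain ⟨g, hg⟩ := L.sur i
  have ne : ∀ i, f i ≠ e := fun i E => r2 ((L.cm hm' hg).1 (E ▸ (L.cm (f2 i) hg).2 r1))
  have n2 : f (om F) ≠ f (1 + om F) := fun E => one_ne_zero (left_eq_add.1 ((f1 E).trans (add_comm _ _)))
  have l4 : CL (Cp D x) [f (om F), f (1 + om F), e] := ⟨by simp [ne, n2], by simp [mf, l1.2.1 e], by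
    simp [cf, ce, (ce _).symm]⟩
  obtain ⟨v, -, k1, k2⟩ := h.fac hx hb l1 l2 (by simp) m2 (mf 1) (CL.comm_prod (by
    simp [cf, ce, (L.mem (f2 1)).2.2.symm])) fun k k1 k2 k3 k4 => by
      obtain ⟨e1, e2, e3⟩ := k1.erase k4
      obtain ⟨u, hu, u', hu', nc, c⟩ := h.nc2 hx e1 (by omega)
      have e4 : (k.erase (f 1)).prod = [f (om F), f (1 + om F), e].prod := by
        rw [← mul_right_inj (f 1), ← e2, ← k3, ← f4]
        simp only [List.prod_cons, List.prod_nil, mul_one, ← mul_assoc, mul_left_inj]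
        rw [← (((cf 0 0).mul_right (cf 0 1)).mul_right (cf 0 _)).mul_right (cf 0 _) |>.eq]
        simp only [← mul_assoc, sf, one_mul]
      have q : ∀ {u u'}, u ∈ Cp D x → u' ∈ Cp D x → (∀ a ∈ k.erase (f 1), Commute u a) → (∀ a ∈ k.erase (f 1), Commute u' a) →
          Commute a u ∧ Commute (f (om F)) u ∧ Commute e u := fun {u u'} hu _ c _ => by
        have := l4.comm_of_prod W le_rfl hu (e4 ▸ CL.comm_prod c)
        simp only [List.mem_cons, List.not_mem_nil, or_false, forall_eq_or_imp, forall_eq] at this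
        exact ⟨h.ll ma.1 L (f2 _) (f2 _) n2 (fun _ => id) hu.1 this.1.symm this.2.1.symm, this.1.symm, this.2.2.symm⟩
      obtain ⟨a1, a2, a3⟩ := q hu hu' (fun a h => (c a h).1) fun a h => (c a h).2
      obtain ⟨b1, b2, b3⟩ := q hu' hu (fun a h => (c a h).2) fun a h => (c a h).1
      obtain ⟨w, hw⟩ := L.ex ⟨hu.1, fun e => nc (e ▸ b1), a1⟩
      obtain ⟨w', hw'⟩ := L.ex ⟨hu'.1, fun e => nc (e ▸ a1.symm), b1⟩
      exact nc ((L.cm hw hw').2 (dim4 (L.iso hm) (L.iso hm') mm p (L.iso hw).2 (L.iso hw').2 ((L.cm (f2 _) hw).1 a2)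
        ((L.cm (f2 _) hw').1 b2) ((L.cm hm' hw).1 a3) ((L.cm hm' hw').1 b3)))
  exact h.u2 hx hb k1 k2

theorem fact (hx : x ∈ D) (hg : g ∈ cstab (Cp D x)) : ∃ k ∈ closure (Cp D x), Commute (k * g) x :=
  let ⟨k, hk, e⟩ := h.cp_tr1 hx _ ((mem_cstab.1 hg x).2 (LD.self hx)) x (LD.self hx)
  ⟨k, hk, cj_eq_iff_comm.1 (by simpa [mul_assoc] using e)⟩

theorem sq_mem (hx : x ∈ D) (hg : g ∈ cstab (Cp D x)) : g * g ∈ closure (Cp D x) := by
  obtain ⟨k, hk, c⟩ := h.fact hx hg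
  have : g * k * g⁻¹ ∈ closure (Cp D x) := by
    have := mem_map_of_mem (MulAut.conj g).toMonoidHom hk
    rw [MonoidHom.map_closure] at this
    exact closure_mono (by rintro _ ⟨y, hy, rfl⟩; exact (mem_cstab.1 hg y).2 hy) this
  have := mul_mem (inv_mem (mul_mem hk this)) (h.le_cp hx (LD.self hx) (h.sqc x hx _ c))
  rwa [show (k * (g * k * g⁻¹))⁻¹ * (k * g * (k * g)) = g * g by group] at this

theorem u4 (hx : x ∈ D) (hb : b ∈ D) : b ∈ Cp D x := by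
  obtain ⟨R, L⟩ := h.lg b hb
  obtain ⟨c, _, k⟩ := L.ne
  have mc := k.2.1 c (by simp)
  have k : ∀ g, CL (Cp D (g * b * g⁻¹)) [g * b * g⁻¹, g * c * g⁻¹] := fun g =>
    cl_two (LD.self (h.conj g b hb)) (h.cp_conj g (h.step hb (LD.self hb) mc.1 mc.2.2)) (mt (conj_inj g).1 mc.2.1.symm)
      ((commute_conj_iff g).2 mc.2.2)
  have k1 : CL (Cp D b) [b, c] := by simpa using k 1
  have W := h.cp_wt hb
  have s : b * c * (b * c) = 1 := by simpa using k1.prod_sq W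
  have cb : Commute (b * c) b := (Commute.refl b).mul_left mc.2.2.symm
  have sx := h.sq x hx
  obtain ⟨g, -, e | ⟨z, z1, z2, z3, z4, o⟩⟩ := dih sx s
  · have m : b * c ∈ D := by simpa [← e, mul_assoc] using h.conj g⁻¹ x hx
    have n := h.cp_noC hb
    obtain ⟨y, hy, ny⟩ := n b (LD.self hb)
    have m1 := k1.2.1 c (by simp)
    have k2 : CL (Cp D b) [b * c, b, c] := cl_cons'.2 ⟨k1, h.step hb (LD.self hb) m cb.symm, by
      simp [ne_of_mem_of_not_mem m1 n.one_not_mem, ne_of_mem_of_not_mem (LD.self hb) n.one_not_mem], by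
      simp [cb.symm, mc.2.2.symm]⟩
    exact absurd (k2.comm_of_prod W le_rfl hy (by simp [s]) b (by simp)) ny
  have m := h.conj z b hb
  refine h.u3 hx hb z1 z2 ?_ (h.nm hb (LD.self hb) (h.u2 hb m k1
    (h.nm' m (LD.self m) ((z4.mul_right cb).mul_right z4.inv_right))))
  rcases o with e | ⟨rfl, e, -⟩
  · have mb := LD.symm (h.conj g b hb) (h.u2 (h.conj g b hb) hx (k g) (h.nm' hx (LD.self hx) (by
      rw [conj_mul, e]; exact (Commute.refl x).mul_left z3.symm)))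
    have := mul_mem (subset_closure (LD.self hx)) (mul_mem (subset_closure mb)
      (subset_closure (h.trans hx mb ((k g).2.1 (g * c * g⁻¹) (by simp)))))
    rwa [conj_mul, e, ← mul_assoc, sx, one_mul] at this
  have e1 : g * x * g⁻¹ = x * (g⁻¹ * g⁻¹) := by rw [← mul_assoc, ← e]; simp only [← mul_assoc, sx, one_mul]
  exact h.sq_mem hx (inv_mem (h.nm hx (LD.self hx)
    (h.step hx (LD.self hx) (h.conj g x hx) (e1 ▸ (Commute.refl x).mul_right z3))))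

theorem main (hx : x ∈ D) : Nonempty (closure D ≃* PSU 6 F 2) ∧ #(C1[x].subgroupOf (closure D)) = 2 ^ 15 * 405 ∧
    (∀ g, ∃ k ∈ closure D, Commute (k * g) x) ∧ ∀ g, (∀ y ∈ D, Commute g y) → g = 1 := by
  have e : Cp D x = D := Set.ext fun y => ⟨fun m => m.1, h.u4 hx⟩
  have := h.comp hx
  rw [e] at this
  exact ⟨this.2.1, this.2.2, fun g => e ▸ h.fact hx (h.nm hx (LD.self hx) (h.u4 hx (h.conj g x hx))),
    fun g k => h.zen hx fun y hy => k y hy.1⟩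

end GD

end Cfsg.Agent.U6R
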